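import Mathlib.Algebra.Homology.DerivedCategory.FullyFaithful
import Mathlib.Algebra.Homology.DerivedCategory.TStructure
import Mathlib.Algebra.Homology.DerivedCategory.HomologySequence
import Mathlib.CategoryTheory.Triangulated.TStructure.TruncLEGT

/-!
# Homology of truncations in the derived category
-/

universe w v u

open CategoryTheory CategoryTheory.Limits CategoryTheory.Pretriangulated DerivedCategory

namespace Groth.Agent.Lib.DerCat.TStruct

variable {A : Type u} [Category.{v} A] [Abelian A] [HasDerivedCategory.{w} A]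

/-- Objects concentrated in one degree: homology is faithful. -/
lemma eq_zero_of_homologyMap_eq_zero {X Y : DerivedCategory A} (n : ℤ) [X.IsGE n] [X.IsLE n]
    [Y.IsGE n] [Y.IsLE n] (f : X ⟶ Y) (hf : (homologyFunctor A n).map f = 0) : f = 0 := by
  obtain ⟨M, ⟨eX⟩⟩ := exists_iso_singleFunctor_obj_of_isGE_of_isLE X n
  obtain ⟨N, ⟨eY⟩⟩ := exists_iso_singleFunctor_obj_of_isGE_of_isLE Y n
  obtain ⟨φ, hφ⟩ := (singleFunctor A n).map_surjective (eX.inv ≫ f ≫ eY.hom)
  have h1 : (homologyFunctor A n).map ((singleFunctor A n).map φ) = 0 := by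
    rw [hφ, Functor.map_comp, Functor.map_comp, hf, zero_comp, comp_zero]
  have h2 : φ = 0 := by
    have := NatIso.naturality_1 (singleFunctorCompHomologyFunctorIso A n) φ
    rw [← show (𝟭 A).map φ = φ from rfl, ← this]
    simp [h1]
  rw [← cancel_epi eX.inv, ← cancel_mono eY.hom, Category.assoc, ← hφ, h2, Functor.map_zero,
    comp_zero, zero_comp]

variable (T : Triangle (DerivedCategory A)) (hT : T ∈ distTriang (DerivedCategory A)) (b : ℤ)
include hT

lemma isIso_homologyMap_mor₁ [T.obj₃.IsGE b] (i : ℤ) (hi : i < b) :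
    IsIso ((homologyFunctor A i).map T.mor₁) := by
  have h3 : ∀ j, j < b → IsZero ((homologyFunctor A j).obj T.obj₃) :=
    fun j hj => isZero_of_isGE _ b j hj
  have : Epi ((homologyFunctor A i).map T.mor₁) :=
    (HomologySequence.epi_homologyMap_mor₁_iff T hT i).2 ((h3 i hi).eq_of_tgt _ _)
  have : Mono ((homologyFunctor A i).map T.mor₁) :=
    (HomologySequence.mono_homologyMap_mor₁_iff T hT (i - 1) i (by omega)).2
      ((h3 (i - 1) (by omega)).eq_of_src _ _)
  exact isIso_of_mono_of_epi _

lemma isIso_homologyMap_mor₂ [T.obj₁.IsLE b] (i : ℤ) (hi : b < i) :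
    IsIso ((homologyFunctor A i).map T.mor₂) := by
  have h1 : ∀ j, b < j → IsZero ((homologyFunctor A j).obj T.obj₁) :=
    fun j hj => isZero_of_isLE _ b j hj
  have : Epi ((homologyFunctor A i).map T.mor₂) :=
    (HomologySequence.epi_homologyMap_mor₂_iff T hT i (i + 1) rfl).2
      ((h1 (i + 1) (by omega)).eq_of_tgt _ _)
  have : Mono ((homologyFunctor A i).map T.mor₂) :=
    (HomologySequence.mono_homologyMap_mor₂_iff T hT i).2 ((h1 i hi).eq_of_src _ _)
  exact isIso_of_mono_of_epi _

omit hT

lemma homologyMap_truncLT_map_eq_zero {X Y : DerivedCategory A} (f : X ⟶ Y) (n i : ℤ)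
    (hf : i < n → (homologyFunctor A i).map f = 0) :
    (homologyFunctor A i).map ((TStructure.t.truncLT n).map f) = 0 := by
  by_cases hi : i < n
  · have h : IsIso ((homologyFunctor A i).map ((TStructure.t.truncLTι n).app Y)) :=
      @isIso_homologyMap_mor₁ _ _ _ _ _ (TStructure.t.triangleLTGE_distinguished n Y) n
        (inferInstance : TStructure.t.IsGE ((TStructure.t.truncGE n).obj Y) n) i hi
    rw [← cancel_mono ((homologyFunctor A i).map ((TStructure.t.truncLTι n).app Y)),
      zero_comp, ← Functor.map_comp, (TStructure.t.truncLTι n).naturality, Functor.id_map,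
      Functor.map_comp, hf hi, comp_zero]
  · exact (isZero_of_isLE ((TStructure.t.truncLT n).obj X) (n - 1) i (by omega)).eq_of_src _ _

lemma homologyMap_truncGE_map_eq_zero {X Y : DerivedCategory A} (f : X ⟶ Y) (n i : ℤ)
    (hf : n ≤ i → (homologyFunctor A i).map f = 0) :
    (homologyFunctor A i).map ((TStructure.t.truncGE n).map f) = 0 := by
  by_cases hi : n ≤ i
  · have h : IsIso ((homologyFunctor A i).map ((TStructure.t.truncGEπ n).app X)) :=
      @isIso_homologyMap_mor₂ _ _ _ _ _ (TStructure.t.triangleLTGE_distinguished n X) (n - 1)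
        (inferInstance : TStructure.t.IsLE ((TStructure.t.truncLT n).obj X) (n - 1)) i (by omega)
    rw [← cancel_epi ((homologyFunctor A i).map ((TStructure.t.truncGEπ n).app X)),
      comp_zero, ← Functor.map_comp, TStructure.t.truncGEπ_naturality,
      Functor.map_comp, hf hi, zero_comp]
  · exact (isZero_of_isGE ((TStructure.t.truncGE n).obj X) n i (by omega)).eq_of_src _ _

end Groth.Agent.Lib.DerCat.TStruct
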