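import Mathlib.Algebra.Homology.DerivedCategory.ExactFunctor
import Groth.Agent.Lib.DerivedOX.RightDerived

/-!
# Derived adjunctions

For an exact functor `F : A ⥤ B` with a right adjoint `G`, if `B` has enough K-injective complexes
then `F.mapDerivedCategory` is left adjoint to the right derived functor of `G`.
-/

universe w w' v v' u u'

open CategoryTheory CategoryTheory.Limits

namespace Groth.Agent.Lib.DerCat.DerAdj

section

variable {A : Type*} [Category A] [Preadditive A] {B : Type*} [Category B] [Preadditive B]
  {F : A ⥤ B} {G : B ⥤ A} [F.Additive] [G.Additive] (adj : F ⊣ G) {ι : Type*} (c : ComplexShape ι)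

/-- The adjunction on complexes. -/
noncomputable def adjC : F.mapHomologicalComplex c ⊣ G.mapHomologicalComplex c :=
  Adjunction.mkOfUnitCounit
    { unit :=
        { app := fun K => { f := fun n => adj.unit.app (K.X n)
                            comm' := fun a b _ => (adj.unit.naturality (K.d a b)).symm }
          naturality := fun _ _ φ => by ext n; exact adj.unit.naturality (φ.f n) }
      counit :=
        { app := fun K => { f := fun n => adj.counit.app (K.X n)
                            comm' := fun a b _ => (adj.counit.naturality (K.d a b)).symm }
          naturality := fun _ _ φ => by ext n; exact adj.counit.naturality (φ.f n) }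
      left_triangle := by
        ext K n
        simp
        exact adj.left_triangle_components (K.X n)
      right_triangle := by
        ext K n
        simp
        exact adj.right_triangle_components (K.X n) }

/-- The adjunction on homotopy categories. -/
noncomputable def adjK : F.mapHomotopyCategory c ⊣ G.mapHomotopyCategory c :=
  Adjunction.mkOfUnitCounit
    { unit :=
        { app := fun X => (HomotopyCategory.quotient A c).map ((adjC adj c).unit.app X.as)
          naturality := fun X Y φ => by
            obtain ⟨φ, rfl⟩ := (HomotopyCategory.quotient A c).map_surjective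
              (X := X.as) (Y := Y.as) φ
            exact ((HomotopyCategory.quotient A c).map_comp _ _).symm.trans
              ((congrArg (HomotopyCategory.quotient A c).map
                ((adjC adj c).unit.naturality φ)).trans
                ((HomotopyCategory.quotient A c).map_comp _ _)) }
      counit :=
        { app := fun X => (HomotopyCategory.quotient B c).map ((adjC adj c).counit.app X.as)
          naturality := fun X Y φ => by
            obtain ⟨φ, rfl⟩ := (HomotopyCategory.quotient B c).map_surjective
              (X := X.as) (Y := Y.as) φ
            exact ((HomotopyCategory.quotient B c).map_comp _ _).symm.trans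
              ((congrArg (HomotopyCategory.quotient B c).map
                ((adjC adj c).counit.naturality φ)).trans
                ((HomotopyCategory.quotient B c).map_comp _ _)) }
      left_triangle := by
        ext X
        simp only [NatTrans.comp_app, Functor.whiskerRight_app, Functor.whiskerLeft_app,
          Functor.associator_hom_app, Functor.comp_obj, Category.id_comp, NatTrans.id_app]
        exact ((HomotopyCategory.quotient B c).map_comp _ _).symm.trans
          ((congrArg (HomotopyCategory.quotient B c).map
            ((adjC adj c).left_triangle_components X.as)).trans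
              ((HomotopyCategory.quotient B c).map_id _))
      right_triangle := by
        ext X
        simp only [NatTrans.comp_app, Functor.whiskerRight_app, Functor.whiskerLeft_app,
          Functor.associator_inv_app, Functor.comp_obj, Category.id_comp, NatTrans.id_app]
        exact ((HomotopyCategory.quotient A c).map_comp _ _).symm.trans
          ((congrArg (HomotopyCategory.quotient A c).map
            ((adjC adj c).right_triangle_components X.as)).trans
              ((HomotopyCategory.quotient A c).map_id _)) }

lemma isIso_adjK_counit [IsIso adj.counit] (X : HomotopyCategory B c) :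
    IsIso ((adjK adj c).counit.app X) := by
  have : ∀ n, IsIso (((adjC adj c).counit.app X.as).f n) := fun n =>
    inferInstanceAs (IsIso (adj.counit.app (X.as.X n)))
  have : IsIso ((adjC adj c).counit.app X.as) := HomologicalComplex.Hom.isIso_of_components _
  exact CategoryTheory.Functor.map_isIso (HomotopyCategory.quotient B c) ((adjC adj c).counit.app X.as)

end

section

variable {C : Type*} [Category C] {D : Type*} [Category D] {D' : Type*} [Category D']
  (L : C ⥤ D) (W : MorphismProperty C) [L.IsLocalization W] {F' : D ⥤ D'} {P : C ⥤ D'}
  (e : L ⋙ F' ≅ P) {R : D' ⥤ C} (adj : P ⊣ R)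

/-- An adjunction descends to a localization of the source. -/
noncomputable def locAdj : F' ⊣ R ⋙ L :=
  letI : Localization.Lifting L W (L ⋙ 𝟭 D) (𝟭 D) := ⟨Iso.refl _⟩
  letI : Localization.Lifting L W (L ⋙ F' ⋙ R ⋙ L) (F' ⋙ R ⋙ L) := ⟨Iso.refl _⟩
  let τ : L ⋙ 𝟭 D ⟶ L ⋙ F' ⋙ R ⋙ L :=
    { app := fun X => L.map (adj.unit.app X ≫ R.map (e.inv.app X))
      naturality := fun X Y f => by
        dsimp
        rw [← L.map_comp, ← L.map_comp]
        congr 1
        have h1 := adj.unit.naturality f
        dsimp at h1
        rw [reassoc_of% h1, Category.assoc, ← R.map_comp, ← R.map_comp]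
        exact congrArg (adj.unit.app X ≫ R.map ·) (e.inv.naturality f) }
  let η : 𝟭 D ⟶ F' ⋙ R ⋙ L := Localization.liftNatTrans L W _ _ (𝟭 D) (F' ⋙ R ⋙ L) τ
  have hη : ∀ X, η.app (L.obj X) = τ.app X := fun X => by
    simp [η, Localization.liftNatTrans_app, Localization.Lifting.iso]
  Adjunction.mkOfUnitCounit
    { unit := η
      counit :=
        { app := fun Y => e.hom.app (R.obj Y) ≫ adj.counit.app Y
          naturality := fun Y Z f => by
            have h1 := e.hom.naturality (R.map f)
            have h2 := adj.counit.naturality f
            dsimp at h1 h2 ⊢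
            rw [reassoc_of% h1, h2, Category.assoc] }
      left_triangle := by
        refine Localization.natTrans_ext L W fun X => ?_
        simp only [NatTrans.comp_app, Functor.whiskerRight_app, Functor.whiskerLeft_app,
          Functor.associator_hom_app, Functor.comp_obj, Category.id_comp, NatTrans.id_app, hη]
        have h1 := e.hom.naturality (adj.unit.app X ≫ R.map (e.inv.app X))
        have h2 := adj.counit.naturality (e.inv.app X)
        have h3 := adj.left_triangle_components X
        dsimp [τ] at h1 h2 h3 ⊢
        rw [reassoc_of% h1, P.map_comp, Category.assoc, h2, reassoc_of% h3]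
        exact e.hom_inv_id_app X
      right_triangle := by
        ext Y
        simp only [NatTrans.comp_app, Functor.whiskerRight_app, Functor.whiskerLeft_app,
          Functor.associator_inv_app, Functor.comp_obj, Category.id_comp, NatTrans.id_app,
          Functor.comp_map, hη]
        dsimp [τ]
        rw [← L.map_comp, Category.assoc, ← R.map_comp, e.inv_hom_id_app_assoc]
        exact (congrArg L.map (adj.right_triangle_components Y)).trans (L.map_id _) }

@[simp]
lemma locAdj_counit_app (Y : D') :
    (locAdj L W e adj).counit.app Y = e.hom.app (R.obj Y) ≫ adj.counit.app Y := rfl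

end

section

open Groth.Agent.Lib.DerivedOX.RightDerived

variable {A : Type u} [Category.{v} A] [Abelian A] [HasDerivedCategory.{w} A]
  {B : Type u'} [Category.{v'} B] [Abelian B] [HasDerivedCategory.{w'} B]
  [(DerivedCategory.Qh (C := B)).IsLeftAdjoint]
  {F : A ⥤ B} {G : B ⥤ A} [F.Additive] [G.Additive] (adj : F ⊣ G)
  [PreservesFiniteLimits F] [PreservesFiniteColimits F]

/-- `F.mapDerivedCategory` is left adjoint to `G` applied to K-injective resolutions. -/
noncomputable def derivedAdj :
    F.mapDerivedCategory ⊣
      resFunctor B ⋙ G.mapHomotopyCategory (ComplexShape.up ℤ) ⋙ DerivedCategory.Qh :=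
  (locAdj DerivedCategory.Qh (HomotopyCategory.quasiIso A (ComplexShape.up ℤ))
    F.mapDerivedCategoryFactorsh ((adjK adj (ComplexShape.up ℤ)).comp (resAdj B))).ofNatIsoRight
      (Functor.associator _ _ _)

lemma isIso_derivedAdj_counit [IsIso adj.counit] (hε : ∀ d, IsIso ((resAdj B).counit.app d))
    (Y : DerivedCategory B) : IsIso ((derivedAdj adj).counit.app Y) := by
  have := isIso_adjK_counit adj (ComplexShape.up ℤ)
  have := hε
  simp only [derivedAdj, Adjunction.ofNatIsoRight, Adjunction.mkOfHomEquiv_counit_app]
  simp [Adjunction.comp_counit_app, Adjunction.homEquiv_counit]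
  infer_instance

/-- The same unit, on complexes. -/
noncomputable def unitC {H : Type*} [Category H] {P : HomotopyCategory B (.up ℤ) ⥤ H}
    {P₀ : CochainComplex B ℤ ⥤ H} (e : HomotopyCategory.quotient B (.up ℤ) ⋙ P ≅ P₀) :
    P₀ ⟶ DerivedCategory.Q ⋙ (resFunctor B ⋙ P) where
  app K := e.inv.app K ≫ (derivedUnit P).app ((HomotopyCategory.quotient B (.up ℤ)).obj K) ≫
    (resFunctor B ⋙ P).map ((DerivedCategory.quotientCompQhIso B).hom.app K)
  naturality K L f := by
    have h1 := (derivedUnit P).naturality ((HomotopyCategory.quotient B (.up ℤ)).map f)
    have h2 := e.inv.naturality f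
    have h3 := congrArg (resFunctor B ⋙ P).map
      ((DerivedCategory.quotientCompQhIso B).hom.naturality f)
    simp only [Functor.map_comp] at h3
    dsimp at h1 h2 h3 ⊢
    rw [reassoc_of% h2, reassoc_of% h1, h3, Category.assoc, Category.assoc]

/-- The resolved functor is a right derived functor on complexes as well. -/
theorem isRightDerived_unitC {H : Type*} [Category H] {P : HomotopyCategory B (.up ℤ) ⥤ H}
    {P₀ : CochainComplex B ℤ ⥤ H} (e : HomotopyCategory.quotient B (.up ℤ) ⋙ P ≅ P₀) :
    (resFunctor B ⋙ P).IsRightDerivedFunctor (unitC e)
      (HomologicalComplex.quasiIso B (.up ℤ)) := by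
  let q := HomotopyCategory.quotient B (.up ℤ)
  let i := DerivedCategory.quotientCompQhIso B
  have up : ∀ (G' : DerivedCategory B ⥤ H) (β : P₀ ⟶ DerivedCategory.Q ⋙ G'),
      ∃ β' : P ⟶ DerivedCategory.Qh ⋙ G',
        ∀ K, β'.app (q.obj K) = e.hom.app K ≫ β.app K ≫ G'.map (i.inv.app K) := fun G' β => by
    refine ⟨{ app := fun X => e.hom.app X.as ≫ β.app X.as ≫ G'.map (i.inv.app X.as)
              naturality := fun X Y φ => ?_ }, fun K => rfl⟩
    obtain ⟨φ, rfl⟩ := q.map_surjective (X := X.as) (Y := Y.as) φ
    have h1 := e.hom.naturality φ
    have h2 := β.naturality φ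
    have h3 := congrArg G'.map (i.inv.naturality φ)
    simp only [Functor.map_comp] at h3
    dsimp at h1 h2 h3 ⊢
    rw [Category.assoc, Category.assoc]
    erw [reassoc_of% h1, reassoc_of% h2, h3]
    rfl
  refine ⟨⟨⟨Limits.IsInitial.ofUniqueHom
    (fun E => StructuredArrow.homMk (descRes P E.right (up E.right E.hom).choose) ?_)
    (fun E m => StructuredArrow.ext _ _ ?_)⟩⟩⟩
  · ext K
    have h := congrArg (fun z => z.app (q.obj K))
      (derivedUnit_descRes P E.right (up E.right E.hom).choose)
    simp only [NatTrans.comp_app, Functor.whiskerLeft_app,
      (up E.right E.hom).choose_spec K] at h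
    have hn := (descRes P E.right (up E.right E.hom).choose).naturality (i.hom.app K)
    change (unitC e).app K ≫ (descRes P E.right (up E.right E.hom).choose).app
      (DerivedCategory.Q.obj K) = E.hom.app K
    dsimp [unitC, q, i] at h hn ⊢
    rw [Category.assoc, Category.assoc, hn, reassoc_of% h, ← E.right.map_comp]
    simp
  · refine descRes_unique P E.right _ m.right ?_
    have hw := StructuredArrow.w m
    ext X
    obtain ⟨K, rfl⟩ := HomotopyCategory.quotient_obj_surjective X
    have h1 := congrArg (fun z => z.app K) hw
    rw [NatTrans.comp_app, Functor.whiskerLeft_app]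
    erw [(up E.right E.hom).choose_spec K]
    change (unitC e).app K ≫ m.right.app (DerivedCategory.Q.obj K) = E.hom.app K at h1
    dsimp [unitC, q, i] at h1 ⊢
    rw [← h1]
    have hn := m.right.naturality (i.hom.app K)
    dsimp [i, q] at hn ⊢
    simp only [Category.assoc, Iso.hom_inv_id_app_assoc]
    erw [reassoc_of% hn]
    simp [← E.right.map_comp]

end

end Groth.Agent.Lib.DerCat.DerAdj
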