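import Mathlib.Algebra.Homology.HomotopyCategory.KInjective
import Mathlib.Algebra.Homology.HomotopyCategory.HomComplexCohomology
import Mathlib.Algebra.Homology.HomologicalComplexAbelian
import Mathlib.CategoryTheory.Preadditive.Injective.Basic

/-!
# Lifting against termwise monic quasi-isomorphisms
-/

universe v u

open CategoryTheory CategoryTheory.Limits CochainComplex.HomComplex

namespace Groth.Agent.Lib.DerCat.KInjLift

variable {A : Type u} [Category.{v} A] [Abelian A]

/-- A 1-cocycle on an acyclic complex with values in a K-injective complex is a coboundary. -/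
lemma exists_δ_eq {C I : CochainComplex A ℤ} (hC : C.Acyclic) [I.IsKInjective] (n m : ℤ)
    (hm : m + 1 = n) (z : Cocycle C I n) : ∃ w : Cochain C I m, δ m n w = z := by
  rw [← mem_coboundaries_iff z m hm, ← CohomologyClass.toHom_mk_eq_zero_iff]
  exact CochainComplex.IsKInjective.rightOrthogonal (I⟦n⟧) _
    (by rwa [HomotopyCategory.quotient_obj_mem_subcategoryAcyclic_iff_acyclic])

/-- Maps into a K-injective complex of injectives extend along termwise monomorphisms with
acyclic cokernel. -/
lemma exists_lift (S : ShortComplex (CochainComplex A ℤ)) (hS : S.ShortExact) (h₃ : S.X₃.Acyclic)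
    (I : CochainComplex A ℤ) [I.IsKInjective] (hI : ∀ n : ℤ, Injective (I.X n))
    (γ : S.X₁ ⟶ I) : ∃ β : S.X₂ ⟶ I, S.f ≫ β = γ := by
  have hp : ∀ p : ℤ, (S.map (HomologicalComplex.eval A (ComplexShape.up ℤ) p)).ShortExact :=
    (HomologicalComplex.shortExact_iff_degreewise_shortExact S).1 hS
  have : ∀ p, Mono (S.f.f p) := fun p => (hp p).mono_f
  have hepi : ∀ p, Epi (S.g.f p) := fun p => (hp p).epi_g
  have := hI
  let β₀ : Cochain S.X₂ I 0 := Cochain.ofHoms fun p => Injective.factorThru (γ.f p) (S.f.f p)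
  have hβ₀ : (Cochain.ofHom S.f).comp β₀ (zero_add 0) = Cochain.ofHom γ := by
    ext p
    simp [β₀, Cochain.ofHom]
  have hz : ∀ (p q : ℤ) (h : p + 1 = q), S.f.f p ≫ (δ 0 1 β₀).v p q h = 0 := by
    intro p q h
    have e := Cochain.congr_v (δ_ofHom_comp S.f β₀ 1) p q h
    rw [hβ₀, δ_ofHom, Cochain.zero_cochain_comp_v, Cochain.ofHom_v] at e
    exact e.symm
  have hex : ∀ (p q : ℤ) (h : p + 1 = q), ∃ k : S.X₃.X p ⟶ I.X q,
      S.g.f p ≫ k = (δ 0 1 β₀).v p q h := fun p q h => by
    exact ⟨(hp p).gIsCokernel.desc (CokernelCofork.ofπ _ (hz p q h)),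
      (hp p).gIsCokernel.fac _ WalkingParallelPair.one⟩
  choose k hk using hex
  let z' : Cochain S.X₃ I 1 := Cochain.mk fun p q h => k p q h
  have hz' : (Cochain.ofHom S.g).comp z' (zero_add 1) = δ 0 1 β₀ := by
    ext p q h
    rw [Cochain.zero_cochain_comp_v, Cochain.ofHom_v]
    exact hk p q h
  have hcyc : δ 1 2 z' = 0 := by
    have e : (Cochain.ofHom S.g).comp (δ 1 2 z') (zero_add 2) = 0 := by
      rw [← δ_ofHom_comp, hz', δ_δ]
    ext p q h
    have := hepi p
    rw [← cancel_epi (S.g.f p), Cochain.zero_v, comp_zero, ← Cochain.ofHom_v,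
      ← Cochain.zero_cochain_comp_v, e, Cochain.zero_v]
  obtain ⟨w, hw⟩ := exists_δ_eq h₃ 1 0 (zero_add 1) (Cocycle.mk z' 2 rfl hcyc)
  let b : Cochain S.X₂ I 0 := β₀ - (Cochain.ofHom S.g).comp w (zero_add 0)
  have hb : δ 0 1 b = 0 := by
    simp only [b, δ_sub, δ_ofHom_comp]
    rw [hw]
    exact sub_eq_zero.2 hz'.symm
  refine ⟨Cocycle.homOf (Cocycle.mk b 1 rfl hb), ?_⟩
  ext p
  have e1 := Cochain.congr_v hβ₀ p p (add_zero p)
  rw [Cochain.zero_cochain_comp_v, Cochain.ofHom_v, Cochain.ofHom_v] at e1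
  have w0 : S.f.f p ≫ S.g.f p = 0 := (S.map (HomologicalComplex.eval A (ComplexShape.up ℤ) p)).zero
  change S.f.f p ≫ b.v p p (add_zero p) = γ.f p
  simp only [b, Cochain.sub_v, Preadditive.comp_sub, Cochain.zero_cochain_comp_v, Cochain.ofHom_v]
  rw [e1, ← Category.assoc, w0, zero_comp, sub_zero]

/-- The cokernel of a monic quasi-isomorphism is acyclic. -/
lemma acyclic_cokernel {K L : CochainComplex A ℤ} (α : K ⟶ L) [QuasiIso α] [Mono α] :
    (cokernel α).Acyclic := fun n => by
  let S := ShortComplex.mk α (cokernel.π α) (cokernel.condition α)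
  have hS : S.ShortExact :=
    { exact := ShortComplex.exact_of_g_is_cokernel _ (cokernelIsCokernel α) }
  rw [HomologicalComplex.exactAt_iff_isZero_homology]
  have : IsIso (HomologicalComplex.homologyMap S.f n) := inferInstanceAs (IsIso (HomologicalComplex.homologyMap α n))
  have : IsIso (HomologicalComplex.homologyMap S.f (n + 1)) :=
    inferInstanceAs (IsIso (HomologicalComplex.homologyMap α (n + 1)))
  have h1 : HomologicalComplex.homologyMap S.g n = 0 := by
    rw [← cancel_epi (HomologicalComplex.homologyMap S.f n), comp_zero,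
      ← HomologicalComplex.homologyMap_comp, S.zero, HomologicalComplex.homologyMap_zero]
  have h2 : hS.δ n (n + 1) (by simp) = 0 := by
    rw [← cancel_mono (HomologicalComplex.homologyMap S.f (n + 1)), zero_comp]
    exact hS.δ_comp n (n + 1) (by simp)
  exact (hS.homology_exact₃ n (n + 1) (by simp)).isZero_X₂ h1 h2

/-- Version for a termwise monic quasi-isomorphism. -/
lemma exists_lift_of_mono {K L I : CochainComplex A ℤ} (α : K ⟶ L) [QuasiIso α]
    (hα : ∀ n : ℤ, Mono (α.f n)) [I.IsKInjective] (hI : ∀ n : ℤ, Injective (I.X n))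
    (γ : K ⟶ I) : ∃ β : L ⟶ I, α ≫ β = γ := by
  have : Mono α := HomologicalComplex.mono_of_mono_f α hα
  let S := ShortComplex.mk α (cokernel.π α) (cokernel.condition α)
  have hS : S.ShortExact :=
    { exact := ShortComplex.exact_of_g_is_cokernel _ (cokernelIsCokernel α) }
  exact exists_lift S hS (acyclic_cokernel α) I hI γ

end Groth.Agent.Lib.DerCat.KInjLift
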