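import Mathlib.CategoryTheory.Abelian.GrothendieckCategory.Basic
import Mathlib.CategoryTheory.Functor.OfSequence
import Mathlib.CategoryTheory.Abelian.Refinements
import Mathlib.CategoryTheory.Abelian.GrothendieckAxioms.Basic
import Mathlib.Algebra.Homology.ShortComplex.HomologicalComplex
import Mathlib.CategoryTheory.Subobject.WellPowered
import Mathlib.CategoryTheory.Limits.Connected
import Mathlib.CategoryTheory.Filtered.Connected
import Mathlib.Algebra.Homology.ShortComplex.ExactFunctor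

/-!
# Small acyclic subcomplexes

In a Grothendieck abelian category, every nonzero acyclic complex has a nonzero acyclic
subcomplex all of whose terms are quotients of one fixed object `big G`.
-/

universe v u

open CategoryTheory CategoryTheory.Limits

namespace Groth.Agent.Lib.DerCat.KInjSmall

variable {A : Type u} [Category.{v} A] [Abelian A] [IsGrothendieckAbelian.{v} A] (G : A)

/-- The index types of the generators at each stage. -/
noncomputable def idx : ℕ → Type v
  | 0 => PUnit.{v + 1}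
  | i + 1 => idx i ⊕ idx i ⊕ Shrink.{v} (Subobject (∐ fun _ : idx i => G))

/-- The free object of a stage. -/
noncomputable abbrev obj (i : ℕ) : A := ∐ fun _ : idx G i => G

/-- The free objects as a sequential diagram. -/
noncomputable def U : ℕ ⥤ A :=
  Functor.ofSequence (X := fun i => obj G i) fun i =>
    Sigma.desc fun x => Sigma.ι (fun _ : idx G (i + 1) => G) (Sum.inl x)

/-- The fixed object all terms are quotients of. -/
noncomputable abbrev big : A := colimit (U G)

/-- The inclusion of a stage. -/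
noncomputable abbrev ιb (i : ℕ) : obj G i ⟶ big G := colimit.ι (U G) i

lemma hasExactColimitsNat : HasExactColimitsOfShape ℕ A := by
  haveI : IsFiltered (AsSmall.{v} ℕ) := IsFiltered.of_equivalence AsSmall.equiv
  exact HasExactColimitsOfShape.of_domain_equivalence A (AsSmall.equiv (C := ℕ)).symm

lemma big_hom_ext {W : A} {f g : big G ⟶ W} (h : ∀ i, ιb G i ≫ f = ιb G i ≫ g) : f = g :=
  colimit.hom_ext h

variable {G} (Z : CochainComplex A ℤ) (m : ℤ) (g₀ : G ⟶ Z.X m)

open Classical in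
/-- A preimage under the differential of an element killed by the differential. -/
noncomputable def lifts {i : ℕ} (s : ∀ n, idx G i → (G ⟶ Z.X n)) (n : ℤ)
    (V : Shrink.{v} (Subobject (obj G i))) : G ⟶ Z.X n :=
  if h : ∃ (g : G ⟶ Z.X n) (y : G ⟶ obj G i),
      Subobject.mk (image.ι y) = (equivShrink _).symm V ∧
        y ≫ Sigma.desc (s (n + 1)) = g ≫ Z.d n (n + 1)
  then h.choose else 0

open Classical in
/-- The generators of the subcomplex, stage by stage. -/
noncomputable def s : ∀ (i : ℕ) (n : ℤ), idx G i → (G ⟶ Z.X n)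
  | 0 => fun n _ => if h : m = n then g₀ ≫ eqToHom (by rw [h]) else 0
  | i + 1 => fun n x =>
    match x with
    | Sum.inl x => s i n x
    | Sum.inr (Sum.inl x) => s i (n - 1) x ≫ Z.d (n - 1) n
    | Sum.inr (Sum.inr V) => lifts Z (s i) n V

/-- The generators of degree `n` as a cocone. -/
noncomputable def α (n : ℤ) : U G ⟶ (Functor.const ℕ).obj (Z.X n) :=
  NatTrans.ofSequence (fun i => Sigma.desc (s Z m g₀ i n)) fun i => by
    refine Sigma.hom_ext _ _ fun x => ?_
    simp only [U, Functor.ofSequence_map_homOfLE_succ]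
    erw [Sigma.ι_desc_assoc, Sigma.ι_desc, Category.comp_id, Sigma.ι_desc]
    rfl

/-- The map from the fixed object. -/
noncomputable def c (n : ℤ) : big G ⟶ Z.X n :=
  colimit.desc (U G) ⟨_, α Z m g₀ n⟩

lemma ι_c (n : ℤ) (i : ℕ) : ιb G i ≫ c Z m g₀ n = Sigma.desc (s Z m g₀ i n) :=
  colimit.ι_desc _ _

lemma gen_eq (n : ℤ) (i : ℕ) (x : idx G i) :
    s Z m g₀ i n x = (Sigma.ι (fun _ : idx G i => G) x ≫ ιb G i) ≫ c Z m g₀ n := by
  rw [Category.assoc, ι_c]
  exact (Sigma.ι_desc _ _).symm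

/-- The term of the subcomplex. -/
noncomputable abbrev P (n : ℤ) : A := image (c Z m g₀ n)

lemma c_d_factors (n k : ℤ) :
    ∃ t : big G ⟶ P Z m g₀ k, t ≫ image.ι _ = c Z m g₀ n ≫ Z.d n k := by
  by_cases hk : n + 1 = k
  · obtain rfl : n = k - 1 := by omega
    have hc : (c Z m g₀ (k - 1) ≫ Z.d (k - 1) k) ≫ cokernel.π (image.ι (c Z m g₀ k)) = 0 := by
      refine big_hom_ext _ fun i => ?_
      rw [comp_zero, ← Category.assoc, ← Category.assoc, ι_c]
      refine Sigma.hom_ext _ _ fun x => ?_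
      rw [comp_zero, ← Category.assoc, ← Category.assoc, Sigma.ι_desc]
      have : s Z m g₀ (i + 1) k (Sum.inr (Sum.inl x)) = s Z m g₀ i (k - 1) x ≫ Z.d (k - 1) k := rfl
      have h0 : c Z m g₀ k ≫ cokernel.π (image.ι (c Z m g₀ k)) = 0 :=
        (image.fac_assoc (c Z m g₀ k) _).symm.trans (by rw [cokernel.condition, comp_zero])
      rw [← this, gen_eq, Category.assoc, h0, comp_zero]
    exact ⟨Abelian.monoLift _ _ hc, Abelian.monoLift_comp _ _ hc⟩
  · exact ⟨0, by rw [Z.shape n k hk, zero_comp, comp_zero]⟩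

lemma exists_d (n k : ℤ) :
    ∃ δ : P Z m g₀ n ⟶ P Z m g₀ k, δ ≫ image.ι _ = image.ι _ ≫ Z.d n k := by
  obtain ⟨t, ht⟩ := c_d_factors Z m g₀ n k
  have hc : (image.ι (c Z m g₀ n) ≫ Z.d n k) ≫ cokernel.π (image.ι (c Z m g₀ k)) = 0 := by
    rw [← cancel_epi (factorThruImage (c Z m g₀ n)), comp_zero, ← Category.assoc,
      ← Category.assoc, image.fac, ← ht, Category.assoc, cokernel.condition, comp_zero]
  exact ⟨Abelian.monoLift _ _ hc, Abelian.monoLift_comp _ _ hc⟩

/-- The small subcomplex. -/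
noncomputable def sub : CochainComplex A ℤ where
  X n := P Z m g₀ n
  d n k := (exists_d Z m g₀ n k).choose
  shape n k h := by
    rw [← cancel_mono (image.ι (c Z m g₀ k)), (exists_d Z m g₀ n k).choose_spec, Z.shape n k h,
      comp_zero, zero_comp]
  d_comp_d' n k l _ _ := by
    rw [← cancel_mono (image.ι (c Z m g₀ l)), Category.assoc, (exists_d Z m g₀ k l).choose_spec,
      ← Category.assoc, (exists_d Z m g₀ n k).choose_spec, Category.assoc, Z.d_comp_d,
      comp_zero, zero_comp]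

/-- The inclusion of the small subcomplex. -/
noncomputable def incl : sub Z m g₀ ⟶ Z where
  f n := image.ι (c Z m g₀ n)
  comm' n k _ := (exists_d Z m g₀ n k).choose_spec.symm

/-- The presentation of the terms. -/
noncomputable def π (n : ℤ) : big G ⟶ (sub Z m g₀).X n := factorThruImage (c Z m g₀ n)

instance epi_π (n : ℤ) : Epi (π Z m g₀ n) := inferInstanceAs (Epi (factorThruImage _))

lemma π_incl (n : ℤ) : π Z m g₀ n ≫ (incl Z m g₀).f n = c Z m g₀ n := image.fac _

instance mono_incl (n : ℤ) : Mono ((incl Z m g₀).f n) := inferInstanceAs (Mono (image.ι _))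

lemma g₀_mem : ∃ y : G ⟶ (sub Z m g₀).X m, y ≫ (incl Z m g₀).f m = g₀ := by
  refine ⟨(Sigma.ι (fun _ : idx G 0 => G) (PUnit.unit : idx G 0) ≫ ιb G 0) ≫ π Z m g₀ m, ?_⟩
  rw [Category.assoc, π_incl, ← gen_eq]
  simp [s]

variable {Z}

lemma kernel_stage (hG : IsSeparator G) (hZ : Z.Acyclic) (n : ℤ) (i : ℕ) {W : A}
    (y : W ⟶ obj G i) (hy : y ≫ Sigma.desc (s Z m g₀ i (n + 1)) ≫ Z.d (n + 1) (n + 2) = 0) :
    y ≫ Sigma.desc (s Z m g₀ i (n + 1)) ≫ cokernel.π (c Z m g₀ n ≫ Z.d n (n + 1)) = 0 := by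
  set S := Sigma.desc (s Z m g₀ i (n + 1))
  set q := cokernel.π (c Z m g₀ n ≫ Z.d n (n + 1))
  have hex := hZ (n + 1)
  rw [HomologicalComplex.exactAt_iff' _ n (n + 1) (n + 2) (by simp) (by simp; omega)] at hex
  obtain ⟨W', p, hp, x₁, hx₁⟩ := hex.exact_up_to_refinements (y ≫ S) ((Category.assoc _ _ _).trans hy)
  change p ≫ y ≫ S = x₁ ≫ Z.d n (n + 1) at hx₁
  rw [← cancel_epi p, comp_zero]
  refine hG.def _ _ fun h => ?_
  rw [comp_zero]
  have hex' : ∃ (g : G ⟶ Z.X n) (y' : G ⟶ obj G i),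
      Subobject.mk (image.ι y') =
        (equivShrink _).symm (equivShrink _ (Subobject.mk (image.ι (h ≫ p ≫ y)))) ∧
      y' ≫ S = g ≫ Z.d n (n + 1) :=
    ⟨h ≫ x₁, h ≫ p ≫ y, by rw [Equiv.symm_apply_apply], by
      rw [Category.assoc, Category.assoc, Category.assoc, hx₁]; rfl⟩
  obtain ⟨y', hy', hyd⟩ := hex'.choose_spec
  rw [Equiv.symm_apply_apply] at hy'
  have hg : hex'.choose ≫ Z.d n (n + 1) ≫ q = 0 := by
    have e : s Z m g₀ (i + 1) n
        (Sum.inr (Sum.inr (equivShrink _ (Subobject.mk (image.ι (h ≫ p ≫ y)))))) = hex'.choose :=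
      dif_pos hex'
    rw [← e, gen_eq, Category.assoc, ← Category.assoc (c Z m g₀ n)]
    simp only [q, cokernel.condition, comp_zero]
  have h1 : image.ι y' ≫ S ≫ q = 0 := by
    rw [← cancel_epi (factorThruImage y'), comp_zero, ← Category.assoc, image.fac,
      ← Category.assoc, hyd, Category.assoc, hg]
  have h2 : (h ≫ p ≫ y) ≫ S ≫ q = 0 := by
    rw [← image.fac (h ≫ p ≫ y), Category.assoc,
      ← Subobject.ofMkLEMk_comp (ge_of_eq hy'), Category.assoc, h1, comp_zero, comp_zero]
  simpa only [Category.assoc] using h2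

theorem acyclic_sub (hG : IsSeparator G) (hZ : Z.Acyclic) : (sub Z m g₀).Acyclic := by
  intro k
  obtain ⟨n, rfl⟩ : ∃ n, k = n + 1 := ⟨k - 1, by omega⟩
  rw [HomologicalComplex.exactAt_iff' _ n (n + 1) (n + 2) (by simp) (by simp; omega),
    ShortComplex.exact_iff_exact_up_to_refinements]
  intro W (x : W ⟶ (sub Z m g₀).X (n + 1)) (hx : x ≫ (sub Z m g₀).d (n + 1) (n + 2) = 0)
  -- lift to the colimit
  obtain ⟨W₁, p₁, hp₁, x₁, hx₁⟩ := surjective_up_to_refinements_of_epi (π Z m g₀ (n + 1)) x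
  have hzero : x₁ ≫ c Z m g₀ (n + 1) ≫ Z.d (n + 1) (n + 2) = 0 := by
    rw [← π_incl, Category.assoc, (incl Z m g₀).comm, ← Category.assoc, ← hx₁,
      Category.assoc, reassoc_of% hx, zero_comp, comp_zero]
  -- the kernel is the colimit of the kernels of the stages
  let β : U G ⟶ (Functor.const ℕ).obj (Z.X (n + 2)) :=
    α Z m g₀ (n + 1) ≫ (Functor.const ℕ).map (Z.d (n + 1) (n + 2))
  let S := ShortComplex.mk (kernel.ι β) β (kernel.condition β)
  have hS : S.Exact := ShortComplex.exact_of_f_is_kernel _ (kernelIsKernel β)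
  haveI := hasExactColimitsNat (A := A)
  have hS' : (S.map colim).Exact := hS.map colim
  obtain ⟨W₂, p₂, hp₂, z, hz⟩ := hS'.exact_up_to_refinements x₁ (by
    change x₁ ≫ colim.map β = 0
    have : IsConnected ℕ := IsFiltered.isConnected ℕ
    let hc := isColimitConstCocone ℕ (Z.X (n + 2))
    have hiso : IsIso (colimit.desc _ (constCocone ℕ (Z.X (n + 2)))) :=
      inferInstanceAs (IsIso ((colimit.isColimit _).coconePointUniqueUpToIso hc).hom)
    have e : colim.map β ≫ colimit.desc _ (constCocone ℕ (Z.X (n + 2))) =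
        c Z m g₀ (n + 1) ≫ Z.d (n + 1) (n + 2) := by
      apply colimit.hom_ext
      intro i
      simp only [colim_map, colimit.map_desc, colimit.ι_desc]
      erw [← Category.assoc, ι_c]
      simp [β, constCocone, α]
    rw [← cancel_mono (colimit.desc _ (constCocone ℕ (Z.X (n + 2)))), zero_comp, Category.assoc, e]
    exact hzero)
  change p₂ ≫ x₁ = z ≫ colim.map (kernel.ι β) at hz
  have hker : colim.map (kernel.ι β) ≫ c Z m g₀ (n + 1) ≫
      cokernel.π (c Z m g₀ n ≫ Z.d n (n + 1)) = 0 := by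
    apply colimit.hom_ext
    intro i
    simp only [colim_map, ι_colimMap_assoc, comp_zero]
    erw [← Category.assoc (colimit.ι _ i), ι_c]
    refine kernel_stage m g₀ hG hZ n i _ ?_
    have := congr_app (kernel.condition β) i
    simp only [β, NatTrans.comp_app, zero_app] at this
    exact this
  have hx' : (p₂ ≫ p₁ ≫ x ≫ (incl Z m g₀).f (n + 1)) ≫
      cokernel.π (c Z m g₀ n ≫ Z.d n (n + 1)) = 0 := by
    rw [reassoc_of% hx₁, π_incl, ← Category.assoc p₂, hz]
    simp only [Category.assoc]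
    exact (congrArg (z ≫ ·) hker).trans comp_zero
  have hex := ShortComplex.exact_cokernel (c Z m g₀ n ≫ Z.d n (n + 1))
  obtain ⟨W₃, p₃, hp₃, w, hw⟩ := hex.exact_up_to_refinements _ hx'
  dsimp only at hw
  refine ⟨W₃, p₃ ≫ p₂ ≫ p₁, inferInstance, w ≫ π Z m g₀ n, ?_⟩
  change _ = (w ≫ π Z m g₀ n) ≫ (sub Z m g₀).d n (n + 1)
  rw [← cancel_mono ((incl Z m g₀).f (n + 1))]
  erw [Category.assoc, Category.assoc]
  simp only [Category.assoc] at hw ⊢
  erw [hw]
  rw [← (incl Z m g₀).comm, ← Category.assoc (π Z m g₀ n), π_incl]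

end Groth.Agent.Lib.DerCat.KInjSmall
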