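import Mathlib.Algebra.Homology.GrothendieckAbelian
import Mathlib.Algebra.Homology.HomotopyCategory.Pretriangulated
import Mathlib.CategoryTheory.Abelian.GrothendieckCategory.EnoughInjectives
import Groth.Agent.Lib.DerivedOX.TrivCof
import Groth.Agent.Lib.DerCat.KInjLift
import Groth.Agent.Lib.DerCat.KInjSmall

/-!
# K-injective resolutions in Grothendieck abelian categories

Every monomorphism with acyclic cokernel of complexes in a Grothendieck abelian category is a
transfinite composition of pushouts of such monomorphisms with target one fixed complex `Qobj G`.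
The small object argument then yields K-injective resolutions.
-/

universe v u

open CategoryTheory CategoryTheory.Limits
open ZeroObject

namespace Groth.Agent.Lib.DerCat.KInjExists

open Groth.Agent.Lib.DerivedOX.TrivCof (acycMono testMaps disk fromDiskEquiv acycMono_eq_llp
  quasiIso_of_acycMono fromDiskEquiv_naturality)
open KInjSmall (big)

variable {A : Type u} [Category.{v} A] [Abelian A] [IsGrothendieckAbelian.{v} A]

/-- The index type of the disks. -/
abbrev Ix (G : A) : Type v := ULift.{v} ℤ × Shrink.{v} (Subobject (big G))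

/-- The complex whose subobjects generate the acyclic monomorphisms. -/
noncomputable abbrev Qobj (G : A) : CochainComplex A ℤ := ∐ fun x : Ix G => disk G x.1.down

/-- The inclusions of subobjects of `Qobj G` with acyclic cokernel. -/
abbrev genAcyc (G : A) : MorphismProperty (CochainComplex A ℤ) :=
  MorphismProperty.ofHoms fun S : {S : Subobject (Qobj G) // acycMono A S.arrow} => S.1.arrow

instance (G : A) : MorphismProperty.IsSmall.{v} (genAcyc G) := by
  dsimp [genAcyc]
  infer_instance

instance : (acycMono A).RespectsIso := by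
  rw [acycMono_eq_llp]
  infer_instance

lemma genAcyc_le (G : A) : genAcyc G ≤ acycMono A := by
  rintro _ _ _ ⟨S⟩
  exact S.2

lemma llp_rlp_genAcyc_le (G : A) : (genAcyc G).rlp.llp ≤ acycMono A := by
  have h := genAcyc_le G
  rw [acycMono_eq_llp] at h ⊢
  exact (MorphismProperty.antitone_llp (MorphismProperty.antitone_rlp h)).trans
    (MorphismProperty.llp_rlp_llp _).le

variable {G : A} (hG : IsSeparator G)

include hG

set_option backward.isDefEq.respectTransparency false in
open Classical in
/-- An acyclic monomorphism which is not an isomorphism can be enlarged by a generator. -/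
lemma exists_pushouts {X Y : CochainComplex A ℤ} (p : X ⟶ Y) (hp : acycMono A p)
    (hp' : ¬ IsIso p) :
    ∃ (X' : CochainComplex A ℤ) (i : X ⟶ X') (p' : X' ⟶ Y) (_ : (genAcyc G).pushouts i)
      (_ : ¬ IsIso i) (_ : Mono p'), i ≫ p' = p := by
  have := hp.1
  let Z := cokernel p
  let π : Y ⟶ Z := cokernel.π p
  have hπ : ∀ n, Epi (π.f n) := fun n => inferInstance
  obtain ⟨m, g₀, hg₀⟩ : ∃ (m : ℤ) (g₀ : G ⟶ Z.X m), g₀ ≠ 0 := by
    by_contra! h
    have hπ0 : π = 0 := by
      ext n
      have : 𝟙 (Z.X n) = 0 := hG.def _ _ fun g => by rw [h n g]; simp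
      rw [← Category.comp_id (π.f n), this]
      simp
    have : Epi p := Abelian.epi_of_cokernel_π_eq_zero p hπ0
    exact hp' (isIso_of_mono_of_epi p)
  let S := KInjSmall.sub Z m g₀
  let ψ := KInjSmall.π Z m g₀
  let c := KInjSmall.c Z m g₀
  let incl : S ⟶ Z := KInjSmall.incl Z m g₀
  have : Mono incl := HomologicalComplex.mono_of_mono_f _ fun n => KInjSmall.mono_incl Z m g₀ n
  let P (x : Ix G) : Prop := ∃ (g : G ⟶ Y.X x.1.down) (y : G ⟶ big G),
    Subobject.mk (image.ι y) = (equivShrink _).symm x.2 ∧ g ≫ π.f _ = y ≫ c _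
  let g (x : Ix G) : G ⟶ Y.X x.1.down := if h : P x then h.choose else 0
  let y (x : Ix G) : G ⟶ big G := if h : P x then h.choose_spec.choose else 0
  have hy : ∀ x, P x → Subobject.mk (image.ι (y x)) = (equivShrink _).symm x.2 := fun x h => by
    rw [show y x = h.choose_spec.choose from dif_pos h]
    exact h.choose_spec.choose_spec.1
  have hgy : ∀ x, g x ≫ π.f _ = y x ≫ c _ := fun x => by
    by_cases h : P x
    · rw [show g x = h.choose from dif_pos h, show y x = h.choose_spec.choose from dif_pos h]
      exact h.choose_spec.choose_spec.2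
    · simp only [g, y, dif_neg h, zero_comp]
  let q : Qobj G ⟶ Y := Sigma.desc fun x => (fromDiskEquiv G x.1.down Y).symm (g x)
  let q' : Qobj G ⟶ S :=
    Sigma.desc fun x => (fromDiskEquiv G x.1.down S).symm (y x ≫ ψ _)
  have hq : q' ≫ incl = q ≫ π := by
    refine Sigma.hom_ext _ _ fun x => ?_
    rw [Sigma.ι_desc_assoc, Sigma.ι_desc_assoc]
    apply (fromDiskEquiv G x.1.down Z).injective
    rw [fromDiskEquiv_naturality, fromDiskEquiv_naturality, Equiv.apply_symm_apply,
      Equiv.apply_symm_apply, Category.assoc, KInjSmall.π_incl, hgy]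
  have hq' : ∀ n, Epi (q'.f n) := fun n => Preadditive.epi_of_cancel_zero _ fun t ht => by
    rw [← cancel_epi (ψ n), comp_zero]
    refine hG.def _ _ fun y₀ => ?_
    rw [comp_zero]
    have := hπ n
    rw [← cancel_epi (pullback.fst (y₀ ≫ c n) (π.f n)), comp_zero]
    refine hG.def _ _ fun h => ?_
    rw [comp_zero]
    let y₁ := h ≫ pullback.fst (y₀ ≫ c n) (π.f n) ≫ y₀
    let x : Ix G := (⟨n⟩, equivShrink _ (Subobject.mk (image.ι y₁)))
    have hx : P x := ⟨h ≫ pullback.snd (y₀ ≫ c n) (π.f n), y₁, (Equiv.symm_apply_apply _ _).symm,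
      by simp [y₁, x, pullback.condition]⟩
    have hy' : Subobject.mk (image.ι (y x)) = Subobject.mk (image.ι y₁) :=
      (hy x hx).trans (Equiv.symm_apply_apply _ _)
    have e : y x ≫ ψ n ≫ t = 0 := by
      have e1 : fromDiskEquiv G n S (Sigma.ι (fun x : Ix G => disk G x.1.down) x ≫ q') =
          y x ≫ ψ n := by
        rw [Sigma.ι_desc]
        exact Equiv.apply_symm_apply _ _
      rw [← Category.assoc, ← e1, fromDiskEquiv_naturality, Category.assoc, ht, comp_zero]
    have h1 : image.ι (y x) ≫ ψ n ≫ t = 0 := by
      rw [← cancel_epi (factorThruImage (y x)), comp_zero, image.fac_assoc, e]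
    have h2 : y₁ ≫ ψ n ≫ t = 0 := by
      rw [← image.fac y₁, Category.assoc, ← Subobject.ofMkLEMk_comp (ge_of_eq hy'),
        Category.assoc, h1, comp_zero, comp_zero]
    simpa only [y₁, Category.assoc] using h2
  have : Epi q' := HomologicalComplex.epi_of_epi_f _ hq'
  let j := pullback.snd p q
  have hj0 : j ≫ q' = 0 := by
    rw [← cancel_mono incl, Category.assoc, hq, ← pullback.condition_assoc, cokernel.condition,
      comp_zero, zero_comp]
  have hjS : (ShortComplex.mk j q' hj0).Exact :=
    ShortComplex.exact_of_f_is_kernel _ (KernelFork.IsLimit.ofι' _ _ fun {W} k hk =>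
      have hk' : (k ≫ q) ≫ cokernel.π p = 0 := by
        change (k ≫ q) ≫ π = 0
        rw [Category.assoc, ← hq, reassoc_of% hk, zero_comp]
      ⟨pullback.lift (Abelian.monoLift p (k ≫ q) hk') k (Abelian.monoLift_comp _ _ hk'),
        pullback.lift_snd _ _ _⟩)
  let e : cokernel j ≅ S := (cokernelIsCokernel j).coconePointUniqueUpToIso hjS.gIsCokernel
  have hj : acycMono A j := ⟨inferInstance, fun n => by
    rw [HomologicalComplex.exactAt_iff_isZero_homology]
    exact ((KInjSmall.acyclic_sub m g₀ hG hp.2 n).isZero_homology).of_iso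
      ((HomologicalComplex.homologyFunctor A _ n).mapIso e)⟩
  have hj' : acycMono A (Subobject.mk j).arrow :=
    ((acycMono A).arrow_mk_iso_iff
      (Arrow.isoMk (Subobject.underlyingIso j) (Iso.refl _) (by simp))).2 hj
  refine ⟨pushout (pullback.fst p q) (pullback.snd p q), pushout.inl _ _,
    pushout.desc p q pullback.condition,
    ⟨_, _, _, (Subobject.underlyingIso _).hom ≫ pullback.fst _ _, pushout.inr _ _,
      MorphismProperty.ofHoms.mk (⟨Subobject.mk j, hj'⟩ :
        {S : Subobject (Qobj G) // acycMono A S.arrow}),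
      (IsPushout.of_hasPushout (pullback.fst p q) (pullback.snd p q)).of_iso
        ((Subobject.underlyingIso _).symm) (Iso.refl _) (Iso.refl _) (Iso.refl _)
        (by simp) (by simp [j]) (by simp) (by simp)⟩, ?_, ?_, by simp⟩
  · intro h
    have hqπ : q ≫ π = 0 := by
      have : (pushout.inr _ _ ≫ inv (pushout.inl (pullback.fst p q) (pullback.snd p q))) ≫ p =
          q := by
        rw [Category.assoc, (IsIso.inv_comp_eq _).2 (pushout.inl_desc p q pullback.condition).symm,
          pushout.inr_desc]
      rw [← this, Category.assoc, cokernel.condition, comp_zero]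
    have h0 : incl = 0 := by rw [← cancel_epi q', hq, hqπ, comp_zero]
    obtain ⟨y₀, hy₀⟩ := KInjSmall.g₀_mem Z m g₀
    apply hg₀
    rw [← hy₀]
    change y₀ ≫ incl.f m = 0
    rw [h0, HomologicalComplex.zero_f, comp_zero]
  · exact (IsPushout.of_hasPushout _ _).mono_of_isPullback_of_mono
      (IsPullback.of_hasPullback p q) _ (by simp) (by simp)

set_option backward.defeqAttrib.useBackward true in
set_option backward.isDefEq.respectTransparency false in
lemma exists_larger {X : CochainComplex A ℤ} (T : Subobject X) (hT : acycMono A T.arrow)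
    (hT' : T ≠ ⊤) :
    ∃ (T' : Subobject X) (h : T < T'), (genAcyc G).pushouts (Subobject.ofLE T T' h.le) := by
  induction T using Subobject.ind with | _ f
  have hf : acycMono A f := ((acycMono A).arrow_mk_iso_iff
    (Arrow.isoMk (Subobject.underlyingIso f) (Iso.refl _) (by simp))).1 hT
  obtain ⟨X', i, p', hi, hi', hp', fac⟩ := exists_pushouts hG f hf
    (by simpa only [Subobject.isIso_iff_mk_eq_top] using hT')
  refine ⟨Subobject.mk p', Subobject.mk_lt_mk_of_comm i fac hi',
    (MorphismProperty.arrow_mk_iso_iff _ ?_).2 hi⟩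
  refine Arrow.isoMk (Subobject.underlyingIso f) (Subobject.underlyingIso p') ?_
  dsimp
  simp only [← cancel_mono p', Category.assoc, fac,
    Subobject.underlyingIso_hom_comp_eq_mk, Subobject.ofLE_arrow]

variable {X : CochainComplex A ℤ}

open Classical in
/-- The enlargement of a subobject with acyclic quotient. -/
noncomputable def larger (T : Subobject X) : Subobject X :=
  if h : acycMono A T.arrow ∧ T ≠ ⊤ then (exists_larger hG T h.1 h.2).choose else ⊤

lemma larger_top : larger hG (⊤ : Subobject X) = ⊤ := dif_neg (fun h => h.2 rfl)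

lemma lt_larger (T : Subobject X) (hT : T ≠ ⊤) : T < larger hG T := by
  by_cases h : acycMono A T.arrow ∧ T ≠ ⊤
  · rw [larger, dif_pos h]
    exact (exists_larger hG T h.1 h.2).choose_spec.choose
  · rw [larger, dif_neg h]
    exact hT.lt_top

lemma le_larger (T : Subobject X) : T ≤ larger hG T := by
  by_cases hT : T = ⊤
  · subst hT
    rw [larger_top]
  · exact (lt_larger hG T hT).le

lemma ofLE_larger_mem (T : Subobject X) (hT : acycMono A T.arrow) :
    (genAcyc G).rlp.llp (Subobject.ofLE _ _ (le_larger hG T)) := by
  by_cases hT' : T = ⊤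
  · subst hT'
    have := (Subobject.isIso_arrow_iff_eq_top (larger hG (⊤ : Subobject X))).2 (larger_top hG)
    have : IsIso (Subobject.ofLE _ _ (le_larger hG (⊤ : Subobject X))) :=
      have : IsIso (Subobject.ofLE _ _ (le_larger hG (⊤ : Subobject X)) ≫
          (larger hG (⊤ : Subobject X)).arrow) := by
        rw [Subobject.ofLE_arrow]
        infer_instance
      IsIso.of_isIso_comp_right _ (larger hG (⊤ : Subobject X)).arrow
    exact MorphismProperty.of_isIso _ _
  · refine MorphismProperty.pushouts_le_llp_rlp _ _ ?_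
    refine (MorphismProperty.arrow_mk_iso_iff _ ?_).1
      (exists_larger hG T hT hT').choose_spec.choose_spec
    exact Arrow.isoMk (Iso.refl _)
      (Subobject.isoOfEq _ _ (by simp [larger, dif_pos (And.intro hT hT')]))

section

variable (A₀ : Subobject X) (J : Type v) [LinearOrder J] [OrderBot J] [SuccOrder J]
  [WellFoundedLT J]

/-- The transfinite iteration of `larger`. -/
@[simps]
noncomputable def functorToMonoOver : J ⥤ MonoOver X where
  obj j := MonoOver.mk (transfiniteIterate (larger hG) j A₀).arrow
  map {j j'} f := MonoOver.homMk (Subobject.ofLE _ _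
      (monotone_transfiniteIterate _ _ (le_larger hG) (leOfHom f)))

/-- The transfinite iteration as a diagram of complexes. -/
noncomputable abbrev functor : J ⥤ CochainComplex A ℤ :=
  functorToMonoOver hG A₀ J ⋙ MonoOver.forget _ ⋙ Over.forget _

set_option backward.defeqAttrib.useBackward true in
instance : (functor hG A₀ J).IsWellOrderContinuous where
  nonempty_isColimit m hm := ⟨by
    have := hm.nonempty_Iio.to_subtype
    let c := (Set.principalSegIio m).cocone (functorToMonoOver hG A₀ J ⋙ MonoOver.forget _)
    have : Mono c.pt.hom := by dsimp [c]; infer_instance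
    apply IsGrothendieckAbelian.isColimitMapCoconeOfSubobjectMkEqISup
      ((Set.principalSegIio m).monotone.functor ⋙ functorToMonoOver hG A₀ J) c
    dsimp [c]
    simp only [Subobject.mk_arrow]
    exact transfiniteIterate_limit (larger hG) A₀ m hm⟩

variable {J}

set_option backward.isDefEq.respectTransparency.types false in
set_option backward.defeqAttrib.useBackward true in
lemma map_bot_mem (hA₀ : acycMono A A₀.arrow) (j : J) :
    (genAcyc G).rlp.llp ((functor hG A₀ J).map (homOfLE bot_le : ⊥ ⟶ j)) := by
  induction j using WellFoundedLT.induction with | ind j IH => ?_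
  have step : ∀ k < j, acycMono A (transfiniteIterate (larger hG) k A₀).arrow := fun k hk => by
    have h := quasiIso_of_acycMono (llp_rlp_genAcyc_le G _ (IH k hk))
    have h₀ : QuasiIso (transfiniteIterate (larger hG) (⊥ : J) A₀).arrow := by
      rw [transfiniteIterate_bot]
      exact quasiIso_of_acycMono hA₀
    have hc : QuasiIso ((functor hG A₀ J).map (homOfLE bot_le : ⊥ ⟶ k) ≫
        (transfiniteIterate (larger hG) k A₀).arrow) := by
      change QuasiIso (Subobject.ofLE _ _
        (monotone_transfiniteIterate (larger hG) A₀ (le_larger hG) (bot_le : (⊥ : J) ≤ k)) ≫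
          (transfiniteIterate (larger hG) k A₀).arrow)
      rw [Subobject.ofLE_arrow]
      exact h₀
    have : QuasiIso (transfiniteIterate (larger hG) k A₀).arrow :=
      quasiIso_of_comp_left ((functor hG A₀ J).map (homOfLE bot_le : ⊥ ⟶ k)) _
    exact ⟨inferInstance, KInjLift.acyclic_cokernel _⟩
  have T : (genAcyc G).rlp.llp.TransfiniteCompositionOfShape (Set.Iic j)
      ((functor hG A₀ J).map (homOfLE bot_le : ⊥ ⟶ j)) :=
    { F := (Set.initialSegIic j).monotone.functor ⋙ functor hG A₀ J
      isoBot := Iso.refl _
      incl :=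
        { app k := (functor hG A₀ J).map (homOfLE k.2)
          naturality k k' h := by simp [MonoOver.forget] }
      isColimit := colimitOfDiagramTerminal isTerminalTop _
      map_mem := fun k hk => by
        have hkj : k.1 < j := lt_of_le_of_ne k.2 fun e => hk (fun b _ => show b.1 ≤ k.1 from le_of_le_of_eq b.2 e.symm)
        dsimp [MonoOver.forget]
        convert! ofLE_larger_mem hG _ (step k.1 hkj) using 2
        all_goals
          rw [Set.Iic.succ_eq_of_not_isMax hk,
            transfiniteIterate_succ _ _ _ (Set.not_isMax_coe _ hk)] }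
  have := MorphismProperty.transfiniteCompositionsOfShape_le_llp_rlp _ _ _ T.mem
  rwa [MorphismProperty.rlp_llp_rlp] at this

end

set_option backward.defeqAttrib.useBackward true in
set_option backward.isDefEq.respectTransparency false in
/-- Every acyclic monomorphism lies in the saturation of the generators. -/
theorem acycMono_le_llp_rlp : acycMono A ≤ (genAcyc G).rlp.llp := by
  intro B X f hf
  have := hf.1
  let κ := Order.succ (Cardinal.mk (Shrink.{v} (Subobject X)))
  have : Nonempty κ.ord.ToType := by simp [κ]
  have := WellFoundedLT.toOrderBot κ.ord.ToType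
  have hA₀ : acycMono A (Subobject.mk f).arrow := ((acycMono A).arrow_mk_iso_iff
    (Arrow.isoMk (Subobject.underlyingIso f) (Iso.refl _) (by simp))).2 hf
  obtain ⟨j, hj⟩ : ∃ j : κ.ord.ToType, transfiniteIterate (larger hG) j (Subobject.mk f) = ⊤ := by
    have hκ : HasCardinalLT (Subobject X) (Cardinal.mk κ.ord.ToType) :=
      lt_of_lt_of_le (Order.lt_succ _) (by simp [κ])
    exact top_mem_range_transfiniteIterate (larger hG) _ (lt_larger hG) (larger_top hG)
      (fun h ↦ by simpa [hasCardinalLT_iff_cardinal_mk_lt] using hκ.of_injective _ h)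
  have hmem := map_bot_mem hG (Subobject.mk f) hA₀ j
  let t := transfiniteIterate (larger hG) j (Subobject.mk f)
  have : IsIso t.arrow := (Subobject.isIso_arrow_iff_eq_top t).2 hj
  refine (MorphismProperty.arrow_mk_iso_iff _ ?_).1 hmem
  refine Arrow.isoMk ((Subobject.isoOfEq _ _ (transfiniteIterate_bot _ _) ≪≫
    Subobject.underlyingIso f)) (asIso t.arrow) ?_
  dsimp [MonoOver.forget]
  rw [Category.assoc, Subobject.underlyingIso_hom_comp_eq_mk, Subobject.ofLE_arrow,
    Subobject.ofLE_arrow]

omit hG

instance : MorphismProperty.HasSmallObjectArgument.{v} (genAcyc G) := by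
  obtain ⟨κ, hκ', hκ⟩ := HasCardinalLT.exists_regular_cardinal.{v} (Subobject (Qobj G))
  have : Fact κ.IsRegular := ⟨hκ'⟩
  have : Nonempty κ.ord.ToType := by simpa using hκ'.ne_zero
  have := WellFoundedLT.toOrderBot κ.ord.ToType
  exact ⟨κ, inferInstance, inferInstance,
    { preservesColimit {S B X Y} i hi f hf := by
        let hf' : (MorphismProperty.monomorphisms (CochainComplex A ℤ)).TransfiniteCompositionOfShape
            κ.ord.ToType f :=
          { toTransfiniteCompositionOfShape := hf.toTransfiniteCompositionOfShape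
            map_mem j hj := by
              have := (hf.attachCells j hj).pushouts_coproducts
              simp only [MorphismProperty.ofHoms_homFamily] at this
              refine (?_ : _ ≤ MorphismProperty.monomorphisms _) _ this
              simp only [MorphismProperty.pushouts_le_iff, MorphismProperty.coproducts_le_iff]
              exact fun _ _ _ h => (genAcyc_le G _ h).1 }
        have (j j' : κ.ord.ToType) (φ : j ⟶ j') : Mono (hf'.F.map φ) := hf'.mem_map φ
        apply IsGrothendieckAbelian.preservesColimit_coyoneda_obj_of_mono (Y := hf'.F) (κ := κ)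
        obtain ⟨S⟩ := hi
        exact Subobject.hasCardinalLT_of_mono hκ S.1.arrow }⟩

omit [IsGrothendieckAbelian.{v} A] in
/-- A complex is K-injective with injective terms if maps into it extend along acyclic
monomorphisms. -/
theorem isKInjective_of_lift (I : CochainComplex A ℤ)
    (h : ∀ (S : ShortComplex (CochainComplex A ℤ)), S.ShortExact → S.X₃.Acyclic →
      ∀ φ : S.X₁ ⟶ I, ∃ ψ : S.X₂ ⟶ I, S.f ≫ ψ = φ) :
    I.IsKInjective ∧ ∀ n : ℤ, Injective (I.X n) := by
  refine ⟨⟨fun {K} f hK => ?_⟩, fun n => ⟨fun {X Y} φ m hm => ?_⟩⟩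
  · let S := CochainComplex.mappingCone.triangleRotateShortComplex (𝟙 K)
    have hS : S.ShortExact := (HomologicalComplex.shortExact_iff_degreewise_shortExact S).2
      fun n => (CochainComplex.mappingCone.triangleRotateShortComplexSplitting (𝟙 K) n).shortExact
    have h₃ : S.X₃.Acyclic := by
      rw [← HomotopyCategory.quotient_obj_mem_subcategoryAcyclic_iff_acyclic] at hK ⊢
      exact (HomotopyCategory.subcategoryAcyclic A).prop_of_iso
        (((HomotopyCategory.quotient A (ComplexShape.up ℤ)).commShiftIso (1 : ℤ)).app K).symm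
        ((HomotopyCategory.subcategoryAcyclic A).le_shift (1 : ℤ) _ hK)
    obtain ⟨ψ, hψ⟩ := h S hS h₃ f
    exact ⟨(Homotopy.ofEq (by rw [Category.id_comp]; exact hψ.symm)).trans
      (((CochainComplex.mappingCone.homotopyToZeroOfId K).compRight ψ).compLeft S.f |>.trans
        (Homotopy.ofEq (by simp; rfl)))⟩
  · have hn : (ComplexShape.up ℤ).Rel n (n + 1) := rfl
    have hne : n ≠ n + 1 := by omega
    have acy : ∀ Z : A, (HomologicalComplex.double (𝟙 Z) hn).Acyclic := by
      intro Z k
      by_cases h0 : k = n
      · subst h0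
        rw [HomologicalComplex.exactAt_iff' _ (k - 1) k (k + 1) (by simp) (by simp),
          ShortComplex.exact_iff_mono _ (HomologicalComplex.double_d_eq_zero₀ (𝟙 Z) hn _ _ (by omega))]
        change Mono ((HomologicalComplex.double (𝟙 Z) hn).d k (k + 1))
        rw [HomologicalComplex.double_d _ _ hne]
        infer_instance
      by_cases h1 : k = n + 1
      · subst h1
        rw [HomologicalComplex.exactAt_iff' _ n (n + 1) (n + 2) (by simp) (by simp; omega),
          ShortComplex.exact_iff_epi _ (HomologicalComplex.double_d_eq_zero₁ (𝟙 Z) hn _ _ (by omega))]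
        change Epi ((HomologicalComplex.double (𝟙 Z) hn).d n (n + 1))
        rw [HomologicalComplex.double_d _ _ hne]
        infer_instance
      exact ShortComplex.exact_of_isZero_X₂ _ (HomologicalComplex.isZero_double_X (𝟙 Z) hn k h0 h1)
    let α : HomologicalComplex.double (𝟙 X) hn ⟶ HomologicalComplex.double (𝟙 Y) hn :=
      HomologicalComplex.mkHomFromDouble hn hne
        (m ≫ (HomologicalComplex.doubleXIso₀ (𝟙 Y) hn).inv)
        (m ≫ (HomologicalComplex.doubleXIso₁ (𝟙 Y) hn hne).inv)
        (by rw [HomologicalComplex.double_d _ _ hne]; simp)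
        (fun k hk => by
          rw [HomologicalComplex.double_d_eq_zero₀ (𝟙 Y) hn _ _ hne.symm, Limits.comp_zero])
    have hmono : ∀ k, Mono (α.f k) := by
      intro k
      by_cases h0 : k = n
      · subst h0
        simp only [α, HomologicalComplex.mkHomFromDouble_f₀]
        infer_instance
      by_cases h1 : k = n + 1
      · subst h1
        simp only [α, HomologicalComplex.mkHomFromDouble_f₁]
        infer_instance
      exact ⟨fun _ _ _ => (HomologicalComplex.isZero_double_X (𝟙 X) hn k h0 h1).eq_of_tgt _ _⟩
    have : Mono α := HomologicalComplex.mono_of_mono_f α hmono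
    have : QuasiIso α := ⟨fun k => (quasiIsoAt_iff_isIso_homologyMap α k).2
      ⟨0, ((acy X k).isZero_homology).eq_of_src _ _, ((acy Y k).isZero_homology).eq_of_src _ _⟩⟩
    let e : HomologicalComplex.double (𝟙 X) hn ⟶ I :=
      HomologicalComplex.mkHomFromDouble hn hne φ (φ ≫ I.d n (n + 1)) (by simp) (by simp)
    let S := ShortComplex.mk α (Limits.cokernel.π α) (Limits.cokernel.condition α)
    have hS : S.ShortExact :=
      { exact := ShortComplex.exact_of_g_is_cokernel _ (Limits.cokernelIsCokernel α) }
    obtain ⟨ψ, hψ⟩ := h S hS (Groth.Agent.Lib.DerCat.KInjLift.acyclic_cokernel α) e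
    refine ⟨(HomologicalComplex.doubleXIso₀ (𝟙 Y) hn).inv ≫ ψ.f n, ?_⟩
    have h2 := HomologicalComplex.congr_hom hψ n
    simp only [S, α, e, HomologicalComplex.comp_f, HomologicalComplex.mkHomFromDouble_f₀,
      Category.assoc, cancel_epi] at h2
    exact h2

/-- K-injective resolutions by injective terms exist in Grothendieck abelian categories. -/
theorem exists_kInjective_resolution (M : CochainComplex A ℤ) :
    ∃ (I : CochainComplex A ℤ) (f : M ⟶ I), I.IsKInjective ∧ QuasiIso f ∧ (∀ n, Mono (f.f n)) ∧
      ∀ n, Injective (I.X n) := by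
  have hG := isSeparator_separator A
  let F := MorphismProperty.factorizationData (genAcyc (separator A)).rlp.llp
    (genAcyc (separator A)).rlp (0 : M ⟶ (0 : CochainComplex A ℤ))
  have hi := llp_rlp_genAcyc_le _ _ F.hi
  have hp : (acycMono A).rlp F.p := by
    exact MorphismProperty.antitone_rlp (acycMono_le_llp_rlp hG) _
      (by rw [MorphismProperty.rlp_llp_rlp]; exact F.hp)
  obtain ⟨h₁, h₂⟩ := isKInjective_of_lift F.Z fun S hS h₃ φ => by
    have := hS.mono_f
    have hS' : acycMono A S.f := ⟨inferInstance, fun n => by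
      rw [HomologicalComplex.exactAt_iff_isZero_homology]
      exact ((h₃ n).isZero_homology).of_iso ((HomologicalComplex.homologyFunctor A _ n).mapIso
        ((cokernelIsCokernel S.f).coconePointUniqueUpToIso hS.gIsCokernel))⟩
    have := hp _ hS'
    have sq : CommSq φ S.f F.p 0 := ⟨(isZero_zero _).eq_of_tgt _ _⟩
    exact ⟨sq.lift, sq.fac_left⟩
  have := hi.1
  exact ⟨F.Z, F.i, h₁, quasiIso_of_acycMono hi, fun n => inferInstance, h₂⟩

/-- The form used by `Groth.Agent.Lib.DerivedOX.RightDerived`. -/
theorem hasKInjRes (K : CochainComplex A ℤ) :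
    ∃ (I : CochainComplex A ℤ) (f : K ⟶ I), I.IsKInjective ∧ QuasiIso f :=
  let ⟨I, f, hI, hf, _⟩ := exists_kInjective_resolution K
  ⟨I, f, hI, hf⟩

end Groth.Agent.Lib.DerCat.KInjExists
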