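import Groth.Agent.Lib.DerCat.RFh

/-!
# Values of the triangulated right derived functor on objects
-/

universe w w' v v' u u'

open CategoryTheory CategoryTheory.Limits CategoryTheory.Pretriangulated

namespace Groth.Agent.Lib.DerCat.RFh

open Termwise RFObj RFAcyclic

variable {A : Type u} [Category.{v} A] [Abelian A] [EnoughInjectives A] [HasDerivedCategory.{w} A]
  {B : Type u'} [Category.{v'} B] [Abelian B] [HasDerivedCategory.{w'} B]
  (F : A ⥤ B) [F.Additive] [PreservesFiniteLimits F] (N : ℕ)
  (hN : ∀ X : A, IsZero ((F.rightDerived N).obj X))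

/-- `RF` of an object through an injective resolution. -/
noncomputable def singleResIso {X : A} (R : InjectiveResolution X) :
    (RF F N hN).obj ((DerivedCategory.singleFunctor A 0).obj X) ≅
      DerivedCategory.Q.obj ((F.mapHomologicalComplex (.up ℤ)).obj R.cochainComplex) :=
  haveI : IsIso (DerivedCategory.Q.map R.ι') :=
    (DerivedCategory.isIso_Q_map_iff_quasiIso _ R.ι').2 inferInstance
  (RF F N hN).mapIso ((DerivedCategory.singleFunctorIsoCompQ A 0).app X ≪≫
    asIso (DerivedCategory.Q.map R.ι')) ≪≫
      RFobjIso F N hN R.cochainComplex fun n => acyc_injective F _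

lemma singleResIso_naturality {X Y : A} {f : X ⟶ Y} {R : InjectiveResolution X}
    {R' : InjectiveResolution Y} (φ : InjectiveResolution.Hom R R' f) :
    (RF F N hN).map ((DerivedCategory.singleFunctor A 0).map f) ≫
        (singleResIso F N hN R').hom =
      (singleResIso F N hN R).hom ≫
        DerivedCategory.Q.map ((F.mapHomologicalComplex (.up ℤ)).map φ.hom') := by
  simp only [singleResIso, Iso.trans_hom, Functor.mapIso_hom, Iso.app_hom, asIso_hom,
    Category.assoc]
  rw [← RFobjIso_naturality F N hN φ.hom' (fun n => acyc_injective F _) (fun n => acyc_injective F _),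
    ← Functor.map_comp_assoc, ← Functor.map_comp_assoc]
  congr 2
  rw [Category.assoc, ← Functor.map_comp, φ.ι'_comp_hom', Functor.map_comp, ← Category.assoc,
    ← Category.assoc]
  exact congrArg (· ≫ _) ((DerivedCategory.singleFunctorIsoCompQ A 0).hom.naturality f)

/-- Cohomology of `RF` of an object. -/
noncomputable def homologySingleIso (k : ℕ) (X : A) :
    (DerivedCategory.homologyFunctor B k).obj
        ((RF F N hN).obj ((DerivedCategory.singleFunctor A 0).obj X)) ≅
      (F.rightDerived k).obj X :=
  (DerivedCategory.homologyFunctor B k).mapIso (singleResIso F N hN (injectiveResolution X)) ≪≫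
    (DerivedCategory.homologyFunctorFactors B k).app _ ≪≫
      mapResHomologyIso F (injectiveResolution X) k

/-- Cohomology of `RF` on objects is the right derived functor. -/
noncomputable def homologySingleNatIso (k : ℕ) :
    DerivedCategory.singleFunctor A 0 ⋙ RF F N hN ⋙ DerivedCategory.homologyFunctor B k ≅
      F.rightDerived k :=
  NatIso.ofComponents (fun X => homologySingleIso F N hN k X) fun {X Y} f => by
    let φ : InjectiveResolution.Hom (injectiveResolution X) (injectiveResolution Y) f :=
      { hom := InjectiveResolution.desc f _ _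
        ι_f_zero_comp_hom_f_zero :=
          (InjectiveResolution.desc_commutes_zero f _ _).trans
            (congrArg (· ≫ _) (CochainComplex.single₀_map_f_zero f).symm) }
    have h1 := congrArg (DerivedCategory.homologyFunctor B k).map
      (singleResIso_naturality F N hN φ)
    have h2 := DerivedCategory.homologyFunctorFactors_hom_naturality
      ((F.mapHomologicalComplex (.up ℤ)).map φ.hom') (k : ℤ)
    have h3 := mapResHomologyIso_naturality F φ k
    simp only [Functor.map_comp] at h1
    simp only [homologySingleIso, Iso.trans_hom, Functor.mapIso_hom, Iso.app_hom, Functor.comp_map,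
      Category.assoc]
    rw [reassoc_of% h1, reassoc_of% h2]
    erw [Category.assoc, h3]
    rfl

/-- `RF` followed by `H⁰`. -/
noncomputable abbrev Φ : DerivedCategory A ⥤ B :=
  RF F N hN ⋙ DerivedCategory.homologyFunctor B 0

noncomputable instance shiftSequence_Φ : (Φ F N hN).ShiftSequence ℤ :=
  Functor.ShiftSequence.tautological _ _

/-- The functor `H^d ∘ RF` on objects, as a shift of `H⁰ ∘ RF`. -/
noncomputable abbrev G (d : ℕ) : A ⥤ B :=
  DerivedCategory.singleFunctor A 0 ⋙ (Φ F N hN).shift (d : ℤ)

instance isHomological_Φ : (Φ F N hN).IsHomological := inferInstance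

instance additive_G (d : ℕ) : (G F N hN d).Additive :=
  have : ((Φ F N hN).shift (d : ℤ)).Additive :=
    inferInstanceAs (shiftFunctor (DerivedCategory A) (d : ℤ) ⋙ Φ F N hN).Additive
  inferInstance

/-- The functors `G d` are the right derived functors. -/
noncomputable def GIso (d : ℕ) : G F N hN d ≅ F.rightDerived d :=
  Functor.isoWhiskerLeft (DerivedCategory.singleFunctor A 0)
    ((Functor.associator _ _ _).symm ≪≫
      Functor.isoWhiskerRight ((RF F N hN).commShiftIso (d : ℤ)) _ ≪≫
      Functor.associator _ _ _ ≪≫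
      Functor.isoWhiskerLeft _ ((DerivedCategory.homologyFunctor B 0).isoShift (d : ℤ))) ≪≫
    homologySingleNatIso F N hN d

lemma isZero_G (d : ℕ) (X : A) (h : IsZero ((F.rightDerived d).obj X)) :
    IsZero ((G F N hN d).obj X) :=
  h.of_iso ((GIso F N hN d).app X)

/-- The connecting morphism of a short exact sequence of objects. -/
noncomputable def δG (d : ℕ) {S : ShortComplex A} (hS : S.ShortExact) :
    (G F N hN d).obj S.X₃ ⟶ (G F N hN (d + 1)).obj S.X₁ :=
  (Φ F N hN).homologySequenceδ hS.singleTriangle (d : ℤ) ((d + 1 : ℕ) : ℤ) (by lia)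

lemma δG_naturality (d : ℕ) {S₁ S₂ : ShortComplex A} (h₁ : S₁.ShortExact) (h₂ : S₂.ShortExact)
    (f : S₁ ⟶ S₂) :
    (G F N hN d).map f.τ₃ ≫ δG F N hN d h₂ = δG F N hN d h₁ ≫ (G F N hN (d + 1)).map f.τ₁ :=
  (Φ F N hN).homologySequenceδ_naturality _ _ (ShortComplex.ShortExact.singleTriangle.map h₁ h₂ f)
    (d : ℤ) ((d + 1 : ℕ) : ℤ) (by lia)

lemma comp_δG (d : ℕ) {S : ShortComplex A} (hS : S.ShortExact) :
    (G F N hN d).map S.g ≫ δG F N hN d hS = 0 :=
  (Φ F N hN).comp_homologySequenceδ _ hS.singleTriangle_distinguished _ _ _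

/-- The short exact sequence when the extremes of the long sequence vanish. -/
lemma shortExact_δG (d : ℕ) {S : ShortComplex A} (hS : S.ShortExact)
    (h₁ : IsZero ((F.rightDerived d).obj S.X₁))
    (h₂ : IsZero ((F.rightDerived (d + 1)).obj S.X₂)) :
    (ShortComplex.mk _ _ (comp_δG F N hN d hS)).ShortExact := by
  have hT := hS.singleTriangle_distinguished
  refine ShortComplex.ShortExact.mk' ?_ ?_ ?_
  · exact (Φ F N hN).homologySequence_exact₃ _ hT (d : ℤ) ((d + 1 : ℕ) : ℤ) (by lia)
  · exact ((Φ F N hN).homologySequence_exact₂ _ hT (d : ℤ)).mono_g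
      ((isZero_G F N hN d _ h₁).eq_of_src _ _)
  · exact ((Φ F N hN).homologySequence_exact₁ _ hT (d : ℤ) ((d + 1 : ℕ) : ℤ) (by lia)).epi_f
      ((isZero_G F N hN (d + 1) _ h₂).eq_of_tgt _ _)

end Groth.Agent.Lib.DerCat.RFh
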