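import Groth.Prelude.Def_CohDer
import Mathlib.CategoryTheory.Adjunction.Additive
import Mathlib.CategoryTheory.Limits.Preserves.Shapes.Products
import Mathlib.CategoryTheory.Triangulated.Subcategory

/-!
# Compact objects: basic closure properties
-/

universe v u

open CategoryTheory CategoryTheory.Limits CategoryTheory.Pretriangulated

namespace Groth.Agent.Lib.DerCat.Compact

variable {D : Type u} [Category.{v} D] [Preadditive D]

open CohDer

variable {K L : D} {ι : Type v} (X : ι → D) [HasCoproduct X]

lemma homSum_of [DecidableEq ι] (i : ι) (g : K ⟶ X i) :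
    homSumToHomCoprod K X (DirectSum.of (fun i => K ⟶ X i) i g) = g ≫ Sigma.ι X i := by
  obtain rfl : ‹DecidableEq ι› = fun a b => Classical.propDecidable (a = b) := Subsingleton.elim _ _
  simp [homSumToHomCoprod]
  rfl

lemma ι_comp_mem_range (i : ι) (g : K ⟶ X i) :
    g ≫ Sigma.ι X i ∈ (homSumToHomCoprod K X).range := by
  classical
  exact ⟨_, homSum_of X i g⟩

/-- The range of `homSumToHomCoprod` is the smallest subgroup containing the `g ≫ ι i`. -/
lemma range_le {P : AddSubgroup (K ⟶ ∐ X)} (h : ∀ i (g : K ⟶ X i), g ≫ Sigma.ι X i ∈ P) :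
    (homSumToHomCoprod K X).range ≤ P := by
  classical
  rintro f ⟨a, rfl⟩
  induction a using DirectSum.induction_on with
  | zero => simp [P.zero_mem]
  | of i g => rw [homSum_of]; exact h i g
  | add a b ha hb => rw [map_add]; exact P.add_mem ha hb

open Classical in
/-- The projection of a coproduct onto a summand. -/
noncomputable def proj (i : ι) : (∐ X) ⟶ X i :=
  Sigma.desc fun j => if h : j = i then eqToHom (by rw [h]) else 0

lemma ι_proj (i : ι) : Sigma.ι X i ≫ proj X i = 𝟙 _ := by
  simp [proj]

lemma ι_proj_ne {i j : ι} (h : j ≠ i) : Sigma.ι X j ≫ proj X i = 0 := by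
  simp [proj, h]

lemma homSum_injective : Function.Injective (homSumToHomCoprod K X) := by
  classical
  let π : ∀ i, (K ⟶ ∐ X) →+ (K ⟶ X i) := fun i => Preadditive.rightComp K (proj X i)
  have key : ∀ a i, π i (homSumToHomCoprod K X a) = a i := by
    intro a i
    induction a using DirectSum.induction_on with
    | zero => simp
    | of j g =>
      rw [homSum_of]
      change (g ≫ Sigma.ι X j) ≫ proj X i = _
      rw [Category.assoc]
      by_cases h : j = i
      · subst h; rw [ι_proj, Category.comp_id, DirectSum.of_eq_same]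
      · rw [ι_proj_ne X h, comp_zero, DirectSum.of_eq_of_ne _ _ _ (Ne.symm h)]
    | add a b ha hb => rw [map_add, map_add, ha, hb, DirectSum.add_apply]
  intro a b h
  ext i
  rw [← key a i, ← key b i, h]

/-- The idempotent of `∐ X` cutting out a finite set of summands. -/
noncomputable def cut (s : Finset ι) : (∐ X) ⟶ ∐ X := ∑ i ∈ s, proj X i ≫ Sigma.ι X i

open Classical in
lemma ι_cut (s : Finset ι) (i : ι) :
    Sigma.ι X i ≫ cut X s = if i ∈ s then Sigma.ι X i else 0 := by
  rw [cut, Preadditive.comp_sum]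
  split_ifs with h
  · rw [Finset.sum_eq_single i]
    · rw [← Category.assoc, ι_proj, Category.id_comp]
    · intro j _ hj; rw [← Category.assoc, ι_proj_ne X (Ne.symm hj), zero_comp]
    · exact fun h' => (h' h).elim
  · refine Finset.sum_eq_zero fun j hj => ?_
    rw [← Category.assoc, ι_proj_ne X (fun e => h (by rw [e]; exact hj)), zero_comp]

lemma cut_comp {s t : Finset ι} (h : s ⊆ t) : cut X s ≫ cut X t = cut X s := by
  classical
  apply colimit.hom_ext
  rintro ⟨i⟩
  change Sigma.ι X i ≫ cut X s ≫ cut X t = Sigma.ι X i ≫ cut X s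
  rw [← Category.assoc, ι_cut]
  split_ifs with hi
  · rw [ι_cut, if_pos (h hi)]
  · rw [zero_comp]

lemma comp_cut_mem_range (f : K ⟶ ∐ X) (s : Finset ι) :
    f ≫ cut X s ∈ (homSumToHomCoprod K X).range := by
  rw [cut, Preadditive.comp_sum]
  refine AddSubgroup.sum_mem _ fun i _ => ?_
  rw [← Category.assoc]
  exact ι_comp_mem_range X i _

lemma exists_cut {f : K ⟶ ∐ X} (hf : f ∈ (homSumToHomCoprod K X).range) :
    ∃ s : Finset ι, f ≫ cut X s = f := by
  classical
  obtain ⟨a, rfl⟩ := hf
  induction a using DirectSum.induction_on with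
  | zero => exact ⟨∅, by simp⟩
  | of i g =>
    refine ⟨{i}, ?_⟩
    rw [homSum_of, Category.assoc, ι_cut, if_pos (Finset.mem_singleton_self i)]
  | add a b ha hb =>
    obtain ⟨s, hs⟩ := ha
    obtain ⟨t, ht⟩ := hb
    refine ⟨s ∪ t, ?_⟩
    rw [map_add, Preadditive.add_comp]
    congr 1
    · rw [← hs, Category.assoc, cut_comp X Finset.subset_union_left]
    · rw [← ht, Category.assoc, cut_comp X Finset.subset_union_right]

lemma comp_mem_range {f : K ⟶ ∐ X} (hf : f ∈ (homSumToHomCoprod K X).range) (g : L ⟶ K) :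
    g ≫ f ∈ (homSumToHomCoprod L X).range := by
  refine range_le (P := ((homSumToHomCoprod L X).range).comap (Preadditive.leftComp _ g)) X
    (fun i h => ?_) hf
  change g ≫ h ≫ Sigma.ι X i ∈ (homSumToHomCoprod L X).range
  rw [← Category.assoc]
  exact ι_comp_mem_range X i _

variable [HasCoproducts.{v} D]

lemma isCompactObject_iff (K : D) : IsCompactObject K ↔
    ∀ (ι : Type v) (X : ι → D) (f : K ⟶ ∐ X), f ∈ (homSumToHomCoprod K X).range :=
  ⟨fun h ι X f => (h ι X).2 f, fun h ι X => ⟨homSum_injective X, h ι X⟩⟩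

lemma isCompactObject_of_isZero (h : IsZero K) : IsCompactObject K :=
  (isCompactObject_iff K).2 fun _ _ f => by rw [h.eq_of_src f 0]; exact AddSubgroup.zero_mem _

lemma isCompactObject_of_retract (r : Retract L K) (h : IsCompactObject K) : IsCompactObject L :=
  (isCompactObject_iff L).2 fun ι X f => by
    have := comp_mem_range X ((isCompactObject_iff K).1 h ι X (r.r ≫ f)) r.i
    rwa [← Category.assoc, r.retract, Category.id_comp] at this

lemma isCompactObject_of_iso (e : K ≅ L) (h : IsCompactObject K) : IsCompactObject L :=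
  isCompactObject_of_retract ⟨e.inv, e.hom, e.inv_hom_id⟩ h

section Shift

variable [HasShift D ℤ] [∀ n : ℤ, (shiftFunctor D n).Additive]

lemma isCompactObject_shift (h : IsCompactObject K) (n : ℤ) :
    IsCompactObject ((shiftFunctor D n).obj K) := by
  refine (isCompactObject_iff _).2 fun ι X f => ?_
  let adj : shiftFunctor D n ⊣ shiftFunctor D (-n) := (shiftEquiv D n).toAdjunction
  let H := adj.homAddEquiv K (∐ X)
  have : PreservesColimitsOfSize.{v, v} (shiftFunctor D (-n)) :=
    (shiftEquiv D n).symm.toAdjunction.leftAdjoint_preservesColimits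
  let θ := asIso (sigmaComparison (shiftFunctor D (-n)) X)
  obtain ⟨s, hs⟩ := exists_cut (fun i => (shiftFunctor D (-n)).obj (X i))
    ((isCompactObject_iff K).1 h ι _ ((H f) ≫ θ.inv))
  have hf : f = H.symm (((H f ≫ θ.inv) ≫ cut _ s) ≫ θ.hom) := by
    rw [hs, Category.assoc, θ.inv_hom_id, Category.comp_id, AddEquiv.symm_apply_apply]
  rw [hf, cut, Preadditive.comp_sum, Preadditive.sum_comp, map_sum]
  refine AddSubgroup.sum_mem _ fun i _ => ?_
  have e1 : ∀ (g : K ⟶ (shiftFunctor D (-n)).obj (X i)),
      H.symm (g ≫ (shiftFunctor D (-n)).map (Sigma.ι X i)) =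
        (adj.homEquiv K (X i)).symm g ≫ Sigma.ι X i := fun g =>
    adj.homEquiv_naturality_right_symm g (Sigma.ι X i)
  have e2 : Sigma.ι (fun i => (shiftFunctor D (-n)).obj (X i)) i ≫ θ.hom =
      (shiftFunctor D (-n)).map (Sigma.ι X i) := ι_comp_sigmaComparison _ _ i
  simp only [Category.assoc]
  rw [e2, ← Category.assoc, ← Category.assoc, e1]
  exact ι_comp_mem_range X i _

variable [HasZeroObject D] [Pretriangulated D]

lemma isCompactObject_ext₂ (T : Triangle D) (hT : T ∈ distinguishedTriangles)
    (h₁ : IsCompactObject T.obj₁) (h₃ : IsCompactObject T.obj₃) : IsCompactObject T.obj₂ := by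
  refine (isCompactObject_iff _).2 fun ι X f => ?_
  obtain ⟨s, hs⟩ := exists_cut X ((isCompactObject_iff _).1 h₁ ι X (T.mor₁ ≫ f))
  obtain ⟨g, hg⟩ := Triangle.yoneda_exact₂ T hT (f - f ≫ cut X s) (by
    rw [Preadditive.comp_sub, ← Category.assoc, hs, sub_self])
  have h := comp_mem_range X ((isCompactObject_iff _).1 h₃ ι X g) T.mor₂
  rw [← hg] at h
  have := AddSubgroup.add_mem _ h (comp_cut_mem_range X f s)
  rwa [sub_add_cancel] at this

theorem isTriangulated_isCompactObject :
    ObjectProperty.IsTriangulated (fun K : D => IsCompactObject K) where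
  exists_zero := ⟨_, isZero_zero D, isCompactObject_of_isZero (isZero_zero D)⟩
  isStableUnderShiftBy n := ⟨fun _ hX => isCompactObject_shift hX n⟩
  toIsTriangulatedClosed₂ :=
    ⟨fun T hT h₁ h₃ => ObjectProperty.le_isoClosure _ _ (isCompactObject_ext₂ T hT h₁ h₃)⟩

end Shift

end Groth.Agent.Lib.DerCat.Compact
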