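import Mathlib.CategoryTheory.Triangulated.Orthogonal
import Mathlib.CategoryTheory.ObjectProperty.Retract
import Mathlib.CategoryTheory.Adjunction.Additive
import Mathlib.CategoryTheory.Triangulated.Subcategory

/-!
# Generalities on triangulated categories
-/

universe v u

open CategoryTheory CategoryTheory.Limits CategoryTheory.Pretriangulated

namespace Groth.Agent.Lib.DerCat.Tri

variable {D : Type u} [Category.{v} D] [Preadditive D] [HasShift D ℤ]
  [∀ n : ℤ, (shiftFunctor D n).Additive]

lemma rightOrthogonal_retract (P : ObjectProperty D) {X Y : D} (r : Retract X Y)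
    (h : P.rightOrthogonal Y) : P.rightOrthogonal X := fun Z f hZ => by
  have h0 : f ≫ r.i = 0 := h _ hZ
  calc f = (f ≫ r.i) ≫ r.r := by rw [Category.assoc, r.retract, Category.comp_id]
    _ = 0 := by rw [h0, zero_comp]

lemma leftOrthogonal_retract (P : ObjectProperty D) {X Y : D} (r : Retract X Y)
    (h : P.leftOrthogonal Y) : P.leftOrthogonal X := fun Z f hZ => by
  have h0 : r.r ≫ f = 0 := h _ hZ
  calc f = r.i ≫ r.r ≫ f := by rw [← Category.assoc, r.retract, Category.id_comp]
    _ = 0 := by rw [h0, comp_zero]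

/-- Vanishing of maps out of a shift, transposed. -/
lemma hom_shift_left_eq_zero_iff (X Y : D) (n : ℤ) :
    (∀ f : X⟦n⟧ ⟶ Y, f = 0) ↔ (∀ f : X ⟶ Y⟦-n⟧, f = 0) := by
  let adj : shiftFunctor D n ⊣ shiftFunctor D (-n) := (shiftEquiv D n).toAdjunction
  let H := adj.homAddEquiv X Y
  constructor
  · intro h f; rw [← H.apply_symm_apply f, h (H.symm f), map_zero]
  · intro h f; rw [← H.symm_apply_apply f, h (H f), map_zero]

/-- Vanishing of maps into a shift, transposed. -/
lemma hom_shift_right_eq_zero_iff (X Y : D) (n : ℤ) :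
    (∀ f : X ⟶ Y⟦n⟧, f = 0) ↔ (∀ f : X⟦-n⟧ ⟶ Y, f = 0) := by
  have h := hom_shift_left_eq_zero_iff X Y (-n)
  rw [neg_neg] at h
  exact h.symm

end Groth.Agent.Lib.DerCat.Tri
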