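import Groth.Agent.Lib.DerCat.Brown
import Mathlib.CategoryTheory.Triangulated.Opposite.Pretriangulated
import Mathlib.CategoryTheory.Limits.Shapes.Opposites.Products
import Mathlib.Algebra.Category.Grp.Limits
import Groth.Agent.Lib.DerCat.Compact
import Groth.Agent.Lib.DerCat.Tri

/-!
# Perfect generators

A family which detects zero objects and satisfies the countable factorization property gives,
after closing under shifts, perfect generators; so does a compact generating family.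
-/

universe v u

open CategoryTheory CategoryTheory.Limits CategoryTheory.Pretriangulated

namespace Groth.Agent.Lib.DerCat.BrownGen

variable {D : Type u} [Category.{v} D] [Preadditive D] [HasZeroObject D] [HasShift D ℤ]
  [∀ n : ℤ, (shiftFunctor D n).Additive] [Pretriangulated D] [HasColimitsOfShape (Discrete ℕ) D]

/-- All shifts of a family. -/
noncomputable abbrev shifts {ι : Type v} (E : ι → D) : ι × ULift.{v} ℤ → D := fun p => (E p.1)⟦p.2.down⟧

lemma exists_factor_shift {ι : Type v} (E : ι → D)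
    (h2 : ∀ (X : ℕ → D) (i : ι) (α : E i ⟶ ∐ X), ∃ (j : ℕ → ι) (β : ∀ n, E (j n) ⟶ X n)
      (γ : E i ⟶ ∐ (fun n => E (j n))), α = γ ≫ Limits.Sigma.map β)
    (X : ℕ → D) (i : ι) (m : ℤ) (α : (E i)⟦m⟧ ⟶ ∐ X) :
    ∃ (j : ℕ → ι) (β : ∀ n, (E (j n))⟦m⟧ ⟶ X n) (γ : (E i)⟦m⟧ ⟶ ∐ fun n => (E (j n))⟦m⟧),
      α = γ ≫ Limits.Sigma.map β := by
  let cmp := PreservesCoproduct.iso (shiftFunctor D (-m)) X
  let e := (shiftShiftNeg (E i) m).symm
  obtain ⟨j, β, γ, hγ⟩ := h2 (fun n => (X n)⟦-m⟧) i (e.hom ≫ α⟦-m⟧' ≫ cmp.hom)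
  let ν := fun Y : D => shiftNegShift Y m
  let θ : (E i)⟦m⟧ ≅ (E i)⟦m⟧ := (shiftFunctor D m).mapIso e ≪≫ ν ((E i)⟦m⟧)
  let K : (∐ fun n => (X n)⟦-m⟧)⟦m⟧ ⟶ ∐ X :=
    (PreservesCoproduct.iso (shiftFunctor D m) fun n => (X n)⟦-m⟧).hom ≫
      Limits.Sigma.map fun n => (ν (X n)).hom
  have hK : cmp.hom⟦m⟧' ≫ K = (ν (∐ X)).hom := by
    rw [← cancel_epi (cmp.inv⟦m⟧'), ← Functor.map_comp_assoc, cmp.inv_hom_id,
      CategoryTheory.Functor.map_id, Category.id_comp]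
    rw [← cancel_epi (PreservesCoproduct.iso (shiftFunctor D m) fun n => (X n)⟦-m⟧).inv]
    refine Sigma.hom_ext _ _ fun n => ?_
    have h1 : (Sigma.ι X n)⟦-m⟧'⟦m⟧' ≫ (ν (∐ X)).hom = (ν (X n)).hom ≫ Sigma.ι X n :=
      (shiftFunctorCompIsoId D (-m) m (by simp)).hom.naturality (Sigma.ι X n)
    simp only [K, cmp, PreservesCoproduct.inv_hom, Iso.inv_hom_id_assoc, ι_comp_sigmaComparison_assoc,
      Sigma.ι_map]
    rw [← Functor.map_comp_assoc, ι_comp_sigmaComparison, h1,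
      ← ι_comp_sigmaComparison (shiftFunctor D m), Category.assoc,
      ← PreservesCoproduct.inv_hom, Iso.inv_hom_id_assoc, Sigma.ι_map]
  refine ⟨j, fun n => (β n)⟦m⟧' ≫ (ν (X n)).hom,
    θ.inv ≫ γ⟦m⟧' ≫ (PreservesCoproduct.iso (shiftFunctor D m) fun n => E (j n)).hom, ?_⟩
  have h2 : α⟦-m⟧'⟦m⟧' ≫ (ν (∐ X)).hom = (ν ((E i)⟦m⟧)).hom ≫ α :=
    (shiftFunctorCompIsoId D (-m) m (by simp)).hom.naturality α
  have h3 : (PreservesCoproduct.iso (shiftFunctor D m) fun n => E (j n)).hom ≫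
      Limits.Sigma.map (fun n => (β n)⟦m⟧' ≫ (ν (X n)).hom) = (Limits.Sigma.map β)⟦m⟧' ≫ K := by
    rw [← cancel_epi (PreservesCoproduct.iso (shiftFunctor D m) fun n => E (j n)).inv,
      Iso.inv_hom_id_assoc]
    refine Sigma.hom_ext _ _ fun n => ?_
    simp only [PreservesCoproduct.inv_hom, ι_comp_sigmaComparison_assoc, Sigma.ι_map]
    rw [← Functor.map_comp_assoc, Sigma.ι_map, Functor.map_comp, Category.assoc, Category.assoc]
    congr 1
    simp only [K]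
    rw [← ι_comp_sigmaComparison, Category.assoc, ← PreservesCoproduct.inv_hom,
      Iso.inv_hom_id_assoc, Sigma.ι_map]
  rw [Category.assoc, Category.assoc, h3, ← Functor.map_comp_assoc, ← hγ, Functor.map_comp,
    Functor.map_comp, Category.assoc, Category.assoc, hK, h2]
  simp [θ]

variable [HasCoproducts.{v} D]

theorem perfGen_of_factor {ι : Type v} (E : ι → D)
    (h1 : ∀ X : D, ¬ IsZero X → ∃ (i : ι) (f : E i ⟶ X), f ≠ 0)
    (h2 : ∀ (X : ℕ → D) (i : ι) (α : E i ⟶ ∐ X), ∃ (j : ℕ → ι) (β : ∀ n, E (j n) ⟶ X n)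
      (γ : E i ⟶ ∐ (fun n => E (j n))), α = γ ≫ Limits.Sigma.map β) :
    Brown.PerfGen (shifts E) where
  shift := fun ⟨i, ⟨a⟩⟩ m => ⟨(i, ⟨a + m⟩), ⟨((shiftFunctorAdd D a m).app (E i)).symm⟩⟩
  gen X h := by
    by_contra hX
    obtain ⟨i, f, hf⟩ := h1 X hX
    have h0 : (shiftFunctorZero D ℤ).hom.app (E i) ≫ f = 0 := h (i, ⟨0⟩) _
    refine hf ?_
    rw [← cancel_epi ((shiftFunctorZero D ℤ).hom.app (E i)), comp_zero]
    exact h0
  perf := fun X ⟨i, ⟨m⟩⟩ α => by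
    obtain ⟨j, β, γ, h⟩ := exists_factor_shift E h2 X i m α
    exact ⟨fun n => (j n, ⟨m⟩), β, γ, h⟩

theorem perfGen_of_compact {ι : Type v} (E : ι → D) (hc : ∀ i, CohDer.IsCompactObject (E i))
    (hg : CohDer.Generates E) : Brown.PerfGen (shifts E) where
  shift := fun ⟨i, ⟨a⟩⟩ m => ⟨(i, ⟨a + m⟩), ⟨((shiftFunctorAdd D a m).app (E i)).symm⟩⟩
  gen X h := hg X fun i n f => by
    exact (Groth.Agent.Lib.DerCat.Tri.hom_shift_right_eq_zero_iff (E i) X n).2
      (fun g => h (i, ⟨-n⟩) g) f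
  perf := fun X ⟨i, ⟨m⟩⟩ α => by
    classical
    let X' : ULift.{v} ℕ → D := fun k => X k.down
    let a : (∐ X) ⟶ ∐ X' := Sigma.desc fun n => Sigma.ι X' ⟨n⟩
    let b : (∐ X') ⟶ ∐ X := Sigma.desc fun k => Sigma.ι X k.down
    have hab : a ≫ b = 𝟙 _ := Sigma.hom_ext _ _ fun n => by simp [a, b, X']
    obtain ⟨z, hz⟩ := (Groth.Agent.Lib.DerCat.Compact.isCompactObject_shift (hc i) m _ X').2
      (α ≫ a)
    refine ⟨fun _ => (i, ⟨m⟩), fun n => z ⟨n⟩,
      ∑ k ∈ DFinsupp.support z, Sigma.ι (fun _ : ℕ => shifts E (i, ⟨m⟩)) k.down, ?_⟩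
    have : α = (α ≫ a) ≫ b := by rw [Category.assoc, hab, Category.comp_id]
    rw [this, ← hz]
    conv_lhs => rw [← DirectSum.sum_support_of z, map_sum]
    rw [Preadditive.sum_comp, Preadditive.sum_comp]
    refine Finset.sum_congr rfl fun k _ => ?_
    rw [Groth.Agent.Lib.DerCat.Compact.homSum_of, Category.assoc, Sigma.ι_desc, Sigma.ι_map]

open CategoryTheory.Pretriangulated.Opposite Opposite in
theorem cohom_of_isHomological (H : Dᵒᵖ ⥤ AddCommGrpCat.{v}) [H.IsHomological]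
    [∀ κ : Type v, PreservesLimitsOfShape (Discrete κ) H] : Brown.Cohom H where
  additive := inferInstance
  exact T hT x hx :=
    (ShortComplex.ab_exact_iff _).1 (H.map_distinguished_op_exact T hT) x hx
  prod {κ} K x := by
    have t : IsLimit (Cofan.mk (∐ K) (Sigma.ι K)).op :=
      Cofan.IsColimit.op (coproductIsCoproduct K)
    let t' := isLimitFanMkObjOfIsLimit (H ⋙ forget AddCommGrpCat.{v}) (fun k => op (K k))
      (fun k => (Sigma.ι K k).op) t
    let f := fun k => TypeCat.ofHom (fun _ : PUnit.{v + 1} => x k)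
    obtain ⟨l, hl⟩ : ∃ l, ∀ k, l ≫ (H ⋙ forget AddCommGrpCat.{v}).map (Sigma.ι K k).op = f k :=
      ⟨Fan.IsLimit.lift t' f, fun k => Fan.IsLimit.fac t' f k⟩
    refine ⟨l PUnit.unit, fun k => ConcreteCategory.congr_hom (hl k) PUnit.unit, fun y hy => ?_⟩
    have : TypeCat.ofHom (fun _ : PUnit.{v + 1} => y) = l := Fan.IsLimit.hom_ext t' _ _ fun k => by
      ext u
      exact (hy k).trans (ConcreteCategory.congr_hom (hl k) u).symm
    exact ConcreteCategory.congr_hom this PUnit.unit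

end Groth.Agent.Lib.DerCat.BrownGen
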