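import Groth.Agent.Lib.DerCat.HProd
import Groth.Agent.Lib.DerCat.Compact
import Groth.Agent.Lib.DerCat.KInjExists
import Mathlib.Algebra.Category.ModuleCat.AB
import Mathlib.Algebra.Category.ModuleCat.Projective
import Mathlib.Algebra.Homology.DerivedCategory.KProjective
import Mathlib.Algebra.Homology.ShortComplex.ModuleCat

/-!
# The derived category of modules is compactly generated
-/

universe w v u

open CategoryTheory CategoryTheory.Limits

namespace Groth.Agent.Lib.DerCat.ModGen

section

open Groth.Agent.Lib.DerivedOX.RightDerived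

variable {A : Type u} [Category.{v} A] [Abelian A] [IsGrothendieckAbelian.{v} A]

lemma small_hom_standard (X Y : CochainComplex A ℤ) :
    Small.{v} ((HomologicalComplex.quasiIso A (ComplexShape.up ℤ)).Q.obj X ⟶
      (HomologicalComplex.quasiIso A (ComplexShape.up ℤ)).Q.obj Y) := by
  letI := HasDerivedCategory.standard A
  obtain ⟨I, f, hI, hf⟩ := KInjExists.hasKInjRes Y
  change Small.{v} (DerivedCategory.Q.obj X ⟶ DerivedCategory.Q.obj Y)
  let e : DerivedCategory.Q.obj Y ≅
      DerivedCategory.Qh.obj ((HomotopyCategory.quotient A (ComplexShape.up ℤ)).obj I) :=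
    asIso (DerivedCategory.Q.map f) ≪≫ ((DerivedCategory.quotientCompQhIso A).app I).symm
  let e' := ((DerivedCategory.quotientCompQhIso A).app X).symm
  exact small_of_injective (f := fun φ : DerivedCategory.Q.obj X ⟶ DerivedCategory.Q.obj Y =>
    (Equiv.ofBijective _ (CochainComplex.IsKInjective.Qh_map_bijective
      ((HomotopyCategory.quotient A (ComplexShape.up ℤ)).obj X) I)).symm (e'.inv ≫ φ ≫ e.hom))
    fun a b h => by
      have h' := (Equiv.injective _) h
      rwa [cancel_epi, cancel_mono] at h'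

/-- A derived category of a Grothendieck abelian category with small morphism types. -/
@[instance_reducible]
noncomputable def hasDerivedCategory : HasDerivedCategory.{v} A :=
  let W := HomologicalComplex.quasiIso A (ComplexShape.up ℤ)
  haveI : LocallySmall.{v} W.Localization := ⟨fun X Y => by
    obtain ⟨X, rfl⟩ := (Localization.Construction.objEquiv W).surjective X
    obtain ⟨Y, rfl⟩ := (Localization.Construction.objEquiv W).surjective Y
    exact small_hom_standard X Y⟩
  haveI : (W.Q ⋙ (ShrinkHoms.equivalence W.Localization).functor).IsLocalization W :=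
    Functor.IsLocalization.of_equivalence_target W.Q W _ _ (Iso.refl _)
  { D := ShrinkHoms W.Localization
    L := W.Q ⋙ (ShrinkHoms.equivalence W.Localization).functor }

end

variable (R : Type v) [Ring R]

lemma exists_finite_support {κ : Type*} {M : κ → ModuleCat.{v} R} {c : Cofan M}
    (hc : IsColimit c) (x : c.pt) :
    ∃ s : Finset κ, ∀ p : c.pt ⟶ c.pt, (∀ j ∈ s, c.inj j ≫ p = c.inj j) → p.hom x = x := by
  classical
  let N : Submodule R c.pt := ⨆ j, LinearMap.range (c.inj j).hom
  have hN : ModuleCat.ofHom N.mkQ = 0 := Cofan.IsColimit.hom_ext hc _ _ fun j => by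
    rw [comp_zero]
    ext m
    exact (Submodule.Quotient.mk_eq_zero N).2 (Submodule.mem_iSup_of_mem j ⟨m, rfl⟩)
  have hx : x ∈ N := (Submodule.Quotient.mk_eq_zero N).1
    (congrArg (fun f : c.pt ⟶ ModuleCat.of R (c.pt ⧸ N) => f.hom x) hN)
  obtain ⟨s, hs⟩ := Submodule.exists_finset_of_mem_iSup _ hx
  refine ⟨s, fun p hp => ?_⟩
  have hle : (⨆ j ∈ s, LinearMap.range (c.inj j).hom) ≤ LinearMap.eqLocus p.hom LinearMap.id :=
    iSup₂_le fun j hj => by
      rintro _ ⟨m, rfl⟩
      exact congrArg (fun f : M j ⟶ c.pt => f.hom m) (hp j hj)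
  exact hle hs

variable [HasDerivedCategory.{v} (ModuleCat.{v} R)]

/-- The module `R` placed in degree `n`. -/
noncomputable abbrev sing (n : ℤ) : CochainComplex (ModuleCat.{v} R) ℤ :=
  (HomologicalComplex.single (ModuleCat.{v} R) (ComplexShape.up ℤ) n).obj (ModuleCat.of R R)

instance (n i : ℤ) : Projective ((sing R n).X i) := by
  have : Projective (ModuleCat.of R R) :=
    ModuleCat.projective_of_categoryTheory_projective _
  by_cases h : i = n
  · subst h
    exact Projective.of_iso (HomologicalComplex.singleObjXSelf (ComplexShape.up ℤ) i _).symm this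
  · exact (HomologicalComplex.isZero_single_obj_X (ComplexShape.up ℤ) n _ i h).projective

instance (n : ℤ) : (sing R n).IsKProjective :=
  have : (sing R n).IsStrictlyLE n := inferInstance
  CochainComplex.isKProjective_of_projective _ n

/-- The generators. -/
noncomputable abbrev gen (p : ULift.{v} ℤ) : DerivedCategory (ModuleCat.{v} R) :=
  DerivedCategory.Qh.obj ((HomotopyCategory.quotient _ (ComplexShape.up ℤ)).obj (sing R p.down))

theorem generates_gen : CohDer.Generates (gen R) := by
  have := Groth.Agent.Lib.DerivedOX.RightDerived.isLeftAdjoint_Qh (A := ModuleCat.{v} R)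
    KInjExists.hasKInjRes
  intro K hK
  obtain ⟨X, ⟨e⟩⟩ : ∃ X, Nonempty (DerivedCategory.Qh.obj X ≅ K) :=
    ⟨_, ⟨DerivedCategory.Qh.objObjPreimageIso K⟩⟩
  obtain ⟨L, rfl⟩ := HomotopyCategory.quotient_obj_surjective X
  refine IsZero.of_iso ?_ e.symm
  refine Groth.Agent.Lib.DerivedOX.RightDerived.isZero_Qh_obj_of_acyclic fun n => ?_
  rw [HomologicalComplex.exactAt_iff' _ (n - 1) n (n + 1) (by simp) (by simp),
    ShortComplex.moduleCat_exact_iff]
  intro (z : L.X n) (hz : (L.d n (n + 1)).hom z = 0)
  let φ : sing R n ⟶ L := HomologicalComplex.mkHomFromSingle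
    (ModuleCat.ofHom (LinearMap.toSpanSingleton R _ z)) fun k hk => by
      obtain rfl : n + 1 = k := hk
      ext
      simpa using hz
  have h0 : (HomotopyCategory.quotient _ (ComplexShape.up ℤ)).map φ = 0 := by
    apply (CochainComplex.IsKProjective.Qh_map_bijective (sing R n) _).1
    rw [Functor.map_zero]
    let w := e.hom ≫ (shiftFunctorZero (DerivedCategory (ModuleCat.{v} R)) ℤ).inv.app K
    rw [← cancel_mono w, zero_comp]
    exact hK ⟨n⟩ 0 _
  let h := HomotopyCategory.homotopyOfEq φ 0 (h0.trans (Functor.map_zero _ _ _).symm)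
  have hc := h.comm n
  rw [HomologicalComplex.zero_f, add_zero, prevD_eq h.hom (show (ComplexShape.up ℤ).Rel (n - 1) n from by simp),
    dNext_eq h.hom (show (ComplexShape.up ℤ).Rel n (n + 1) from rfl),
    HomologicalComplex.single_obj_d, zero_comp, zero_add] at hc
  let t := ((HomologicalComplex.singleObjXSelf (ComplexShape.up ℤ) n (ModuleCat.of R R)).inv)
  refine ⟨(t ≫ h.hom n (n - 1)).hom 1, ?_⟩
  have := congrArg (fun f : (sing R n).X n ⟶ L.X n => (t ≫ f).hom (1 : R)) hc
  simp [φ, t] at this
  exact this.symm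

theorem isCompactObject_gen [HasCoproducts.{v} (DerivedCategory (ModuleCat.{v} R))]
    (p : ULift.{v} ℤ) : CohDer.IsCompactObject (gen R p) := by
  classical
  have := Groth.Agent.Lib.DerivedOX.RightDerived.isLeftAdjoint_Qh (A := ModuleCat.{v} R)
    KInjExists.hasKInjRes
  refine (Compact.isCompactObject_iff _).2 fun ι X f => ?_
  let n := p.down
  let q := HomotopyCategory.quotient (ModuleCat.{v} R) (ComplexShape.up ℤ)
  have : ∀ i, ∃ L, Nonempty (DerivedCategory.Qh.obj (q.obj L) ≅ X i) := fun i => by
    obtain ⟨L, hL⟩ :=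
      HomotopyCategory.quotient_obj_surjective (DerivedCategory.Qh.objPreimage (X i))
    exact ⟨L, ⟨DerivedCategory.Qh.mapIso (eqToIso hL) ≪≫
      DerivedCategory.Qh.objObjPreimageIso (X i)⟩⟩
  choose L hL using this
  let e := fun i => (hL i).some
  have hc := isColimitCofanMkObjOfIsColimit DerivedCategory.Qh (fun i => q.obj (L i))
    (fun i => q.map (Sigma.ι L i)) (HProd.isColimitCofan L)
  let a : (∐ X) ⟶ DerivedCategory.Qh.obj (q.obj (∐ L)) :=
    Sigma.desc fun i => (e i).inv ≫ DerivedCategory.Qh.map (q.map (Sigma.ι L i))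
  let b : DerivedCategory.Qh.obj (q.obj (∐ L)) ⟶ ∐ X :=
    Cofan.IsColimit.desc hc fun i => (e i).hom ≫ Sigma.ι X i
  have hb : ∀ i, DerivedCategory.Qh.map (q.map (Sigma.ι L i)) ≫ b =
      (e i).hom ≫ Sigma.ι X i := fun i => Cofan.IsColimit.fac hc _ i
  have hab : a ≫ b = 𝟙 _ := Sigma.hom_ext _ _ fun i => by simp [a, hb]
  obtain ⟨φ', hφ'⟩ := (CochainComplex.IsKProjective.Qh_map_bijective (sing R n) _).2 (f ≫ a)
  obtain ⟨φ, rfl⟩ := q.map_surjective φ'
  -- finite support in degree `n`
  let c : Cofan fun i => (L i).X n :=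
    Cofan.mk ((∐ L).X n) fun i => (Sigma.ι L i).f n
  have hcn : IsColimit c := isColimitCofanMkObjOfIsColimit
    (HomologicalComplex.eval (ModuleCat.{v} R) (ComplexShape.up ℤ) n) L (Sigma.ι L)
    (coproductIsCoproduct L)
  let t := ((HomologicalComplex.singleObjXSelf (ComplexShape.up ℤ) n (ModuleCat.of R R)).inv)
  obtain ⟨s, hs⟩ := exists_finite_support R hcn ((t ≫ φ.f n).hom (1 : R))
  have hφ : φ ≫ Compact.cut L s = φ := by
    apply HomologicalComplex.from_single_hom_ext
    rw [HomologicalComplex.comp_f, ← cancel_epi t]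
    ext
    simp only [ModuleCat.hom_comp, LinearMap.coe_comp, Function.comp_apply]
    refine hs ((Compact.cut L s).f n) fun j hj => ?_
    change (Sigma.ι L j).f n ≫ (Compact.cut L s).f n = (Sigma.ι L j).f n
    rw [← HomologicalComplex.comp_f, Compact.ι_cut, if_pos hj]
  have hf : f = DerivedCategory.Qh.map (q.map φ) ≫ b := by
    rw [hφ', Category.assoc, hab, Category.comp_id]
  rw [hf, ← hφ, Compact.cut, Preadditive.comp_sum, Functor.map_sum, Functor.map_sum,
    Preadditive.sum_comp]
  refine AddSubgroup.sum_mem _ fun i _ => ?_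
  rw [← Category.assoc, Functor.map_comp, Functor.map_comp, Category.assoc, hb, ← Category.assoc]
  exact Compact.ι_comp_mem_range X i _

end Groth.Agent.Lib.DerCat.ModGen
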