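import Groth.Prelude.Def_DerLim
import Mathlib.CategoryTheory.Limits.Shapes.Products
import Mathlib.CategoryTheory.Abelian.GrothendieckAxioms.Basic
import Mathlib.CategoryTheory.Functor.OfSequence
import Mathlib.CategoryTheory.Limits.Connected
import Mathlib.CategoryTheory.Filtered.Connected
import Mathlib.CategoryTheory.Abelian.Exact
import Mathlib.Algebra.Homology.ShortComplex.ExactFunctor
import Mathlib.Algebra.Homology.ShortComplex.ShortExact

/-!
# Sequential colimits as cokernels of `1 - shift`
-/

universe w v u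

open CategoryTheory CategoryTheory.Limits

namespace Groth.Agent.Lib.DerCat.SeqColim

variable {A : Type u} [Category.{v} A] [Abelian A] (F : ℕ ⥤ A) [HasCoproduct F.obj]

/-- The endomorphism `shift` of the coproduct. -/
noncomputable abbrev sh : (∐ F.obj) ⟶ ∐ F.obj :=
  DerLim.shiftMap F.obj (fun n => F.map (homOfLE (Nat.le_succ n)))

lemma ι_sh (n : ℕ) :
    Sigma.ι F.obj n ≫ sh F = F.map (homOfLE (Nat.le_succ n)) ≫ Sigma.ι F.obj (n + 1) :=
  Sigma.ι_desc (fun n => F.map (homOfLE (Nat.le_succ n)) ≫ Sigma.ι F.obj (n + 1)) n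

open Classical in
/-- Projection onto the summands of index `< n`. -/
noncomputable def cut (n : ℕ) : (∐ F.obj) ⟶ ∐ F.obj :=
  Sigma.desc fun m => if m < n then Sigma.ι F.obj m else 0

lemma ι_cut_of_lt {n m : ℕ} (h : m < n) : Sigma.ι F.obj m ≫ cut F n = Sigma.ι F.obj m := by
  simp [cut, h]

lemma ι_cut_of_le {n m : ℕ} (h : n ≤ m) : Sigma.ι F.obj m ≫ cut F n = 0 := by
  simp [cut, Nat.not_lt.2 h]

lemma cut_comp {n m : ℕ} (h : n ≤ m) : cut F n ≫ cut F m = cut F n := by
  apply Sigma.hom_ext
  intro k
  by_cases hk : k < n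
  · rw [← Category.assoc, ι_cut_of_lt F hk, ι_cut_of_lt F (hk.trans_le h)]
  · rw [← Category.assoc, ι_cut_of_le F (Nat.le_of_not_lt hk), zero_comp]

/-- `shift^k`. -/
noncomputable def shPow : ℕ → ((∐ F.obj) ⟶ ∐ F.obj)
  | 0 => 𝟙 _
  | k + 1 => sh F ≫ shPow k

lemma shPow_cut (k n : ℕ) : ∀ m : ℕ, n ≤ m + k → Sigma.ι F.obj m ≫ shPow F k ≫ cut F n = 0 := by
  induction k with
  | zero => intro m h; simp [shPow, ι_cut_of_le F (by simpa using h)]
  | succ k ih =>
    intro m h
    rw [shPow, Category.assoc, ← Category.assoc, ι_sh, Category.assoc, ih (m + 1) (by omega),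
      comp_zero]

/-- `1 + shift + ... + shift^(n-1)`. -/
noncomputable def geom : ℕ → ((∐ F.obj) ⟶ ∐ F.obj)
  | 0 => 0
  | n + 1 => 𝟙 _ + sh F ≫ geom n

lemma sub_comp_geom (n : ℕ) : (𝟙 _ - sh F) ≫ geom F n = 𝟙 _ - shPow F n := by
  induction n with
  | zero => simp [geom, shPow]
  | succ n ih =>
    rw [geom, shPow, Preadditive.comp_add, Category.comp_id, ← Category.assoc,
      show (𝟙 _ - sh F) ≫ sh F = sh F ≫ (𝟙 _ - sh F) by simp, Category.assoc, ih]
    simp [Preadditive.comp_sub]

/-- The finite partial coproducts. -/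
noncomputable def P : ℕ ⥤ A :=
  Functor.ofSequence (X := fun n => kernel (𝟙 _ - cut F n)) fun n =>
    kernel.lift _ (kernel.ι _) (by
      have h := kernel.condition (𝟙 _ - cut F n)
      rw [Preadditive.comp_sub, Category.comp_id, sub_eq_zero] at h
      rw [h, Category.assoc, Preadditive.comp_sub, Category.comp_id,
        cut_comp F (Nat.le_succ n), sub_self, comp_zero])

/-- The inclusion of a partial coproduct. -/
noncomputable def j : P F ⟶ (Functor.const ℕ).obj (∐ F.obj) :=
  NatTrans.ofSequence (fun n => kernel.ι (𝟙 _ - cut F n)) (fun n => by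
    simp only [P, Functor.ofSequence_map_homOfLE_succ]
    exact (kernel.lift_ι _ _ _).trans (Category.comp_id _).symm)

lemma j_cut (n : ℕ) : (j F).app n ≫ cut F n = (j F).app n := by
  have h := kernel.condition (𝟙 _ - cut F n)
  rw [Preadditive.comp_sub, Category.comp_id, sub_eq_zero] at h
  exact h.symm

instance mono_j (n : ℕ) : Mono ((j F).app n) := inferInstanceAs (Mono (kernel.ι _))

variable [HasColimitsOfShape ℕ A]

/-- `colim P ≅ ∐ F`. -/
noncomputable def toCoprod : colimit (P F) ⟶ ∐ F.obj :=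
  colimit.desc (P F) ⟨_, j F⟩

/-- The lift of the inclusion of a summand. -/
noncomputable def liftι {m n : ℕ} (h : m < n) : F.obj m ⟶ (P F).obj n :=
  kernel.lift _ (Sigma.ι F.obj m) (by
    rw [Preadditive.comp_sub, Category.comp_id, ι_cut_of_lt F h, sub_self])

lemma liftι_j {m n : ℕ} (h : m < n) : liftι F h ≫ (j F).app n = Sigma.ι F.obj m :=
  kernel.lift_ι _ _ _

/-- The inverse of `toCoprod`. -/
noncomputable def ofCoprod : (∐ F.obj) ⟶ colimit (P F) :=
  Sigma.desc fun m => liftι F (Nat.lt_succ_self m) ≫ colimit.ι (P F) (m + 1)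

instance isIso_toCoprod : IsIso (toCoprod F) := by
  refine ⟨ofCoprod F, ?_, ?_⟩
  · apply colimit.hom_ext
    intro n
    rw [toCoprod, colimit.ι_desc_assoc, Category.comp_id]
    change (j F).app n ≫ ofCoprod F = _
    have key : ∀ k, n ≤ k → (j F).app n ≫ ofCoprod F ≫ toCoprod F = (j F).app n := by
      intro k _
      have : ofCoprod F ≫ toCoprod F = 𝟙 _ := by
        apply Sigma.hom_ext
        intro m
        rw [ofCoprod, Sigma.ι_desc_assoc, Category.assoc, toCoprod, colimit.ι_desc]
        erw [liftι_j, Category.comp_id]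
      rw [this]; exact Category.comp_id _
    rw [← j_cut, Category.assoc]
    have e : cut F n ≫ ofCoprod F =
        Sigma.desc (fun m => if h : m < n then liftι F h ≫ colimit.ι (P F) n else 0) := by
      apply Sigma.hom_ext
      intro m
      by_cases hm : m < n
      · rw [← Category.assoc, ι_cut_of_lt F hm, ofCoprod, Sigma.ι_desc, Sigma.ι_desc, dif_pos hm,
          ← colimit.w (P F) (homOfLE (show m + 1 ≤ n from hm)), ← Category.assoc]
        congr 1
        rw [← cancel_mono ((j F).app n), Category.assoc, NatTrans.naturality]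
        erw [Category.comp_id, liftι_j, liftι_j]
      · rw [← Category.assoc, ι_cut_of_le F (Nat.le_of_not_lt hm), zero_comp, Sigma.ι_desc,
          dif_neg hm]
    let d : (∐ F.obj) ⟶ (P F).obj n :=
      Sigma.desc (fun m => if h : m < n then liftι F h else 0)
    have e' : cut F n ≫ ofCoprod F = d ≫ colimit.ι (P F) n := by
      rw [e]
      apply Sigma.hom_ext
      intro m
      simp only [d, Sigma.ι_desc, Sigma.ι_desc_assoc]
      split_ifs <;> simp
    have ed : d ≫ (j F).app n = cut F n := by
      apply Sigma.hom_ext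
      intro m
      simp only [d, Sigma.ι_desc_assoc]
      split_ifs with hm
      · rw [liftι_j, ι_cut_of_lt F hm]
      · rw [ι_cut_of_le F (Nat.le_of_not_lt hm)]; exact zero_comp
    have ed' : (j F).app n ≫ d = 𝟙 _ := by
      rw [← cancel_mono ((j F).app n), Category.assoc, ed, j_cut, Category.id_comp]
    rw [e', ← Category.assoc, ed', Category.id_comp]
  · apply Sigma.hom_ext
    intro m
    rw [ofCoprod, Sigma.ι_desc_assoc, Category.assoc, toCoprod, colimit.ι_desc]
    erw [liftι_j, Category.comp_id]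

variable [HasExactColimitsOfShape ℕ A]

instance mono_sub_sh : Mono (𝟙 _ - sh F) := by
  let α : P F ⟶ (Functor.const ℕ).obj (∐ F.obj) :=
    j F ≫ (Functor.const ℕ).map (𝟙 _ - sh F)
  have (n : ℕ) : Mono (α.app n) := by
    have h : α.app n ≫ geom F n ≫ cut F n = (j F).app n := by
      change ((j F).app n ≫ (𝟙 _ - sh F)) ≫ geom F n ≫ cut F n = _
      rw [Category.assoc, ← Category.assoc (𝟙 _ - sh F), sub_comp_geom, Preadditive.sub_comp,
        Preadditive.comp_sub]
      erw [Category.id_comp]
      have h0 : shPow F n ≫ cut F n = 0 := by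
        apply Sigma.hom_ext
        intro m
        rw [shPow_cut F n n m (by omega), comp_zero]
      rw [h0, j_cut, comp_zero, sub_zero]
    exact mono_of_mono_fac h
  have : Mono α := NatTrans.mono_of_mono_app α
  have : Mono (colim.map α) := inferInstance
  have : IsConnected ℕ := IsFiltered.isConnected ℕ
  let c : Cocone ((Functor.const ℕ).obj (∐ F.obj)) := constCocone ℕ (∐ F.obj)
  have hc : IsColimit c := isColimitConstCocone ℕ (∐ F.obj)
  have : IsIso (colimit.desc _ c) :=
    inferInstanceAs (IsIso ((colimit.isColimit _).coconePointUniqueUpToIso hc).hom)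
  have e : 𝟙 _ - sh F = inv (toCoprod F) ≫ colim.map α ≫ colimit.desc _ c := by
    rw [← cancel_epi (toCoprod F), IsIso.hom_inv_id_assoc]
    apply colimit.hom_ext
    intro n
    rw [toCoprod, colimit.ι_desc_assoc]
    simp [α, c, constCocone]
  exact e.symm ▸ (inferInstance : Mono (inv (toCoprod F) ≫ colim.map α ≫ colimit.desc _ c))

/-- The cocone attached to a map killed by `1 - shift`. -/
noncomputable def coconeOfSequence {Z : A} (k : (∐ F.obj) ⟶ Z)
    (hk : (𝟙 (∐ F.obj) - sh F) ≫ k = 0) : Cocone F :=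
  ⟨Z, NatTrans.ofSequence (fun n => Sigma.ι F.obj n ≫ k) (fun n => by
    have h := Sigma.ι F.obj n ≫= hk
    rw [comp_zero, Preadditive.sub_comp, Preadditive.comp_sub, sub_eq_zero, ← Category.assoc,
      ← Category.assoc, ι_sh, Category.comp_id, Category.assoc] at h
    simpa using h.symm)⟩

theorem shortExact_coproduct_colimit :
    ∃ w : (𝟙 (∐ F.obj) - sh F) ≫ Sigma.desc (fun n => colimit.ι F n) = 0,
      (ShortComplex.mk _ _ w).ShortExact := by
  have hs : ∀ n, Sigma.ι F.obj n ≫ (𝟙 _ - sh F) =
      Sigma.ι F.obj n - F.map (homOfLE (Nat.le_succ n)) ≫ Sigma.ι F.obj (n + 1) := fun n => by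
    rw [Preadditive.comp_sub, ι_sh, Category.comp_id]
  have w : (𝟙 (∐ F.obj) - sh F) ≫ Sigma.desc (fun n => colimit.ι F n) = 0 := by
    apply Sigma.hom_ext
    intro n
    rw [← Category.assoc, hs, comp_zero, Preadditive.sub_comp, Category.assoc]
    simp
  have hepi : Epi (Sigma.desc (fun n => colimit.ι F n)) :=
    ⟨fun g h e => colimit.hom_ext fun n => by
      have := Sigma.ι F.obj n ≫= e
      simpa using this⟩
  refine ⟨w, { exact := ShortComplex.exact_of_g_is_cokernel _ ?_ }⟩
  refine CokernelCofork.IsColimit.ofπ _ _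
    (fun {Z} k hk => colimit.desc F (coconeOfSequence F k hk)) (fun k hk => ?_)
    (fun k hk m hm => ?_)
  · apply Sigma.hom_ext
    intro n
    simp [coconeOfSequence]
  · rw [← cancel_epi (Sigma.desc fun n => colimit.ι F n)]
    refine hm.trans ?_
    apply Sigma.hom_ext
    intro n
    simp [coconeOfSequence]

end Groth.Agent.Lib.DerCat.SeqColim
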