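import Groth.Agent.Lib.DerCat.BrownGen
import Groth.Agent.Lib.DerCat.SeqColim
import Mathlib.CategoryTheory.Adjunction.Additive
import Mathlib.CategoryTheory.Triangulated.HomologicalFunctor
import Groth.Prelude.Def_DerLim

/-!
# Homotopy colimits and compact objects

Objects are homotopy colimits of sequences built from generators, maps from compact objects into
homotopy colimits factor through a stage, and homological functors preserving countable sums send
homotopy colimits to colimits.
-/

universe w v u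

open CategoryTheory CategoryTheory.Limits CategoryTheory.Pretriangulated Opposite

namespace Groth.Agent.Lib.DerCat.Hocolim

variable {D : Type u} [Category.{v} D] [Preadditive D] [HasZeroObject D] [HasShift D ℤ]
  [∀ n : ℤ, (shiftFunctor D n).Additive] [Pretriangulated D]

section

variable [HasCoproducts.{v} D] [HasColimitsOfShape (Discrete ℕ) D] {J : Type v} {E : J → D}

/-- A map bijective on maps from perfect generators is an isomorphism. -/
theorem isIso_of_bijective (hE : Brown.PerfGen E) {X' X : D} (π : X' ⟶ X)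
    (hbij : ∀ i, Function.Bijective fun f : E i ⟶ X' => f ≫ π) : IsIso π := by
  obtain ⟨C, g, h, hT⟩ := distinguished_cocone_triangle π
  have hC : IsZero C := hE.gen C fun i f => by
    have hfh : f ≫ h = 0 := by
      obtain ⟨i', ⟨e⟩⟩ := hE.shift i (-1)
      exact Brown.eq_zero_of_comp_shift e.symm (f ≫ h) π
        (by rw [Category.assoc]; exact (comp_distTriang_mor_zero₃₁ _ hT).symm ▸ comp_zero)
        (fun α hα => (hbij i').1 (show α ≫ π = 0 ≫ π by rw [hα, zero_comp]))
    obtain ⟨a, ha⟩ : ∃ a : E i ⟶ X, f = a ≫ g := Triangle.coyoneda_exact₃ _ hT f hfh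
    obtain ⟨b, rfl⟩ := (hbij i).2 a
    have : π ≫ g = 0 := comp_distTriang_mor_zero₁₂ _ hT
    rw [ha, Category.assoc, this, comp_zero]
  exact (Triangle.isZero₃_iff_isIso₁ _ hT).1 hC

/-- Every object is a homotopy colimit of an approximating sequence. -/
theorem exists_hocolim (hE : Brown.PerfGen E) (X : D) :
    ∃ (S : Brown.Approx E (preadditiveYoneda.obj X)) (p : ∀ n, S.X n ⟶ X),
      DerLim.IsHocolim S.X S.t X p := by
  obtain ⟨S, X', ι, c, π, hT, hι, hbij, -⟩ :=
    Brown.exists_object hE (Brown.cohom_yoneda (D := D) X)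
  change X' ⟶ X at π
  have : IsIso π := isIso_of_bijective hE π hbij
  refine ⟨S, fun n => ι n ≫ π, inv π ≫ c, ?_⟩
  refine isomorphic_distinguished _ hT _ ?_
  refine Triangle.isoMk _ _ (Iso.refl _) (Iso.refl _) (asIso π).symm ?_ ?_ ?_
  · exact (Category.comp_id _).trans (Category.id_comp _).symm
  · refine (IsIso.comp_inv_eq π).2 (Sigma.hom_ext _ _ fun n => ?_)
    change _ = Sigma.ι S.X n ≫ (𝟙 (∐ S.X) ≫ Sigma.desc ι) ≫ π
    simp only [Category.id_comp, Sigma.ι_desc_assoc]
    exact Sigma.ι_desc _ _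
  · exact (congrArg (_ ≫ ·) (CategoryTheory.Functor.map_id _ _)).trans (Category.comp_id _)

end

section Compact

variable [HasCoproducts.{v} D] [HasColimitsOfShape (Discrete ℕ) D]

omit [HasZeroObject D] [Pretriangulated D] [HasShift D ℤ]
  [∀ n : ℤ, (shiftFunctor D n).Additive] in
/-- A map from a compact object to a countable coproduct is a finite sum. -/
lemma exists_finite_sum {C : D} (hC : CohDer.IsCompactObject C) (K : ℕ → D) (h : C ⟶ ∐ K) :
    ∃ (N : ℕ) (g : ∀ n, C ⟶ K n), h = ∑ n ∈ Finset.range N, g n ≫ Sigma.ι K n := by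
  classical
  let K' : ULift.{v} ℕ → D := fun k => K k.down
  let a : (∐ K) ⟶ ∐ K' := Sigma.desc fun n => Sigma.ι K' ⟨n⟩
  let b : (∐ K') ⟶ ∐ K := Sigma.desc fun k => Sigma.ι K k.down
  have hab : a ≫ b = 𝟙 _ := Sigma.hom_ext _ _ fun n => by simp [a, b, K']
  obtain ⟨z, hz⟩ := (hC _ K').2 (h ≫ a)
  obtain ⟨N, hN⟩ := ((DFinsupp.support z).image ULift.down).exists_nat_subset_range
  refine ⟨N, fun n => z ⟨n⟩, ?_⟩
  have : h = (h ≫ a) ≫ b := by rw [Category.assoc, hab, Category.comp_id]
  rw [this, ← hz]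
  conv_lhs => rw [← DirectSum.sum_support_of z, map_sum, Preadditive.sum_comp]
  rw [← Finset.sum_subset hN fun n _ hn => ?_, Finset.sum_image (fun x _ y _ e => ULift.ext x y e)]
  · refine Finset.sum_congr rfl fun k _ => ?_
    rw [Compact.homSum_of, Category.assoc, Sigma.ι_desc]
  · have : z ⟨n⟩ = 0 := by
      by_contra hne
      exact hn (Finset.mem_image.2 ⟨⟨n⟩, DFinsupp.mem_support_toFun z ⟨n⟩ |>.2 hne, rfl⟩)
    simp only [this, zero_comp]

omit [HasZeroObject D] [Pretriangulated D] [HasShift D ℤ]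
  [∀ n : ℤ, (shiftFunctor D n).Additive] in
lemma eq_zero_of_comp_one_sub_shift {C : D} (hC : CohDer.IsCompactObject C) (K : ℕ → D)
    (f : ∀ n, K n ⟶ K (n + 1)) (h : C ⟶ ∐ K) (hh : h ≫ (𝟙 _ - DerLim.shiftMap K f) = 0) :
    h = 0 := by
  classical
  obtain ⟨N, g, rfl⟩ := exists_finite_sum hC K h
  let pr : ∀ m, (∐ K) ⟶ K m := fun m =>
    Sigma.desc fun n => if e : n = m then eqToHom (congrArg K e) else 0
  have hpr : ∀ m, Sigma.ι K m ≫ pr m = 𝟙 _ := fun m => by simp [pr]
  have hpr' : ∀ {n m}, n ≠ m → Sigma.ι K n ≫ pr m = 0 := fun {n m} e => by simp [pr, e]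
  have hg : ∀ m < N, g m = 0 := by
    intro m hm
    have h1 := hh =≫ pr m
    simp only [Preadditive.comp_sub, Category.comp_id, Preadditive.sub_comp, Preadditive.sum_comp,
      Category.assoc, zero_comp, sub_eq_zero] at h1
    rw [Finset.sum_eq_single m (fun n _ hn => by rw [hpr' hn, comp_zero])
      (fun h => absurd (Finset.mem_range.2 hm) h), hpr, Category.comp_id] at h1
    rw [h1]
    induction m with
    | zero =>
      refine Finset.sum_eq_zero fun n _ => ?_
      rw [DerLim.shiftMap, Sigma.ι_desc_assoc, Category.assoc, hpr' (Nat.succ_ne_zero n),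
        comp_zero, comp_zero]
    | succ m ih =>
      refine Finset.sum_eq_zero fun n _ => ?_
      rw [DerLim.shiftMap, Sigma.ι_desc_assoc, Category.assoc]
      by_cases e : n = m
      · subst e
        have h2 := hh =≫ pr n
        simp only [Preadditive.comp_sub, Category.comp_id, Preadditive.sub_comp,
          Preadditive.sum_comp, Category.assoc, zero_comp, sub_eq_zero] at h2
        rw [Finset.sum_eq_single n (fun k _ hn => by rw [hpr' hn, comp_zero])
          (fun h => absurd (Finset.mem_range.2 (by omega : n < N)) h), hpr, Category.comp_id] at h2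
        rw [h2, ih (by omega) h2, zero_comp]
      · rw [hpr' (by omega : n + 1 ≠ m + 1), comp_zero, comp_zero]
  exact Finset.sum_eq_zero fun n hn => by rw [hg n (Finset.mem_range.1 hn), zero_comp]

omit [HasZeroObject D] [Pretriangulated D] [HasShift D ℤ]
  [∀ n : ℤ, (shiftFunctor D n).Additive] in
lemma exists_transition {K : ℕ → D} (f : ∀ n, K n ⟶ K (n + 1)) {L : D} (i : ∀ n, K n ⟶ L)
    (hi : ∀ n, f n ≫ i (n + 1) = i n) {n N : ℕ} (h : n ≤ N) :
    ∃ T : K n ⟶ K N, T ≫ i N = i n := by
  induction h with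
  | refl => exact ⟨𝟙 _, Category.id_comp _⟩
  | @step m _ ih =>
    obtain ⟨T, hT⟩ := ih
    exact ⟨T ≫ f m, by rw [Category.assoc, hi]; exact hT⟩

/-- A map from a compact object to a homotopy colimit factors through a stage. -/
theorem exists_factor_stage {C : D} (hC : CohDer.IsCompactObject C) (K : ℕ → D)
    (f : ∀ n, K n ⟶ K (n + 1)) {L : D} (i : ∀ n, K n ⟶ L) (hL : DerLim.IsHocolim K f L i)
    (φ : C ⟶ L) : ∃ (N : ℕ) (g : C ⟶ K N), g ≫ i N = φ := by
  obtain ⟨c, hT⟩ := hL
  have hc : φ ≫ c = 0 := Brown.eq_zero_of_comp_shift (Iso.refl _) (φ ≫ c)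
    (𝟙 (∐ K) - DerLim.shiftMap K f)
    (by rw [Category.assoc]; exact (comp_distTriang_mor_zero₃₁ _ hT).symm ▸ comp_zero)
    (fun α hα => eq_zero_of_comp_one_sub_shift (Compact.isCompactObject_shift hC (-1)) K f α hα)
  obtain ⟨h, hh⟩ : ∃ h : C ⟶ ∐ K, φ = h ≫ Sigma.desc i := Triangle.coyoneda_exact₃ _ hT φ hc
  obtain ⟨N, g, rfl⟩ := exists_finite_sum hC K h
  have hi : ∀ n, f n ≫ i (n + 1) = i n := fun n => by
    have : (𝟙 (∐ K) - DerLim.shiftMap K f) ≫ Sigma.desc i = 0 := comp_distTriang_mor_zero₁₂ _ hT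
    have := Sigma.ι K n ≫= this
    simp only [Preadditive.sub_comp, Preadditive.comp_sub, Category.id_comp, DerLim.shiftMap,
      Sigma.ι_desc_assoc, Category.assoc, Sigma.ι_desc, comp_zero, sub_eq_zero] at this
    exact this.symm
  choose T hT' using fun n : Finset.range N =>
    exists_transition f i hi (Finset.mem_range.1 n.2).le
  refine ⟨N, ∑ n : Finset.range N, g n ≫ T n, ?_⟩
  rw [hh, Preadditive.sum_comp, Preadditive.sum_comp,
    ← Finset.sum_coe_sort (Finset.range N)]
  refine Finset.sum_congr rfl fun n _ => ?_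
  rw [Category.assoc, hT', Category.assoc, Sigma.ι_desc]

end Compact

section Homological

variable {A : Type*} [Category A] [Abelian A] [HasColimitsOfShape ℕ A]
  [HasExactColimitsOfShape ℕ A]

omit [HasZeroObject D] [Pretriangulated D] [HasShift D ℤ]
  [∀ n : ℤ, (shiftFunctor D n).Additive] in
/-- An additive functor preserving countable coproducts sends `1 - shift` to a monomorphism with
cokernel the colimit. -/
theorem map_one_sub_shift [HasColimitsOfShape (Discrete ℕ) D] (H : D ⥤ A) [H.Additive]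
    [PreservesColimitsOfShape (Discrete ℕ) H] (K : ℕ → D) (f : ∀ n, K n ⟶ K (n + 1)) :
    ∃ (p : H.obj (∐ K) ⟶ colimit (Functor.ofSequence (fun n => H.map (f n))))
      (w : H.map (𝟙 (∐ K) - DerLim.shiftMap K f) ≫ p = 0),
      (ShortComplex.mk _ _ w).ShortExact ∧ ∀ n, H.map (Sigma.ι K n) ≫ p =
        colimit.ι (Functor.ofSequence (fun n => H.map (f n))) n := by
  let F := Functor.ofSequence (fun n => H.map (f n))
  have hco : HasCoproduct fun n => H.obj (K n) :=
    ⟨⟨⟨_, isColimitCofanMkObjOfIsColimit H _ _ (coproductIsCoproduct K)⟩⟩⟩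
  have : HasCoproduct F.obj := hco
  obtain ⟨w, hw⟩ := SeqColim.shortExact_coproduct_colimit F
  let e : H.obj (∐ K) ≅ ∐ F.obj := PreservesCoproduct.iso H K
  have he : ∀ n, H.map (Sigma.ι K n) ≫ e.hom = Sigma.ι F.obj n := fun n => by
    rw [← Iso.eq_comp_inv]
    exact (ι_comp_sigmaComparison H K n).symm
  have hF : ∀ n, F.map (homOfLE (Nat.le_succ n)) = H.map (f n) := fun n =>
    Functor.ofSequence_map_homOfLE_succ _ _
  have hsh : H.map (𝟙 (∐ K) - DerLim.shiftMap K f) ≫ e.hom =
      e.hom ≫ (𝟙 (∐ F.obj) - SeqColim.sh F) := by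
    rw [← cancel_epi e.inv, Iso.inv_hom_id_assoc]
    refine Sigma.hom_ext _ _ fun n => ?_
    have h1 : Sigma.ι F.obj n ≫ e.inv = H.map (Sigma.ι K n) := ι_comp_sigmaComparison H K n
    rw [reassoc_of% h1]
    erw [← H.map_comp_assoc]
    rw [Preadditive.comp_sub, Category.comp_id,
      Preadditive.comp_sub, Category.comp_id, DerLim.shiftMap, Sigma.ι_desc, Functor.map_sub,
      Functor.map_comp, Preadditive.sub_comp, Category.assoc, he, he]
    refine congrArg (Sigma.ι F.obj n - ·) ?_
    exact ((SeqColim.ι_sh F n).trans (congrArg (· ≫ _) (hF n))).symm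
  refine ⟨e.hom ≫ Sigma.desc (fun n => colimit.ι F n), ?_, ?_, fun n => ?_⟩
  · rw [reassoc_of% hsh, w, comp_zero]
  · refine ShortComplex.shortExact_of_iso (S₁ := ShortComplex.mk _ _ w) (ShortComplex.isoMk e.symm e.symm (Iso.refl _) ?_ ?_) hw
    · dsimp
      rw [Iso.inv_comp_eq, ← Category.assoc, Iso.eq_comp_inv]
      exact hsh
    · dsimp
      simp
      rfl
  · rw [reassoc_of% (he n)]
    exact Sigma.ι_desc _ _

/-- Homological functors preserving countable sums send homotopy colimits to colimits. -/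
theorem exists_iso_colimit [HasColimitsOfShape (Discrete ℕ) D] (H : D ⥤ A) [H.IsHomological]
    [PreservesColimitsOfShape (Discrete ℕ) H] (K : ℕ → D) (f : ∀ n, K n ⟶ K (n + 1)) (L : D)
    (i : ∀ n, K n ⟶ L) (hL : DerLim.IsHocolim K f L i) :
    ∃ e : colimit (Functor.ofSequence (fun n => H.map (f n))) ≅ H.obj L,
      ∀ n : ℕ, colimit.ι (Functor.ofSequence (fun n => H.map (f n))) n ≫ e.hom = H.map (i n) := by
  obtain ⟨c, hT⟩ := hL
  obtain ⟨p, w, hS, hp⟩ := map_one_sub_shift H K f
  obtain ⟨_, w', hS', -⟩ := map_one_sub_shift (shiftFunctor D (1 : ℤ) ⋙ H) K f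
  have w₂ : H.map (𝟙 (∐ K) - DerLim.shiftMap K f) ≫ H.map (Sigma.desc i) = 0 := by
    rw [← H.map_comp]
    exact (congrArg H.map (comp_distTriang_mor_zero₁₂ _ hT)).trans (H.map_zero _ _)
  have hex : (ShortComplex.mk _ _ w₂).Exact := H.map_distinguished_exact _ hT
  have hepi : Epi (H.map (Sigma.desc i)) := by
    have hex₂ := H.map_distinguished_exact _ (rot_of_distTriang _ hT)
    have hex₃ := H.map_distinguished_exact _ (rot_of_distTriang _ (rot_of_distTriang _ hT))
    refine hex₂.epi_f ?_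
    have hm : Mono ((shiftFunctor D (1 : ℤ) ⋙ H).map (𝟙 (∐ K) - DerLim.shiftMap K f)) := hS'.mono_f
    have h0 : H.map c ≫ H.map (-(𝟙 (∐ K) - DerLim.shiftMap K f)⟦(1 : ℤ)⟧') = 0 :=
      (H.map_comp _ _).symm.trans ((congrArg H.map (comp_distTriang_mor_zero₁₂ _
        (rot_of_distTriang _ (rot_of_distTriang _ hT)))).trans (H.map_zero _ _))
    rw [Functor.map_neg, Preadditive.comp_neg, neg_eq_zero] at h0
    exact hm.right_cancellation (H.map c) 0 (h0.trans zero_comp.symm)
  let e := hS.gIsCokernel.coconePointUniqueUpToIso hex.gIsCokernel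
  refine ⟨e, fun n => ?_⟩
  have h : p ≫ e.hom = H.map (Sigma.desc i) :=
    hS.gIsCokernel.comp_coconePointUniqueUpToIso_hom hex.gIsCokernel WalkingParallelPair.one
  refine ((congrArg (· ≫ e.hom) (hp n).symm).trans ((Category.assoc _ _ _).trans ?_))
  refine (congrArg (_ ≫ ·) h).trans ?_
  exact (H.map_comp _ _).symm.trans (congrArg H.map (Sigma.ι_desc _ _))

end Homological

end Groth.Agent.Lib.DerCat.Hocolim
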