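import Mathlib.CategoryTheory.Abelian.Refinements
import Mathlib.Algebra.Homology.Refinements
import Mathlib.Algebra.Homology.HomologySequence
import Mathlib.Algebra.Homology.Embedding.CochainComplex
import Mathlib.Algebra.Homology.CochainComplexOpposite
import Mathlib.CategoryTheory.Abelian.Opposite

/-!
# Resolutions by a class of objects containing enough objects
-/

universe v u

open CategoryTheory CategoryTheory.Limits ZeroObject

namespace Groth.Agent.Lib.DerCat.SubRes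

variable {A : Type u} [Category.{v} A] [Abelian A] (P : A → Prop)
  (hP : ∀ X : A, ∃ (Y : A) (ι : X ⟶ Y), P Y ∧ Mono ι)

/-- The state of the construction in degree `i`. -/
structure State (K : CochainComplex A ℤ) (i : ℤ) where
  T : A
  C : A
  hT : P T
  g : K.X i ⟶ T
  mono_g : Mono g
  q : T ⟶ C
  c : K.opcycles i ⟶ C
  mono_c : Mono c
  hc : K.pOpcycles i ≫ c = g ≫ q

variable {P} {K : CochainComplex A ℤ}

include hP in
/-- One step. -/
lemma exists_step {i j : ℤ} (hij : i + 1 = j) (S : State P K i) :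
    ∃ (S' : State P K j) (d : S.C ⟶ S'.T),
      K.d i j ≫ S'.g = S.g ≫ S.q ≫ d ∧
      (∃ h : (S.q ≫ d) ≫ S'.q = 0, Nonempty (IsColimit (CokernelCofork.ofπ (f := S.q ≫ d) S'.q h))) ∧
      ∀ {U : A} (y : U ⟶ S.C), y ≫ d = 0 →
        ∃ (U' : A) (π : U' ⟶ U) (_ : Epi π) (z : U' ⟶ K.cycles i),
          π ≫ y = z ≫ K.iCycles i ≫ S.g ≫ S.q := by
  have := S.mono_c
  let a := biprod.lift (S.g ≫ S.q) (-K.d i j)
  let M := cokernel a
  let inl : S.C ⟶ M := biprod.inl ≫ cokernel.π a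
  let inr : K.X j ⟶ M := biprod.inr ≫ cokernel.π a
  have hsq : S.g ≫ S.q ≫ inl = K.d i j ≫ inr := by
    have h := cokernel.condition a
    simp only [a, biprod.lift_eq, Preadditive.add_comp, Category.assoc, Preadditive.neg_comp] at h
    rw [← sub_eq_add_neg, sub_eq_zero] at h
    exact h
  have hinr : Mono inr := Preadditive.mono_of_cancel_zero _ fun {U} y hy => by
    obtain ⟨U₁, π₁, _, w, hw⟩ := (ShortComplex.exact_of_g_is_cokernel
      (ShortComplex.mk a (cokernel.π a) (cokernel.condition _))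
      (cokernelIsCokernel a)).exact_up_to_refinements (y ≫ biprod.inr)
      (by simpa [inr] using hy)
    have h1 := congrArg (· ≫ biprod.fst) hw
    have h2 := congrArg (· ≫ biprod.snd) hw
    simp [a] at h1 h2
    have h3 : w ≫ K.pOpcycles i = 0 := by
      rw [← cancel_mono S.c, zero_comp, Category.assoc, S.hc]
      exact h1.symm
    rw [← cancel_epi π₁, comp_zero, h2, ← K.p_fromOpcycles i j, reassoc_of% h3, zero_comp, neg_zero]
  obtain ⟨T, m, hT, _⟩ := hP M
  let d : S.C ⟶ T := inl ≫ m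
  let g : K.X j ⟶ T := inr ≫ m
  have hcomm : K.d i j ≫ g = S.g ≫ S.q ≫ d := by
    simp only [d, g]
    rw [reassoc_of% hsq]
  let q := cokernel.π (S.q ≫ d)
  have hgq : K.d i j ≫ g ≫ q = 0 := by
    rw [reassoc_of% hcomm]
    simpa only [Category.assoc, comp_zero] using S.g ≫= cokernel.condition (S.q ≫ d)
  let c := K.descOpcycles (g ≫ q) i (by simp [← hij]) hgq
  have hc : K.pOpcycles j ≫ c = g ≫ q := K.p_descOpcycles _ _ _ _
  have hmono : Mono c := Preadditive.mono_of_cancel_zero _ fun {U} x hx => by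
    obtain ⟨U₁, π₁, _, y, hy⟩ := surjective_up_to_refinements_of_epi (K.pOpcycles j) x
    have h : (y ≫ g) ≫ q = 0 := by
      rw [Category.assoc, ← hc, ← reassoc_of% hy, hx, comp_zero]
    obtain ⟨U₂, π₂, _, t, ht⟩ := (ShortComplex.exact_of_g_is_cokernel
      (ShortComplex.mk (S.q ≫ d) q (cokernel.condition _))
      (cokernelIsCokernel _)).exact_up_to_refinements (y ≫ g) h
    have h' : ((π₂ ≫ y) ≫ biprod.inr - (t ≫ S.q) ≫ biprod.inl) ≫ cokernel.π a = 0 := by
      rw [← cancel_mono m, zero_comp]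
      simp only [Preadditive.sub_comp, Category.assoc, sub_eq_zero]
      simpa [d, g, inl, inr] using ht
    obtain ⟨U₃, π₃, _, w, hw⟩ := (ShortComplex.exact_of_g_is_cokernel
      (ShortComplex.mk a (cokernel.π a) (cokernel.condition _))
      (cokernelIsCokernel a)).exact_up_to_refinements _ h'
    have h2 := congrArg (· ≫ biprod.snd) hw
    simp [a] at h2
    rw [← cancel_epi (π₃ ≫ π₂ ≫ π₁), comp_zero, Category.assoc, Category.assoc, hy,
      reassoc_of% h2]
    simp
  refine ⟨⟨T, _, hT, g, mono_comp inr m, q, c, hmono, hc⟩, d, hcomm,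
    ⟨cokernel.condition _, ⟨cokernelIsCokernel _⟩⟩, fun {U} y hy => ?_⟩
  obtain ⟨U₁, π₁, _, w, hw⟩ := (ShortComplex.exact_of_g_is_cokernel
    (ShortComplex.mk a (cokernel.π a) (cokernel.condition _))
    (cokernelIsCokernel a)).exact_up_to_refinements (y ≫ biprod.inl)
    (by rw [← cancel_mono m, zero_comp]; simpa [d, inl] using hy)
  have h1 := congrArg (· ≫ biprod.fst) hw
  have h2 := congrArg (· ≫ biprod.snd) hw
  simp [a] at h1 h2
  refine ⟨U₁, π₁, inferInstance, K.liftCycles w j (by simp [hij]) ?_, ?_⟩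
  · exact h2
  · rw [h1, HomologicalComplex.liftCycles_i_assoc]

section Global

variable (hP0 : ∃ Z : A, IsZero Z ∧ P Z) [K.IsStrictlyGE 0]

/-- The state in degree `-1`. -/
noncomputable def zeroState : State P K (-1) where
  T := hP0.choose
  C := 0
  hT := hP0.choose_spec.2
  g := 0
  mono_g := ⟨fun _ _ _ => (K.isZero_of_isStrictlyGE 0 (-1) (by lia)).eq_of_tgt _ _⟩
  q := 0
  c := 0
  mono_c := ⟨fun _ _ _ => (IsZero.of_epi (K.pOpcycles (-1))
    (K.isZero_of_isStrictlyGE 0 (-1) (by lia))).eq_of_tgt _ _⟩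
  hc := by simp

/-- All states. -/
noncomputable def st : ∀ n : ℕ, State P K (n : ℤ)
  | 0 => (exists_step hP (show (-1 : ℤ) + 1 = ((0 : ℕ) : ℤ) by simp) (zeroState hP0)).choose
  | n + 1 => (exists_step hP (show (n : ℤ) + 1 = ((n + 1 : ℕ) : ℤ) by simp) (st n)).choose

/-- The maps between states. -/
noncomputable def dst (n : ℕ) : (st hP hP0 (K := K) n).C ⟶ (st hP hP0 (K := K) (n + 1)).T :=
  (exists_step hP (show (n : ℤ) + 1 = ((n + 1 : ℕ) : ℤ) by simp) (st hP hP0 n)).choose_spec.choose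

lemma dst_spec (n : ℕ) :
    K.d (n : ℤ) ((n + 1 : ℕ) : ℤ) ≫ (st hP hP0 (K := K) (n + 1)).g =
        (st hP hP0 (K := K) n).g ≫ (st hP hP0 (K := K) n).q ≫ dst hP hP0 (K := K) n ∧
      (∃ h : ((st hP hP0 (K := K) n).q ≫ dst hP hP0 (K := K) n) ≫ (st hP hP0 (K := K) (n + 1)).q = 0,
        Nonempty (IsColimit (CokernelCofork.ofπ (f := (st hP hP0 (K := K) n).q ≫ dst hP hP0 (K := K) n)
          (st hP hP0 (K := K) (n + 1)).q h))) ∧
      ∀ {U : A} (y : U ⟶ (st hP hP0 (K := K) n).C), y ≫ dst hP hP0 (K := K) n = 0 →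
        ∃ (U' : A) (π : U' ⟶ U) (_ : Epi π) (z : U' ⟶ K.cycles (n : ℤ)),
          π ≫ y = z ≫ K.iCycles (n : ℤ) ≫ (st hP hP0 (K := K) n).g ≫ (st hP hP0 (K := K) n).q :=
  (exists_step hP (show (n : ℤ) + 1 = ((n + 1 : ℕ) : ℤ) by simp)
    (st hP hP0 n)).choose_spec.choose_spec

lemma mono_q_zero : Mono (st hP hP0 (K := K) 0).q := by
  obtain ⟨d, -, ⟨h, ⟨hc⟩⟩, -⟩ :=
    (exists_step hP (show (-1 : ℤ) + 1 = ((0 : ℕ) : ℤ) by simp)
      (zeroState (K := K) hP0)).choose_spec
  have := CokernelCofork.IsColimit.isIso_π _ hc zero_comp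
  exact inferInstanceAs (Mono (Cofork.π (CokernelCofork.ofπ _ h)))

variable (K) in
/-- The objects. -/
noncomputable def objR : ℤ → A
  | Int.ofNat n => (st hP hP0 (K := K) n).T
  | Int.negSucc _ => hP0.choose

variable (K) in
/-- The differentials. -/
noncomputable def dR : ∀ n : ℤ, objR hP K hP0 n ⟶ objR hP K hP0 (n + 1)
  | Int.ofNat n => (st hP hP0 (K := K) n).q ≫ dst hP hP0 (K := K) n
  | Int.negSucc _ => 0

variable (K) in
/-- The resolution. -/
noncomputable def res : CochainComplex A ℤ :=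
  CochainComplex.of (objR hP K hP0) (dR hP K hP0) fun n => by
    rcases n with n | n
    · obtain ⟨h, -⟩ := (dst_spec hP hP0 (K := K) n).2.1
      change ((st hP hP0 n).q ≫ dst hP hP0 n) ≫
        ((st hP hP0 (n + 1)).q ≫ dst hP hP0 (n + 1)) = 0
      rw [← Category.assoc, h, zero_comp]
    · exact zero_comp

lemma res_d (n : ℕ) : (res hP K hP0).d (n : ℤ) ((n + 1 : ℕ) : ℤ) =
    (st hP hP0 (K := K) n).q ≫ dst hP hP0 (K := K) n :=
  CochainComplex.of_d (objR hP K hP0) (dR hP K hP0) (Int.ofNat n)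

lemma isStrictlyGE_res : (res hP K hP0).IsStrictlyGE 0 := by
  rw [CochainComplex.isStrictlyGE_iff]
  intro i hi
  rcases i with n | n
  · exact absurd hi (Int.not_lt.mpr (Int.natCast_nonneg n))
  · exact hP0.choose_spec.1

lemma mem_res (i : ℤ) : P ((res hP K hP0).X i) := by
  rcases i with n | n
  · exact (st hP hP0 (K := K) n).hT
  · exact hP0.choose_spec.2

variable (K) in
/-- The comparison map. -/
noncomputable def resι : K ⟶ res hP K hP0 where
  f
    | Int.ofNat n => (st hP hP0 (K := K) n).g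
    | Int.negSucc _ => 0
  comm' i j hij := by
    obtain rfl : i + 1 = j := hij
    rcases i with n | n
    · change (st hP hP0 n).g ≫ (res hP K hP0).d (n : ℤ) ((n + 1 : ℕ) : ℤ) =
        K.d (n : ℤ) ((n + 1 : ℕ) : ℤ) ≫ (st hP hP0 (n + 1)).g
      rw [res_d]
      exact (dst_spec hP hP0 n).1.symm
    · exact (K.isZero_of_isStrictlyGE 0 _ (by lia)).eq_of_src _ _

lemma mono_resι (i : ℤ) : Mono ((resι hP K hP0).f i) := by
  rcases i with n | n
  · exact (st hP hP0 (K := K) n).mono_g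
  · exact ⟨fun _ _ _ => (K.isZero_of_isStrictlyGE 0 _ (by lia)).eq_of_tgt _ _⟩

lemma d_comp_q (n : ℕ) (i : ℤ) (hi : i + 1 = (n : ℤ)) :
    (res hP K hP0).d i (n : ℤ) ≫ (st hP hP0 (K := K) n).q = 0 := by
  cases n with
  | zero =>
    have := isStrictlyGE_res (K := K) hP hP0
    exact ((res hP K hP0).isZero_of_isStrictlyGE 0 i (by lia)).eq_of_src _ _
  | succ m =>
    obtain rfl : i = (m : ℤ) := by lia
    obtain ⟨h, -⟩ := (dst_spec hP hP0 (K := K) m).2.1
    rw [res_d]
    exact h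

lemma exists_of_comp_q (n : ℕ) {U : A} (u : U ⟶ (st hP hP0 (K := K) n).T)
    (hu : u ≫ (st hP hP0 (K := K) n).q = 0) :
    ∃ (U' : A) (π : U' ⟶ U) (_ : Epi π) (v : U' ⟶ (res hP K hP0).X ((n : ℤ) - 1)),
      π ≫ u = v ≫ (res hP K hP0).d ((n : ℤ) - 1) (n : ℤ) := by
  cases n with
  | zero =>
    have := mono_q_zero (K := K) hP hP0
    exact ⟨U, 𝟙 _, inferInstance, 0, by rw [zero_of_comp_mono _ hu, comp_zero, zero_comp]; rfl⟩
  | succ m =>
    obtain ⟨h, ⟨hc⟩⟩ := (dst_spec hP hP0 (K := K) m).2.1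
    obtain ⟨U', π, hπ, v, hv⟩ :=
      (ShortComplex.exact_of_g_is_cokernel
        (ShortComplex.mk _ _ h) hc).exact_up_to_refinements u hu
    obtain ⟨i, hi, he⟩ : ∃ i : ℤ, i = (m : ℤ) ∧ ((m + 1 : ℕ) : ℤ) - 1 = i := ⟨_, rfl, by lia⟩
    subst hi
    rw [he]
    exact ⟨U', π, hπ, v, hv.trans (congrArg (v ≫ ·) (res_d hP hP0 m).symm)⟩

theorem quasiIso_resι : QuasiIso (resι hP K hP0) := ⟨fun i => by
  have := isStrictlyGE_res (K := K) hP hP0
  rcases i with n | n
  swap
  · rw [quasiIsoAt_iff_exactAt]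
    · exact ShortComplex.exact_of_isZero_X₂ _
        ((res hP K hP0).isZero_of_isStrictlyGE 0 (Int.negSucc n) (by lia))
    · exact ShortComplex.exact_of_isZero_X₂ _ (K.isZero_of_isStrictlyGE 0 (Int.negSucc n) (by lia))
  let L := res hP K hP0
  let f := resι hP K hP0
  let i : ℤ := n
  change QuasiIsoAt f i
  let c' : L.opcycles i ⟶ (st hP hP0 (K := K) n).C :=
    L.descOpcycles (st hP hP0 (K := K) n).q (i - 1) (by simp)
      (d_comp_q hP hP0 n (i - 1) (by simp [i]))
  have hc' : HomologicalComplex.opcyclesMap f i ≫ c' = (st hP hP0 (K := K) n).c := by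
    rw [← cancel_epi (K.pOpcycles i), HomologicalComplex.p_opcyclesMap_assoc,
      HomologicalComplex.p_descOpcycles, (st hP hP0 (K := K) n).hc]
    rfl
  rw [quasiIsoAt_iff_isIso_homologyMap]
  have := (st hP hP0 (K := K) n).mono_c
  have hfac : HomologicalComplex.homologyMap f i ≫ L.homologyι i ≫ c' =
      K.homologyι i ≫ (st hP hP0 (K := K) n).c := by
    rw [HomologicalComplex.homologyι_naturality_assoc, hc']
  have : Mono (HomologicalComplex.homologyMap f i ≫ L.homologyι i ≫ c') := by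
    rw [hfac]; exact mono_comp' inferInstance (st hP hP0 (K := K) n).mono_c
  have : Mono (HomologicalComplex.homologyMap f i) :=
    mono_of_mono _ (L.homologyι i ≫ c')
  have : Epi (HomologicalComplex.homologyMap f i) := by
    rw [epi_iff_surjective_up_to_refinements]
    intro U γ
    obtain ⟨U₁, π₁, _, z, hz⟩ := surjective_up_to_refinements_of_epi (L.homologyπ i) γ
    have hy : (z ≫ L.iCycles i ≫ (st hP hP0 (K := K) n).q) ≫ dst hP hP0 (K := K) n = 0 := by
      have h : L.iCycles i ≫ L.d (n : ℤ) ((n + 1 : ℕ) : ℤ) = 0 := L.iCycles_d i _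
      rw [res_d] at h
      exact (Category.assoc _ _ _).trans ((congrArg (z ≫ ·) ((Category.assoc _ _ _).trans h)).trans
        comp_zero)
    obtain ⟨U₂, π₂, _, w, hw⟩ := (dst_spec hP hP0 (K := K) n).2.2 _ hy
    let u := π₂ ≫ z - w ≫ HomologicalComplex.cyclesMap f i
    have hu : (u ≫ L.iCycles i) ≫ (st hP hP0 (K := K) n).q = 0 := by
      simp only [u, Preadditive.sub_comp, Category.assoc, HomologicalComplex.cyclesMap_i_assoc]
      rw [hw, sub_eq_zero]
      erw [HomologicalComplex.cyclesMap_i_assoc]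
      rfl
    obtain ⟨U₄, π₄, _, v, hv⟩ := exists_of_comp_q hP hP0 n _ hu
    have hu' : (π₄ ≫ u) ≫ L.homologyπ i = 0 :=
      (L.comp_homologyπ_eq_zero_iff_up_to_refinements (i - 1) i (by simp) _).2
        ⟨U₄, 𝟙 _, inferInstance, v, by
          rw [Category.id_comp, ← cancel_mono (L.iCycles i)]
          refine (Category.assoc _ _ _).trans (hv.trans ?_)
          exact ((Category.assoc _ _ _).trans (congrArg (v ≫ ·) (L.toCycles_i _ _))).symm⟩
    refine ⟨U₄, π₄ ≫ π₂ ≫ π₁, inferInstance, π₄ ≫ w ≫ K.homologyπ i, ?_⟩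
    simp only [Category.assoc, HomologicalComplex.homologyπ_naturality]
    rw [hz]
    simpa [u, sub_eq_zero] using hu'
  exact isIso_of_mono_of_epi _⟩

end Global

include hP in
/-- Resolutions of complexes bounded below in degree `0`. -/
theorem exists_res₀ (hP0 : ∃ Z : A, IsZero Z ∧ P Z) (K : CochainComplex A ℤ) [K.IsStrictlyGE 0] :
    ∃ (L : CochainComplex A ℤ) (α : K ⟶ L), L.IsStrictlyGE 0 ∧ (∀ n, P (L.X n)) ∧
      (∀ n, Mono (α.f n)) ∧ QuasiIso α :=
  ⟨res hP K hP0, resι hP K hP0, isStrictlyGE_res hP hP0, mem_res hP hP0, mono_resι hP hP0,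
    quasiIso_resι hP hP0⟩

include hP in
/-- Resolutions of bounded below complexes. -/
theorem exists_res (hP0 : ∃ Z : A, IsZero Z ∧ P Z) (K : CochainComplex A ℤ) (a : ℤ)
    [K.IsStrictlyGE a] :
    ∃ (L : CochainComplex A ℤ) (α : K ⟶ L), L.IsStrictlyGE a ∧ (∀ n, P (L.X n)) ∧
      (∀ n, Mono (α.f n)) ∧ QuasiIso α := by
  let K₀ : CochainComplex A ℤ := K⟦a⟧
  have : K₀.IsStrictlyGE 0 := K.isStrictlyGE_shift a a 0 (by lia)
  obtain ⟨L, α, hL, hPL, hm, hq⟩ := exists_res₀ hP hP0 K₀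
  let e := (shiftFunctorCompIsoId (CochainComplex A ℤ) a (-a) (by lia)).app K
  refine ⟨L⟦-a⟧, e.inv ≫ α⟦-a⟧', L.isStrictlyGE_shift 0 (-a) a (by lia), fun n => hPL _,
    fun n => ?_, ?_⟩
  · rw [HomologicalComplex.comp_f]
    have : Mono ((α⟦-a⟧').f n) := hm (n + -a)
    exact mono_comp' inferInstance this
  · have : QuasiIso (α⟦-a⟧') := inferInstance
    infer_instance

include hP in
/-- Resolutions of cohomologically bounded below complexes. -/
theorem exists_res' (hP0 : ∃ Z : A, IsZero Z ∧ P Z) (K : CochainComplex A ℤ) (a : ℤ)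
    (hK : ∀ n : ℤ, n < a → IsZero (K.homology n)) :
    ∃ (L : CochainComplex A ℤ) (α : K ⟶ L), L.IsStrictlyGE a ∧ (∀ n, P (L.X n)) ∧ QuasiIso α := by
  have : K.IsGE a := (CochainComplex.isGE_iff _ _).2 fun i hi =>
    (HomologicalComplex.exactAt_iff_isZero_homology _ _).2 (hK i hi)
  obtain ⟨L, α, hL, hPL, -, hq⟩ := exists_res hP hP0 (K.truncGE a) a
  exact ⟨L, K.πTruncGE a ≫ α, hL, hPL, inferInstance⟩

section Dual

variable {Q : A → Prop} (hQ : ∀ X : A, ∃ (Y : A) (π : Y ⟶ X), Q Y ∧ Epi π)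

/-- The equivalence with complexes in the opposite category. -/
noncomputable abbrev Φ : (CochainComplex A ℤ)ᵒᵖ ⥤ CochainComplex Aᵒᵖ ℤ :=
  (CochainComplex.opEquivalence A).functor

lemma quasiIso_Φ_iff {K L : CochainComplex A ℤ} (f : K ⟶ L) :
    QuasiIso (Φ.map f.op) ↔ QuasiIso f := by
  have key : ∀ m : ℤ, QuasiIsoAt (Φ.map f.op) m ↔ QuasiIsoAt f (-m) := fun m => by
    rw [quasiIsoAt_iff' _ (m - 1) m (m + 1) (by simp) (by simp),
      quasiIsoAt_iff' f (-(m + 1)) (-m) (-(m - 1)) (by simp; lia) (by simp; lia)]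
    exact ShortComplex.quasiIso_opMap_iff
      ((HomologicalComplex.shortComplexFunctor' A (.up ℤ) (-(m + 1)) (-m) (-(m - 1))).map f)
  rw [quasiIso_iff, quasiIso_iff]
  exact ⟨fun h i => by simpa using (key (-i)).1 (h (-i)), fun h m => (key m).2 (h _)⟩

include hQ in
/-- Left resolutions of bounded above complexes. -/
theorem exists_coverRes (hQ0 : ∃ Z : A, IsZero Z ∧ Q Z) (K : CochainComplex A ℤ) (a : ℤ)
    [K.IsStrictlyLE a] :
    ∃ (L : CochainComplex A ℤ) (α : L ⟶ K), L.IsStrictlyLE a ∧ (∀ n, Q (L.X n)) ∧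
      (∀ n, Epi (α.f n)) ∧ QuasiIso α := by
  let E := CochainComplex.opEquivalence A
  let K' := E.functor.obj (Opposite.op K)
  have : K'.IsStrictlyGE (-a) := (CochainComplex.isStrictlyGE_iff _ _).2 fun i hi =>
    (K.isZero_of_isStrictlyLE a (-i) (by lia)).op
  obtain ⟨L', β, hL, hPL, hm, hq⟩ := exists_res (P := fun X : Aᵒᵖ => Q X.unop)
    (fun X => by
      obtain ⟨Y, π, hY, hπ⟩ := hQ X.unop
      exact ⟨Opposite.op Y, π.op, hY, inferInstance⟩)
    (by obtain ⟨Z, hZ, hZ'⟩ := hQ0; exact ⟨Opposite.op Z, hZ.op, hZ'⟩) K' (-a)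
  let L := (E.inverse.obj L').unop
  let α : L ⟶ K := (E.unitIso.hom.app (Opposite.op K) ≫ E.inverse.map β).unop
  refine ⟨L, α, (CochainComplex.isStrictlyLE_iff _ _).2 fun i hi => ?_, fun n => hPL (-n),
    fun n => ?_, ?_⟩
  · exact (CochainComplex.isZero_of_isStrictlyGE L' (-a) (-i) (by lia)).unop
  · have : Mono (β.f (-n)) := hm (-n)
    change Epi (((E.inverse.map β).unop).f n ≫ ((E.unitIso.hom.app (Opposite.op K)).unop).f n)
    have : IsIso ((E.unitIso.hom.app (Opposite.op K)).unop) := inferInstance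
    have : IsIso (((E.unitIso.hom.app (Opposite.op K)).unop).f n) :=
      inferInstanceAs (IsIso ((HomologicalComplex.eval A _ n).map
        ((E.unitIso.hom.app (Opposite.op K)).unop)))
    have h : Epi (((E.inverse.map β).unop).f n) := inferInstanceAs (Epi (β.f (-n)).unop)
    exact epi_comp' h inferInstance
  · rw [← quasiIso_Φ_iff]
    change QuasiIso (E.functor.map (E.unitIso.hom.app (Opposite.op K) ≫ E.inverse.map β))
    rw [Functor.map_comp, E.fun_inv_map]
    infer_instance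

include hQ in
/-- Left resolutions of cohomologically bounded above complexes. -/
theorem exists_coverRes' (hQ0 : ∃ Z : A, IsZero Z ∧ Q Z) (K : CochainComplex A ℤ) (a : ℤ)
    (hK : ∀ n : ℤ, a < n → IsZero (K.homology n)) :
    ∃ (L : CochainComplex A ℤ) (α : L ⟶ K), L.IsStrictlyLE a ∧ (∀ n, Q (L.X n)) ∧ QuasiIso α := by
  have : K.IsLE a := (CochainComplex.isLE_iff _ _).2 fun i hi =>
    (HomologicalComplex.exactAt_iff_isZero_homology _ _).2 (hK i hi)
  obtain ⟨L, α, hL, hQL, -, hq⟩ := exists_coverRes hQ hQ0 (K.truncLE a) a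
  exact ⟨L, α ≫ K.ιTruncLE a, hL, hQL, inferInstance⟩

end Dual

end Groth.Agent.Lib.DerCat.SubRes
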