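import Groth.Agent.Lib.DerCat.HocolimQ
import Groth.Agent.Lib.DerCat.Hocolim
import Groth.Agent.Lib.DerCat.SubRes
import Groth.Agent.Lib.DerCat.KInjExists
import Groth.Agent.Lib.DerCat.KInjSmall
import Groth.Agent.Lib.SiteKFlat.Trunc
import Mathlib.CategoryTheory.Retract
import Mathlib.Algebra.Category.Grp.Colimits

/-!
# Compact objects of derived categories are retracts of bounded complexes of generators
-/

universe v u

open CategoryTheory CategoryTheory.Limits CategoryTheory.Pretriangulated Opposite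

namespace Groth.Agent.Lib.DerCat.CompactRetract

variable {A : Type u} [Category.{v} A] [Abelian A] [HasCoproducts.{v} A]

section Sums

variable {ι : Type v} (E : ι → A)

/-- The projection away from a finite set of summands. -/
noncomputable def away (T : Finset ι) : (∐ E) ⟶ ∐ fun i : {i // i ∉ T} => E i.1 :=
  open Classical in
  Sigma.desc fun i => if h : i ∈ T then 0 else Sigma.ι (fun i : {i // i ∉ T} => E i.1) ⟨i, h⟩

@[reassoc]
lemma ι_away_of_mem {T : Finset ι} {i : ι} (h : i ∈ T) : Sigma.ι E i ≫ away E T = 0 := by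
  simp [away, h]

@[reassoc]
lemma ι_away_of_not_mem {T : Finset ι} {i : ι} (h : i ∉ T) :
    Sigma.ι E i ≫ away E T = Sigma.ι (fun i : {i // i ∉ T} => E i.1) ⟨i, h⟩ := by
  simp [away, h]

lemma exists_away_comp {T T' : Finset ι} (h : T ⊆ T') :
    ∃ g, away E T ≫ g = away E T' := by
  refine ⟨Sigma.desc fun i => Sigma.ι E i.1 ≫ away E T', Sigma.hom_ext _ _ fun i => ?_⟩
  by_cases hi : i ∈ T
  · rw [ι_away_of_mem_assoc E hi, zero_comp, ι_away_of_mem E (h hi)]
  · rw [ι_away_of_not_mem_assoc E hi, Sigma.ι_desc]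

lemma comp_away_eq_zero {W : A} (x : W ⟶ ∐ E) {T T' : Finset ι} (h : T ⊆ T')
    (hx : x ≫ away E T = 0) : x ≫ away E T' = 0 := by
  obtain ⟨g, hg⟩ := exists_away_comp E h
  rw [← hg, reassoc_of% hx, zero_comp]

/-- The splitting along a finite set of summands. -/
noncomputable def awaySplitting (T : Finset ι) :
    (ShortComplex.mk (Sigma.desc fun i : {i // i ∈ T} => Sigma.ι E i.1) (away E T)
      (Sigma.hom_ext _ _ fun i => by simp [ι_away_of_mem E i.2])).Splitting :=
  open Classical in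
  { r := Sigma.desc fun i => if h : i ∈ T then Sigma.ι (fun i : {i // i ∈ T} => E i.1) ⟨i, h⟩ else 0
    s := Sigma.desc fun i => Sigma.ι E i.1
    f_r := Sigma.hom_ext _ _ fun i => by simp
    s_g := Sigma.hom_ext _ _ fun i => by simp [ι_away_of_not_mem E i.2]
    id := Sigma.hom_ext _ _ fun i => by
      by_cases h : i ∈ T
      · simp [ι_away_of_mem_assoc E h, h, Preadditive.comp_add]
      · simp [ι_away_of_not_mem_assoc E h, h, Preadditive.comp_add] }

/-- The maps from a small object into a sum land in finitely many summands. -/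
lemma exists_finset_comp_away (G : A)
    (hG : PreservesColimitsOfShape (Discrete ι) (preadditiveCoyoneda.obj (op G))) (x : G ⟶ ∐ E) :
    ∃ T : Finset ι, x ≫ away E T = 0 := by
  classical
  let P : AddSubgroup (G ⟶ ∐ E) :=
    { carrier := { x | ∃ T : Finset ι, x ≫ away E T = 0 }
      zero_mem' := ⟨∅, zero_comp⟩
      add_mem' := by
        rintro a b ⟨T, hT⟩ ⟨T', hT'⟩
        exact ⟨T ∪ T', by rw [Preadditive.add_comp, comp_away_eq_zero E a Finset.subset_union_left hT,
          comp_away_eq_zero E b Finset.subset_union_right hT', add_zero]⟩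
      neg_mem' := by
        rintro a ⟨T, hT⟩
        exact ⟨T, by rw [Preadditive.neg_comp, hT, neg_zero]⟩ }
  have hc := isColimitCofanMkObjOfIsColimit (preadditiveCoyoneda.obj (op G)) _ _
    (coproductIsCoproduct E)
  let q : AddCommGrpCat.of (G ⟶ ∐ E) ⟶ AddCommGrpCat.of ((G ⟶ ∐ E) ⧸ P) :=
    AddCommGrpCat.ofHom (QuotientAddGroup.mk' P)
  have hq : q = 0 := Cofan.IsColimit.hom_ext hc _ _ fun i => by
    refine AddCommGrpCat.ext fun (g : G ⟶ E i) => ?_
    change QuotientAddGroup.mk' P (g ≫ Sigma.ι E i) = 0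
    exact (QuotientAddGroup.eq_zero_iff _).2
      ⟨{i}, by rw [Category.assoc, ι_away_of_mem E (Finset.mem_singleton_self i), comp_zero]⟩
  exact (QuotientAddGroup.eq_zero_iff x).1 (ConcreteCategory.congr_hom hq x)

end Sums

variable (S : Set A)

/-- Direct sums of members of `S`. -/
def IsSum (X : A) : Prop :=
  ∃ (ι : Type v) (E : ι → A), (∀ i, E i ∈ S) ∧ Nonempty (X ≅ ∐ E)

/-- Finite direct sums of members of `S`. -/
def IsFinSum (X : A) : Prop :=
  ∃ (ι : Type v) (_ : Finite ι) (E : ι → A), (∀ i, E i ∈ S) ∧ Nonempty (X ≅ ∐ E)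

lemma IsFinSum.isSum {X : A} (h : IsFinSum S X) : IsSum S X := by
  obtain ⟨ι, -, E, hE, e⟩ := h
  exact ⟨ι, E, hE, e⟩

lemma IsSum.of_iso {X Y : A} (e : X ≅ Y) (h : IsSum S X) : IsSum S Y := by
  obtain ⟨ι, E, hE, ⟨e'⟩⟩ := h
  exact ⟨ι, E, hE, ⟨e.symm ≪≫ e'⟩⟩

lemma IsFinSum.of_iso {X Y : A} (e : X ≅ Y) (h : IsFinSum S X) : IsFinSum S Y := by
  obtain ⟨ι, hι, E, hE, ⟨e'⟩⟩ := h
  exact ⟨ι, hι, E, hE, ⟨e.symm ≪≫ e'⟩⟩

lemma isZero_sigma_of_isEmpty {ι : Type v} [IsEmpty ι] (E : ι → A) : IsZero (∐ E) := by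
  rw [IsZero.iff_id_eq_zero]
  exact Sigma.hom_ext _ _ fun i => isEmptyElim i

lemma isFinSum_of_isZero {X : A} (h : IsZero X) : IsFinSum S X :=
  ⟨PEmpty, inferInstance, fun i => i.elim, fun i => i.elim,
    ⟨h.iso (isZero_sigma_of_isEmpty _)⟩⟩

lemma exists_fin {X : A} [HasFiniteBiproducts A] (h : IsFinSum S X) :
    ∃ (n : ℕ) (E : Fin n → A), (∀ j, E j ∈ S) ∧ Nonempty (X ≅ ⨁ E) := by
  obtain ⟨ι, hι, E, hE, ⟨e⟩⟩ := h
  obtain ⟨n, ⟨φ⟩⟩ := Finite.exists_equiv_fin ι
  refine ⟨n, fun j => E (φ.symm j), fun j => hE _, ⟨e ≪≫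
    (Sigma.whiskerEquiv φ fun i => eqToIso (by simp)) ≪≫ (biproduct.isoCoproduct _).symm⟩⟩

variable [HasDerivedCategory.{v} A] [HasCoproducts.{v} (DerivedCategory A)]
  [(DerivedCategory.Qh (C := A)).IsLeftAdjoint]

omit [HasCoproducts.{v} A] in
lemma preservesColimitsOfShape_single (J : Type v) [HasCoproducts.{v} A] (a : ℤ) :
    PreservesColimitsOfShape (Discrete J)
      (HomologicalComplex.single A (ComplexShape.up ℤ) a ⋙ DerivedCategory.Q) := by
  have := HocolimQ.preservesColimitsOfShape_Q (A := A) J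
  infer_instance

/-- A map from a compact object into a sum placed in one degree uses finitely many summands. -/
lemma exists_finset_single {K : DerivedCategory A} (hK : CohDer.IsCompactObject K) {ι : Type v}
    (E : ι → A) (a : ℤ)
    (f : K ⟶ DerivedCategory.Q.obj ((HomologicalComplex.single A (ComplexShape.up ℤ) a).obj (∐ E))) :
    ∃ T : Finset ι, f ≫ DerivedCategory.Q.map
      ((HomologicalComplex.single A (ComplexShape.up ℤ) a).map (away E T)) = 0 := by
  classical
  let G := HomologicalComplex.single A (ComplexShape.up ℤ) a ⋙ DerivedCategory.Q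
  have := preservesColimitsOfShape_single (A := A) ι a
  let e : ∐ (fun i => G.obj (E i)) ≅ G.obj (∐ E) := (PreservesCoproduct.iso G E).symm
  have he : ∀ i, Sigma.ι (fun i => G.obj (E i)) i ≫ e.hom = G.map (Sigma.ι E i) := fun i => by
    simp [e, PreservesCoproduct.inv_hom]
  obtain ⟨z, hz⟩ := (hK ι fun i => G.obj (E i)).2 (f ≫ e.inv)
  refine ⟨DFinsupp.support z, ?_⟩
  have hf : f = CohDer.homSumToHomCoprod K _ z ≫ e.hom :=
    ((congrArg (· ≫ e.hom) hz).trans ((Category.assoc _ _ _).trans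
      ((congrArg (f ≫ ·) e.inv_hom_id).trans (Category.comp_id _)))).symm
  rw [hf, ← DirectSum.sum_support_of z, map_sum, Preadditive.sum_comp, Preadditive.sum_comp,
    DirectSum.sum_support_of z]
  refine Finset.sum_eq_zero fun i hi => ?_
  rw [Compact.homSum_of, Category.assoc, Category.assoc, ← Category.assoc (Sigma.ι _ i), he]
  change z i ≫ G.map (Sigma.ι E i) ≫ G.map (away E _) = 0
  rw [← G.map_comp, ι_away_of_mem E hi]
  have : G.map (0 : E i ⟶ ∐ fun j : {j // j ∉ DFinsupp.support z} => E j.1) = 0 := by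
    change DerivedCategory.Q.map ((HomologicalComplex.single A (ComplexShape.up ℤ) a).map 0) = 0
    rw [Functor.map_zero]
    exact DerivedCategory.Q.map_zero _ _
  rw [this, comp_zero]

variable (h2 : ∀ E ∈ S, ∀ ι : Type v, PreservesColimitsOfShape (Discrete ι) (preadditiveCoyoneda.obj (op E)))

include h2 in
omit [HasDerivedCategory A] [HasCoproducts.{v} (DerivedCategory A)]
  [(DerivedCategory.Qh (C := A)).IsLeftAdjoint] in
lemma exists_finset_of_isFinSum {W : A} (hW : IsFinSum S W) {ι : Type v} (E : ι → A)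
    (x : W ⟶ ∐ E) : ∃ T : Finset ι, x ≫ away E T = 0 := by
  classical
  obtain ⟨κ, hκ, G, hG, ⟨e⟩⟩ := hW
  have := Fintype.ofFinite κ
  choose T hT using fun k => exists_finset_comp_away E (G k) (h2 _ (hG k) ι)
    (Sigma.ι G k ≫ e.inv ≫ x)
  refine ⟨Finset.univ.biUnion T, ?_⟩
  rw [← cancel_epi e.inv, comp_zero]
  refine Sigma.hom_ext _ _ fun k => ?_
  rw [comp_zero]
  have := comp_away_eq_zero E _ (Finset.subset_biUnion_of_mem T (Finset.mem_univ k)) (hT k)
  simpa using this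

include h2 in
/-- Shrink the term in degree `c`. -/
theorem exists_step {K : DerivedCategory A} (hK : CohDer.IsCompactObject K)
    (L : CochainComplex A ℤ) (hL : ∀ i, IsSum S (L.X i)) (a b c : ℤ) [L.IsStrictlyGE a]
    [L.IsStrictlyLE b] (hlow : ∀ i, i < c → IsFinSum S (L.X i))
    (f : K ⟶ DerivedCategory.Q.obj L) :
    ∃ (L' : CochainComplex A ℤ) (ι' : L' ⟶ L) (f' : K ⟶ DerivedCategory.Q.obj L'),
      f' ≫ DerivedCategory.Q.map ι' = f ∧ L'.IsStrictlyGE a ∧ L'.IsStrictlyLE b ∧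
      (∀ i, IsSum S (L'.X i)) ∧ ∀ i, i ≤ c → IsFinSum S (L'.X i) := by
  classical
  obtain ⟨ι, E, hE, ⟨ψ⟩⟩ := hL c
  obtain ⟨T₀, hT₀⟩ := exists_finset_of_isFinSum S h2 (hlow (c - 1) (by omega)) E
    (L.d (c - 1) c ≫ ψ.hom)
  let q : ∀ T : Finset ι, T₀ ⊆ T → (L ⟶ (HomologicalComplex.single A (ComplexShape.up ℤ) c).obj
      (∐ fun i : {i // i ∉ T} => E i.1)) := fun T hT =>
    HomologicalComplex.mkHomToSingle (ψ.hom ≫ away E T) fun i (hi : i + 1 = c) => by
      obtain rfl : i = c - 1 := by omega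
      exact (Category.assoc _ _ _).symm.trans (comp_away_eq_zero E _ hT hT₀)
  obtain ⟨T₁, hT₁⟩ := exists_finset_single hK (fun i : {i // i ∉ T₀} => E i.1) c
    (f ≫ DerivedCategory.Q.map (q T₀ (Finset.Subset.refl _)))
  let T := T₀ ∪ T₁.image Subtype.val
  let π := q T Finset.subset_union_left
  let g : (∐ fun i : {i // i ∉ T₀} => E i.1) ⟶ ∐ fun i : {i // i ∉ T} => E i.1 :=
    Sigma.desc fun i => Sigma.ι E i.1 ≫ away E T
  have hg : away E T₀ ≫ g = away E T := Sigma.hom_ext _ _ fun i => by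
    by_cases hi : i ∈ T₀
    · rw [ι_away_of_mem_assoc E hi, zero_comp,
        ι_away_of_mem E (Finset.subset_union_left hi : i ∈ T)]
    · rw [ι_away_of_not_mem_assoc E hi, Sigma.ι_desc]
  have hg' : ∃ g', away (fun i : {i // i ∉ T₀} => E i.1) T₁ ≫ g' = g := by
    refine ⟨Sigma.desc fun i => Sigma.ι E i.1.1 ≫ away E T, Sigma.hom_ext _ _ fun i => ?_⟩
    by_cases hi : i ∈ T₁
    · rw [ι_away_of_mem_assoc _ hi, zero_comp, Sigma.ι_desc,
        ι_away_of_mem E (Finset.mem_union_right _ (Finset.mem_image_of_mem _ hi) : i.1 ∈ T)]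
    · rw [ι_away_of_not_mem_assoc _ hi, Sigma.ι_desc, Sigma.ι_desc]
  obtain ⟨g', hg'⟩ := hg'
  have hπq : π = q T₀ (Finset.Subset.refl _) ≫
      (HomologicalComplex.single A (ComplexShape.up ℤ) c).map g := by
    apply HomologicalComplex.to_single_hom_ext
    simp [π, q, ← hg, HomologicalComplex.single_map_f_self]
  have hfπ : f ≫ DerivedCategory.Q.map π = 0 := by
    rw [hπq, DerivedCategory.Q.map_comp, ← hg', Functor.map_comp, DerivedCategory.Q.map_comp,
      ← Category.assoc, ← Category.assoc, hT₁, zero_comp]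
  have hp : ∀ i, Epi (π.f i) := fun i => by
    by_cases hi : i = c
    · subst hi
      have := (awaySplitting E T).epi_g
      have : Epi (ψ.hom ≫ away E T ≫
          (HomologicalComplex.singleObjXSelf (ComplexShape.up ℤ) i
            (∐ fun j : {j // j ∉ T} => E j.1)).inv) := inferInstance
      simpa [π, q] using this
    · exact ⟨fun _ _ _ => (HomologicalComplex.isZero_single_obj_X _ _ _ _ hi).eq_of_src _ _⟩
  have : Epi π := HomologicalComplex.epi_of_epi_f π hp
  let S' := ShortComplex.mk (kernel.ι π) π (kernel.condition π)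
  have hS' : S'.ShortExact := ShortComplex.ShortExact.mk'
    (ShortComplex.exact_of_f_is_kernel _ (kernelIsKernel π)) inferInstance inferInstance
  have hS'' := fun i => hS'.map_of_exact (HomologicalComplex.eval A (ComplexShape.up ℤ) i)
  obtain ⟨f', hf'⟩ := Triangle.coyoneda_exact₂ _ (DerivedCategory.triangleOfSES_distinguished hS') f hfπ
  have hiso : ∀ i, i ≠ c → Nonempty ((kernel π).X i ≅ L.X i) := fun i hi =>
    have : IsIso ((kernel.ι π).f i) := ((hS'' i).isIso_f_iff).2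
      (HomologicalComplex.isZero_single_obj_X (ComplexShape.up ℤ) c _ i hi)
    ⟨asIso ((kernel.ι π).f i)⟩
  have hc : IsFinSum S ((kernel π).X c) := by
    refine ⟨{i // i ∈ T}, inferInstance, fun i => E i.1, fun i => hE _, ⟨?_⟩⟩
    refine PreservesKernel.iso (HomologicalComplex.eval A (ComplexShape.up ℤ) c) π ≪≫
      kernelIsoOfEq (show π.f c = ψ.hom ≫ away E T ≫
        (HomologicalComplex.singleObjXSelf (ComplexShape.up ℤ) c
          (∐ fun i : {i // i ∉ T} => E i.1)).inv by simp [π, q]) ≪≫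
      kernelIsIsoComp _ _ ≪≫ kernelCompMono _ _ ≪≫ ?_
    exact (kernelIsKernel _).conePointUniqueUpToIso (awaySplitting E T).shortExact.fIsKernel
  refine ⟨kernel π, kernel.ι π, f', hf'.symm, ?_, ?_, fun i => ?_, fun i hi => ?_⟩
  · rw [CochainComplex.isStrictlyGE_iff]
    intro i hi
    exact IsZero.of_mono ((kernel.ι π).f i) (L.isZero_of_isStrictlyGE a i hi)
  · rw [CochainComplex.isStrictlyLE_iff]
    intro i hi
    exact IsZero.of_mono ((kernel.ι π).f i) (L.isZero_of_isStrictlyLE b i hi)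
  · by_cases hi : i = c
    · subst hi; exact hc.isSum
    · exact (hL i).of_iso S (hiso i hi).some.symm
  · by_cases hi' : i = c
    · subst hi'; exact hc
    · exact (hlow i (by omega)).of_iso S (hiso i hi').some.symm

include h2 in
/-- A map from a compact object to a bounded complex of sums factors through finite sums. -/
theorem exists_factor {K : DerivedCategory A} (hK : CohDer.IsCompactObject K) (a b : ℤ) :
    ∀ (m : ℕ) (L : CochainComplex A ℤ), (∀ i, IsSum S (L.X i)) → L.IsStrictlyGE a →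
      L.IsStrictlyLE b → ∀ f : K ⟶ DerivedCategory.Q.obj L,
      ∃ (L' : CochainComplex A ℤ) (ι' : L' ⟶ L) (f' : K ⟶ DerivedCategory.Q.obj L'),
        f' ≫ DerivedCategory.Q.map ι' = f ∧ L'.IsStrictlyGE a ∧ L'.IsStrictlyLE b ∧
        (∀ i, IsSum S (L'.X i)) ∧ ∀ i, i < a + m → IsFinSum S (L'.X i) := by
  intro m
  induction m with
  | zero =>
    intro L hL ha hb f
    refine ⟨L, 𝟙 L, f, by simp, ha, hb, hL, fun i hi => isFinSum_of_isZero S ?_⟩
    exact L.isZero_of_isStrictlyGE a i (by simpa using hi)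
  | succ m ih =>
    intro L hL ha hb f
    obtain ⟨L₁, ι₁, f₁, hf₁, ha₁, hb₁, hL₁, hfin⟩ := ih L hL ha hb f
    obtain ⟨L₂, ι₂, f₂, hf₂, ha₂, hb₂, hL₂, hfin₂⟩ :=
      exists_step S h2 hK L₁ hL₁ a b (a + m) hfin f₁
    exact ⟨L₂, ι₂ ≫ ι₁, f₂, by rw [Functor.map_comp, reassoc_of% hf₂, hf₁], ha₂, hb₂, hL₂,
      fun i hi => hfin₂ i (by push_cast at hi; omega)⟩

variable [HasColimitsOfShape ℕ A] [HasExactColimitsOfShape ℕ A]

include h2 in
theorem exists_retract (h1 : ∀ X : A, ∃ (ι : Type v) (E : ι → A) (π : ∐ E ⟶ X), (∀ i, E i ∈ S) ∧ Epi π)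
    (K : DerivedCategory A) (hK : CohDer.IsCompactObject K) :
    ∃ (L : CochainComplex A ℤ) (a b : ℤ),
      (∀ i : ℤ, i < a ∨ b < i → IsZero (L.X i)) ∧ (∀ i : ℤ, IsFinSum S (L.X i)) ∧
      Nonempty (Retract K (DerivedCategory.Q.obj L)) := by
  have : HasColimitsOfShape (Discrete ℕ) (DerivedCategory A) :=
    hasColimitsOfShape_of_equivalence (Discrete.equivalence Equiv.ulift.{v})
  have : HasColimitsOfShape (Discrete ℕ) A :=
    hasColimitsOfShape_of_equivalence (Discrete.equivalence Equiv.ulift.{v})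
  have : ∀ I : Type, HasColimitsOfShape (Discrete I) A := fun I =>
    hasColimitsOfShape_of_equivalence (Discrete.equivalence Equiv.ulift.{v})
  -- bounded above
  let K₀ := DerivedCategory.Q.objPreimage K
  let e₀ := DerivedCategory.Q.objObjPreimageIso K
  obtain ⟨b, (g : K ⟶ DerivedCategory.Q.obj (K₀.truncLE (b : ℤ))), hg⟩ := Hocolim.exists_factor_stage hK _ _ _ (HocolimQ.isHocolim_trunc K₀) e₀.inv
  -- a resolution by sums
  obtain ⟨L, α, hL, hsum, -, hα⟩ := SubRes.exists_coverRes (Q := IsSum S)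
    (fun X => by
      obtain ⟨ι, E, π, hE, hπ⟩ := h1 X
      exact ⟨_, π, ⟨ι, E, hE, ⟨Iso.refl _⟩⟩, hπ⟩)
    ⟨_, isZero_zero A, (isFinSum_of_isZero S (isZero_zero A)).isSum⟩
    (K₀.truncLE (b : ℤ)) (b : ℤ)
  have hαQ : IsIso (DerivedCategory.Q.map α) := (DerivedCategory.isIso_Q_map_iff_quasiIso _ _).2 hα
  -- bounded below
  let eα := @asIso _ _ _ _ (DerivedCategory.Q.map α) hαQ
  obtain ⟨k, (s : K ⟶ DerivedCategory.Q.obj (SiteKFlat.Trunc.trunc L (0 - (k : ℤ)))), hs⟩ := Hocolim.exists_factor_stage hK _ _ _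
    (HocolimQ.isHocolim (SiteKFlat.Trunc.seq L 0) (SiteKFlat.Trunc.seqCocone L 0)
      (SiteKFlat.Trunc.isColimitSeqCocone L 0)) (g ≫ eα.inv)
  let c : ℤ := 0 - (k : ℤ)
  have hMsum : ∀ i, IsSum S ((SiteKFlat.Trunc.trunc L c).X i) := fun i => by
    by_cases hi : c ≤ i
    · have := SiteKFlat.Trunc.isIso_tι L hi
      exact (hsum i).of_iso S (asIso (SiteKFlat.Trunc.tι L c i)).symm
    · exact (isFinSum_of_isZero S (SiteKFlat.Trunc.isZero_tX L (by omega))).isSum
  obtain ⟨N, ι', s', hs', hNa, hNb, -, hfin⟩ := exists_factor S h2 hK c b (b - c + 1).toNat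
    (SiteKFlat.Trunc.trunc L c) hMsum (SiteKFlat.Trunc.isStrictlyGE_trunc L c)
    (SiteKFlat.Trunc.isStrictlyLE_trunc L c b) s
  refine ⟨N, c, b, fun i hi => ?_, fun i => ?_, ⟨⟨s',
    DerivedCategory.Q.map ι' ≫ DerivedCategory.Q.map (SiteKFlat.Trunc.incl L c) ≫
      DerivedCategory.Q.map α ≫ DerivedCategory.Q.map (K₀.ιTruncLE (b : ℤ)) ≫ e₀.hom, ?_⟩⟩⟩
  · rcases hi with hi | hi
    · exact N.isZero_of_isStrictlyGE c i hi
    · exact N.isZero_of_isStrictlyLE b i hi
  · by_cases hi : i ≤ (b : ℤ)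
    · exact hfin i (by omega)
    · exact isFinSum_of_isZero S (N.isZero_of_isStrictlyLE b i (by omega))
  · change s ≫ DerivedCategory.Q.map (SiteKFlat.Trunc.incl L c) = g ≫ eα.inv at hs
    rw [reassoc_of% hs', reassoc_of% hs]
    exact (congrArg (g ≫ ·) (eα.inv_hom_id_assoc _)).trans ((reassoc_of% hg) e₀.hom |>.trans e₀.inv_hom_id)

end Groth.Agent.Lib.DerCat.CompactRetract
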