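import Mathlib.CategoryTheory.Triangulated.Pretriangulated
import Mathlib.CategoryTheory.Abelian.DiagramLemmas.Four
import Mathlib.CategoryTheory.Limits.Preserves.Shapes.Products
import Mathlib.CategoryTheory.Retract
import Mathlib.Algebra.Homology.ShortComplex.ExactFunctor

/-!
# Natural transformations of exact functors on pretriangulated categories

`ExactOn F`: `F` sends the first two maps of a distinguished triangle to an exact pair.  The five
lemma for a natural transformation `t` between such functors uses no compatibility of `t` with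
shifts.
-/

universe w v u v' u'

open CategoryTheory CategoryTheory.Limits CategoryTheory.Pretriangulated ComposableArrows

namespace Groth.Agent.Lib.DerCat.ExactFun

variable {D : Type u} [Category.{v} D] [Preadditive D] [HasZeroObject D] [HasShift D ℤ]
  [∀ n : ℤ, (shiftFunctor D n).Additive] [Pretriangulated D]
  {A : Type u'} [Category.{v'} A] [Abelian A]

/-- `F` is exact on distinguished triangles. -/
def ExactOn (F : D ⥤ A) [F.PreservesZeroMorphisms] : Prop :=
  ∀ (T : Triangle D) (hT : T ∈ distTriang D),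
    ((ShortComplex.mk T.mor₁ T.mor₂ (comp_distTriang_mor_zero₁₂ _ hT)).map F).Exact

variable {F F' : D ⥤ A} [F.Additive] [F'.Additive]

/-- The sequence of five objects. -/
noncomputable abbrev seq (F : D ⥤ A) (T : Triangle D) : ComposableArrows A 4 :=
  mk₄ (F.map T.mor₁) (F.map T.mor₂) (F.map T.mor₃) (F.map (-T.mor₁⟦(1 : ℤ)⟧'))

lemma seq_exact (hF : ExactOn F) (T : Triangle D) (hT : T ∈ distTriang D) : (seq F T).Exact := by
  have h₁ := hF T hT
  have h₂ := hF T.rotate (rot_of_distTriang _ hT)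
  have h₃ := hF T.rotate.rotate (rot_of_distTriang _ (rot_of_distTriang _ hT))
  exact exact_of_δ₀ h₁.exact_toComposableArrows
    (exact_of_δ₀ h₂.exact_toComposableArrows h₃.exact_toComposableArrows)

/-- The five lemma. -/
theorem isIso₃ (hF : ExactOn F) (hF' : ExactOn F') (t : F ⟶ F') (T : Triangle D)
    (hT : T ∈ distTriang D) [IsIso (t.app T.obj₁)] [IsIso (t.app T.obj₂)]
    [IsIso (t.app (T.obj₁⟦(1 : ℤ)⟧))] [IsIso (t.app (T.obj₂⟦(1 : ℤ)⟧))] :
    IsIso (t.app T.obj₃) :=
  Abelian.isIso_of_epi_of_isIso_of_isIso_of_mono (seq_exact hF T hT) (seq_exact hF' T hT)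
    (homMk₄ (t.app T.obj₁) (t.app T.obj₂) (t.app T.obj₃) (t.app (T.obj₁⟦(1 : ℤ)⟧))
      (t.app (T.obj₂⟦(1 : ℤ)⟧)) (t.naturality _) (t.naturality _) (t.naturality _) (t.naturality _))
    (inferInstanceAs (Epi (t.app T.obj₁))) (inferInstanceAs (IsIso (t.app T.obj₂)))
    (inferInstanceAs (IsIso (t.app (T.obj₁⟦(1 : ℤ)⟧))))
    (inferInstanceAs (Mono (t.app (T.obj₂⟦(1 : ℤ)⟧))))

/-- If `F` kills the cone and its negative shift, it inverts the map. -/
theorem isIso_map_mor₁ (hF : ExactOn F) (T : Triangle D) (hT : T ∈ distTriang D)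
    (h₃ : IsZero (F.obj T.obj₃)) (h₃' : IsZero (F.obj (T.obj₃⟦(-1 : ℤ)⟧))) :
    IsIso (F.map T.mor₁) := by
  haveI : Mono (F.map T.mor₁) :=
    (hF T.invRotate (inv_rot_of_distTriang _ hT)).mono_g (h₃'.eq_of_src _ _)
  haveI : Epi (F.map T.mor₁) := (hF T hT).epi_f (h₃.eq_of_tgt _ _)
  exact isIso_of_mono_of_epi _

omit [Pretriangulated D] [HasZeroObject D] [∀ n : ℤ, (shiftFunctor D n).Additive] in
/-- A natural transformation is invertible at a retract of a good object. -/
theorem isIso_of_retract {F F' : D ⥤ A} (t : F ⟶ F') {X Y : D} (r : Retract X Y)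
    [IsIso (t.app Y)] : IsIso (t.app X) :=
  ⟨F'.map r.i ≫ inv (t.app Y) ≫ F.map r.r, by
    rw [← NatTrans.naturality_assoc, IsIso.hom_inv_id_assoc, ← F.map_comp, r.retract, F.map_id],
  by
    rw [Category.assoc, Category.assoc, t.naturality, IsIso.inv_hom_id_assoc, ← F'.map_comp,
      r.retract, F'.map_id]⟩

omit [Pretriangulated D] [HasZeroObject D] [∀ n : ℤ, (shiftFunctor D n).Additive] [HasShift D ℤ] in
/-- A natural transformation of additive functors is invertible at a finite sum of good objects. -/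
theorem isIso_of_sum (t : F ⟶ F') {ι : Type*} [Fintype ι] (K : ι → D) (X : D) (a : ∀ i, K i ⟶ X)
    (b : ∀ i, X ⟶ K i) (hab : ∑ i, b i ≫ a i = 𝟙 X) [∀ i, IsIso (t.app (K i))] :
    IsIso (t.app X) := by
  refine ⟨∑ i, F'.map (b i) ≫ inv (t.app (K i)) ≫ F.map (a i), ?_, ?_⟩
  · rw [Preadditive.comp_sum]
    refine (Finset.sum_congr rfl fun i _ => ?_).trans (show ∑ i, F.map (b i ≫ a i) = _ by
      rw [← F.map_sum, hab, F.map_id])
    rw [← t.naturality_assoc, IsIso.hom_inv_id_assoc, ← F.map_comp]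
  · rw [Preadditive.sum_comp]
    refine (Finset.sum_congr rfl fun i _ => ?_).trans (show ∑ i, F'.map (b i ≫ a i) = _ by
      rw [← F'.map_sum, hab, F'.map_id])
    rw [Category.assoc, Category.assoc, t.naturality, IsIso.inv_hom_id_assoc, ← F'.map_comp]

/-- A natural transformation is invertible at a direct sum of good objects. -/
theorem isIso_of_coproduct {E : Type*} [Category E] {B : Type*} [Category B] {G G' : E ⥤ B}
    (t : G ⟶ G') {ι : Type w} (K : ι → E) [HasCoproduct K]
    [PreservesColimit (Discrete.functor K) G] [PreservesColimit (Discrete.functor K) G']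
    (h : ∀ i, IsIso (t.app (K i))) : IsIso (t.app (∐ K)) := by
  have hG := isColimitCofanMkObjOfIsColimit G K (Sigma.ι K) (coproductIsCoproduct K)
  have hG' := isColimitCofanMkObjOfIsColimit G' K (Sigma.ι K) (coproductIsCoproduct K)
  let d : G'.obj (∐ K) ⟶ G.obj (∐ K) :=
    Cofan.IsColimit.desc hG' fun i => inv (t.app (K i)) ≫ G.map (Sigma.ι K i)
  have hd : ∀ i, G'.map (Sigma.ι K i) ≫ d = inv (t.app (K i)) ≫ G.map (Sigma.ι K i) := fun i =>
    Cofan.IsColimit.fac hG' _ i
  refine ⟨d, Cofan.IsColimit.hom_ext hG _ _ fun i => ?_, Cofan.IsColimit.hom_ext hG' _ _ fun i => ?_⟩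
  · change G.map (Sigma.ι K i) ≫ t.app _ ≫ d = G.map (Sigma.ι K i) ≫ 𝟙 _
    rw [NatTrans.naturality_assoc, hd, IsIso.hom_inv_id_assoc, Category.comp_id]
  · change G'.map (Sigma.ι K i) ≫ d ≫ t.app _ = G'.map (Sigma.ι K i) ≫ 𝟙 _
    rw [reassoc_of% hd i, t.naturality, IsIso.inv_hom_id_assoc, Category.comp_id]

end Groth.Agent.Lib.DerCat.ExactFun
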