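import Groth.Agent.Lib.DerCat.Compact
import Mathlib.CategoryTheory.Triangulated.Generators
import Mathlib.CategoryTheory.Triangulated.Yoneda

/-!
# Maps from compact objects factor through finitely generated envelopes

The class of objects `Z` such that every map from a compact object to `Z` factors through the
triangulated envelope of finitely many generators contains the coproducts of shifts of generators
and is closed under shifts and extensions.
-/

universe v u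

open CategoryTheory CategoryTheory.Limits CategoryTheory.Pretriangulated

namespace Groth.Agent.Lib.DerCat.FiniteFac

variable {D : Type u} [Category.{v} D] [Preadditive D] [HasZeroObject D] [HasShift D ℤ]
  [∀ n : ℤ, (shiftFunctor D n).Additive] [Pretriangulated D] [IsTriangulated D]
  [HasCoproducts.{v} D] {ι : Type*} (E : ι → D)

/-- The envelope of finitely many generators. -/
abbrev env (s : Finset ι) : ObjectProperty D :=
  ObjectProperty.triangEnvelope fun Y : D => ∃ i ∈ s, Y = E i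

lemma env_mono {s t : Finset ι} (h : s ⊆ t) : env E s ≤ env E t :=
  ObjectProperty.monotone_triangEnvelope fun _ ⟨i, hi, e⟩ => ⟨i, h hi, e⟩

lemma nonempty_gen {s : Finset ι} (hs : s.Nonempty) :
    ObjectProperty.Nonempty (fun Y : D => ∃ i ∈ s, Y = E i) :=
  let ⟨i, hi⟩ := hs
  ⟨⟨E i, i, hi, rfl⟩⟩

lemma env_le_compact (hc : ∀ i, CohDer.IsCompactObject (E i)) (s : Finset ι) :
    env E s ≤ fun K : D => CohDer.IsCompactObject K := by
  have := Compact.isTriangulated_isCompactObject (D := D)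
  have : ObjectProperty.IsStableUnderRetracts (fun K : D => CohDer.IsCompactObject K) :=
    ⟨fun r h => Compact.isCompactObject_of_retract r h⟩
  exact (ObjectProperty.triangEnvelope_le_iff _).2 fun _ ⟨i, _, e⟩ => e ▸ hc i

lemma env_biprod {s : Finset ι} (hs : s.Nonempty) {X Y : D} (hX : env E s X) (hY : env E s Y) :
    env E s (X ⊞ Y) := by
  have := nonempty_gen E hs
  exact (env E s).ext_of_isTriangulatedClosed₂ _ (binaryBiproductTriangle_distinguished X Y) hX hY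

/-- `Z` has the finite factorization property. -/
def Fac (Z : D) : Prop :=
  ∀ (C : D), CohDer.IsCompactObject C → ∀ φ : C ⟶ Z,
    ∃ (s : Finset ι) (_ : s.Nonempty) (E' : D) (g : C ⟶ E') (h : E' ⟶ Z),
      env E s E' ∧ g ≫ h = φ

variable {E}

lemma Fac.of_iso {Z Z' : D} (h : Fac E Z) (e : Z ≅ Z') : Fac E Z' := fun C hC φ => by
  obtain ⟨s, hs, E', g, k, hE', hgk⟩ := h C hC (φ ≫ e.inv)
  exact ⟨s, hs, E', g, k ≫ e.hom, hE', by rw [reassoc_of% hgk]; simp⟩

lemma Fac.shift {Z : D} (h : Fac E Z) (n : ℤ) : Fac E (Z⟦n⟧) := fun C hC φ => by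
  obtain ⟨s, hs, E', g, k, hE', hgk⟩ := h _ (Compact.isCompactObject_shift hC (-n))
    (φ⟦-n⟧' ≫ (shiftShiftNeg Z n).hom)
  refine ⟨s, hs, E'⟦n⟧, (shiftNegShift C n).inv ≫ g⟦n⟧', k⟦n⟧',
    (env E s).le_shift n _ hE', ?_⟩
  rw [Category.assoc, ← Functor.map_comp, hgk, Functor.map_comp, Iso.inv_comp_eq]
  have : (shiftShiftNeg Z n).hom⟦n⟧' = (shiftNegShift (Z⟦n⟧) n).hom :=
    shift_shiftFunctorCompIsoId_hom_app n (-n) (add_neg_cancel n) Z
  rw [this]
  exact (shiftFunctorCompIsoId D (-n) n (neg_add_cancel n)).hom.naturality φ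

variable [Nonempty ι] (hc : ∀ i, CohDer.IsCompactObject (E i))

omit hc in
lemma fac_coproduct {κ : Type v} (a : κ → ι) (m : κ → ℤ) :
    Fac E (∐ fun k => (E (a k))⟦m k⟧) := by
  classical
  intro C hC φ
  obtain ⟨i₀⟩ := ‹Nonempty ι›
  let S : AddSubgroup (C ⟶ ∐ fun k => (E (a k))⟦m k⟧) :=
    { carrier := {φ | ∃ (s : Finset ι) (_ : s.Nonempty) (E' : D) (g : C ⟶ E') (h : E' ⟶ _),
        env E s E' ∧ g ≫ h = φ}
      zero_mem' := ⟨{i₀}, ⟨i₀, Finset.mem_singleton_self _⟩, E i₀, 0, 0,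
        ObjectProperty.le_triangEnvelope _ _ ⟨i₀, Finset.mem_singleton_self _, rfl⟩, zero_comp⟩
      add_mem' := by
        rintro x y ⟨s, hs, X, g, h, hX, rfl⟩ ⟨t, ht, Y, g', h', hY, rfl⟩
        exact ⟨s ∪ t, hs.mono Finset.subset_union_left, X ⊞ Y, biprod.lift g g', biprod.desc h h',
          env_biprod E (hs.mono Finset.subset_union_left)
            (env_mono E Finset.subset_union_left _ hX) (env_mono E Finset.subset_union_right _ hY),
          biprod.lift_desc⟩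
      neg_mem' := by
        rintro x ⟨s, hs, X, g, h, hX, rfl⟩
        exact ⟨s, hs, X, g, -h, hX, Preadditive.comp_neg _ _⟩ }
  refine (Compact.range_le (P := S) _ fun k g => ?_)
    ((Compact.isCompactObject_iff C).1 hC κ _ φ)
  exact ⟨{a k}, ⟨a k, Finset.mem_singleton_self _⟩, (E (a k))⟦m k⟧, g, Sigma.ι (fun k => (E (a k))⟦m k⟧) k,
    (env E {a k}).le_shift (m k) _
      (ObjectProperty.le_triangEnvelope _ _ ⟨a k, Finset.mem_singleton_self _, rfl⟩), rfl⟩

include hc in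
lemma Fac.ext₂ (T : Triangle D) (hT : T ∈ distTriang D) (h₁ : Fac E T.obj₁) (h₃ : Fac E T.obj₃) :
    Fac E T.obj₂ := by
  classical
  intro C hC φ
  obtain ⟨s₃, hs₃, E₃, g₃, k₃, hE₃, hg₃⟩ := h₃ C hC (φ ≫ T.mor₂)
  obtain ⟨Q, p, q, hQ⟩ := distinguished_cocone_triangle g₃
  have hQc : CohDer.IsCompactObject Q :=
    Compact.isCompactObject_ext₂ _ (rot_of_distTriang _ hQ) (env_le_compact E hc s₃ _ hE₃)
      (Compact.isCompactObject_shift hC 1)
  have h0 : g₃ ≫ k₃ ≫ T.mor₃ = 0 := by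
    rw [← Category.assoc, hg₃, Category.assoc, comp_distTriang_mor_zero₂₃ _ hT, comp_zero]
  obtain ⟨b, hb⟩ : ∃ b : Q ⟶ T.obj₁⟦(1 : ℤ)⟧, k₃ ≫ T.mor₃ = p ≫ b :=
    Triangle.yoneda_exact₂ _ hQ (k₃ ≫ T.mor₃) h0
  obtain ⟨s₁, hs₁, E₁, c₁, k₁, hE₁, hb'⟩ := h₁.shift 1 Q hQc b
  obtain ⟨E₂, r, w, hE₂⟩ := distinguished_cocone_triangle₁ (p ≫ c₁)
  obtain ⟨g, hg⟩ : ∃ g : C ⟶ E₂, g₃ = g ≫ r :=
    Triangle.coyoneda_exact₂ _ hE₂ g₃ (by
      change g₃ ≫ p ≫ c₁ = 0
      have : g₃ ≫ p = 0 := comp_distTriang_mor_zero₁₂ _ hQ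
      rw [reassoc_of% this, zero_comp])
  obtain ⟨k, hk⟩ : ∃ k : E₂ ⟶ T.obj₂, r ≫ k₃ = k ≫ T.mor₂ :=
    Triangle.coyoneda_exact₃ _ hT (r ≫ k₃) (by
      have : r ≫ p ≫ c₁ = 0 := comp_distTriang_mor_zero₁₂ _ hE₂
      rw [Category.assoc, hb, ← hb', reassoc_of% this, zero_comp])
  obtain ⟨d, hd⟩ : ∃ d : C ⟶ T.obj₁, φ - g ≫ k = d ≫ T.mor₁ :=
    Triangle.coyoneda_exact₂ _ hT _ (by
      rw [Preadditive.sub_comp, Category.assoc, ← hk, ← Category.assoc, ← hg, hg₃, sub_self])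
  obtain ⟨s₄, hs₄, E₄, g₄, k₄, hE₄, hd'⟩ := h₁ C hC d
  let s := s₃ ∪ s₁ ∪ s₄
  have hs : s.Nonempty := hs₄.mono Finset.subset_union_right
  have hm₂ : env E s E₂ := by
    have := nonempty_gen E hs
    exact (env E s).ext_of_isTriangulatedClosed₁ _ hE₂
      (env_mono E (Finset.subset_union_left.trans Finset.subset_union_left) _ hE₃)
      (env_mono E (Finset.subset_union_right.trans Finset.subset_union_left) _ hE₁)
  refine ⟨s, hs, E₂ ⊞ E₄, biprod.lift g g₄, biprod.desc k (k₄ ≫ T.mor₁),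
    env_biprod E hs hm₂ (env_mono E Finset.subset_union_right _ hE₄), ?_⟩
  rw [biprod.lift_desc, ← Category.assoc g₄, hd', ← hd, add_sub_cancel]

include hc in
/-- Every stage of a sequence built from coproducts of shifted generators has the property. -/
theorem fac_sequence {K : ℕ → D} (f : ∀ n, K n ⟶ K (n + 1))
    (h0 : ∃ (κ : Type v) (a : κ → ι) (m : κ → ℤ),
      Nonempty (K 0 ≅ ∐ (fun k => (E (a k))⟦m k⟧)))
    (hstep : ∀ n, ∃ (κ : Type v) (a : κ → ι) (m : κ → ℤ)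
      (y : (∐ fun k => (E (a k))⟦m k⟧) ⟶ K n)
      (z : K (n + 1) ⟶ (∐ fun k => (E (a k))⟦m k⟧)⟦(1 : ℤ)⟧),
      Triangle.mk y (f n) z ∈ distTriang D) : ∀ n, Fac E (K n)
  | 0 => by
    obtain ⟨κ, a, m, ⟨e⟩⟩ := h0
    exact (fac_coproduct a m).of_iso e.symm
  | n + 1 => by
    obtain ⟨κ, a, m, y, z, h⟩ := hstep n
    exact Fac.ext₂ hc _ (rot_of_distTriang _ h) (fac_sequence f h0 hstep n)
      ((fac_coproduct a m).shift 1)

end Groth.Agent.Lib.DerCat.FiniteFac
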