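import Groth.Agent.Lib.DerCat.RFPlus
import Mathlib.CategoryTheory.Abelian.Injective.Extend
import Mathlib.CategoryTheory.Abelian.RightDerived
import Mathlib.Algebra.Homology.DerivedCategory.SingleTriangle

/-!
# The bounded below right derived functor on objects
-/

universe w w' v v' u u'

open CategoryTheory CategoryTheory.Limits

namespace Groth.Agent.Lib.DerCat.RFObj

open RFPlus

variable {C : Type u} [Category.{v} C] [Abelian C]

/-- The single functor to bounded below complexes. -/
noncomputable def sg : C ⥤ CochainComplex.Plus C :=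
  ObjectProperty.lift _ (CochainComplex.singleFunctor C 0) fun _ => ⟨0, inferInstance⟩

/-- An injective resolution as a bounded below complex. -/
noncomputable abbrev resP {X : C} (R : InjectiveResolution X) : CochainComplex.Plus C :=
  ⟨R.cochainComplex, 0, inferInstance⟩

/-- The augmentation. -/
noncomputable abbrev augP {X : C} (R : InjectiveResolution X) : sg.obj X ⟶ resP R :=
  ObjectProperty.homMk R.ι'

instance quasiIso_augP {X : C} (R : InjectiveResolution X) : QuasiIso (augP R).hom :=
  inferInstanceAs (QuasiIso R.ι')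

variable {D : Type u'} [Category.{v'} D] [Abelian D] (F : C ⥤ D) [F.Additive]

/-- Extension by zero commutes with additive functors. -/
noncomputable def mapExtendIso (L : CochainComplex C ℕ) :
    (F.mapHomologicalComplex (.up ℤ)).obj (L.extend ComplexShape.embeddingUpNat) ≅
      ((F.mapHomologicalComplex (.up ℕ)).obj L).extend ComplexShape.embeddingUpNat :=
  HomologicalComplex.Hom.isoOfComponents (fun n =>
    match n with
    | .ofNat k => F.mapIso (L.extendXIso ComplexShape.embeddingUpNat (i := k) (by simp)) ≪≫
        (((F.mapHomologicalComplex (.up ℕ)).obj L).extendXIso ComplexShape.embeddingUpNat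
          (i := k) (by simp)).symm
    | .negSucc k =>
      (F.map_isZero (L.isZero_extend_X ComplexShape.embeddingUpNat _ (fun i => by simp))).iso
        (HomologicalComplex.isZero_extend_X _ _ _ (fun i => by simp))) (by
    rintro i j rfl
    cases i with
    | negSucc k =>
      exact (F.map_isZero (L.isZero_extend_X ComplexShape.embeddingUpNat _
        (fun i => by simp))).eq_of_src _ _
    | ofNat k =>
      change (F.map (L.extendXIso ComplexShape.embeddingUpNat (i := k) (by simp)).hom ≫
          (((F.mapHomologicalComplex (.up ℕ)).obj L).extendXIso ComplexShape.embeddingUpNat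
            (i := k) (by simp)).inv) ≫
          (((F.mapHomologicalComplex (.up ℕ)).obj L).extend ComplexShape.embeddingUpNat).d _
            (Int.ofNat (k + 1)) =
        F.map ((L.extend ComplexShape.embeddingUpNat).d _ (Int.ofNat (k + 1))) ≫
          (F.map (L.extendXIso ComplexShape.embeddingUpNat (i := k + 1) (by simp)).hom ≫
          (((F.mapHomologicalComplex (.up ℕ)).obj L).extendXIso ComplexShape.embeddingUpNat
            (i := k + 1) (by simp)).inv)
      rw [L.extend_d_eq ComplexShape.embeddingUpNat (i := k) (j := k + 1) (by simp) (by simp),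
        HomologicalComplex.extend_d_eq _ ComplexShape.embeddingUpNat (i := k) (j := k + 1)
          (by simp) (by simp)]
      refine (Category.assoc _ _ _).trans ((congrArg _ (Iso.inv_hom_id_assoc _ _)).trans ?_)
      refine Eq.trans ?_ (Category.assoc _ _ _)
      refine Eq.trans ?_ (congrArg (· ≫ _) (F.map_comp _ _))
      rw [Category.assoc, Category.assoc, Iso.inv_hom_id, Category.comp_id, F.map_comp]
      exact (Category.assoc _ _ _).symm)

lemma isZero_homology_mapRes [HasInjectiveResolutions C] {X : C} (R : InjectiveResolution X)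
    (n : ℤ) (hn : n < 0) :
    IsZero (((F.mapHomologicalComplex (.up ℤ)).obj R.cochainComplex).homology n) :=
  ShortComplex.isZero_homology_of_isZero_X₂ _
    (F.map_isZero (CochainComplex.isZero_of_isStrictlyGE R.cochainComplex 0 n hn))

/-- Homology of `F` of a resolution. -/
noncomputable def mapResHomologyIso [HasInjectiveResolutions C] {X : C} (R : InjectiveResolution X)
    (n : ℕ) : ((F.mapHomologicalComplex (.up ℤ)).obj R.cochainComplex).homology n ≅
      (F.rightDerived n).obj X :=
  (HomologicalComplex.homologyFunctor D (.up ℤ) n).mapIso (mapExtendIso F R.cocomplex) ≪≫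
    ((F.mapHomologicalComplex (.up ℕ)).obj R.cocomplex).extendHomologyIso
      ComplexShape.embeddingUpNat (j := n) (by simp) ≪≫ (R.isoRightDerivedObj F n).symm

lemma exactAt_map_single (X : C) (n : ℤ) (hn : n ≠ 0) :
    ((F.mapHomologicalComplex (.up ℤ)).obj ((CochainComplex.singleFunctor C 0).obj X)).ExactAt n :=
  ShortComplex.exact_of_isZero_X₂ _
    (F.map_isZero (HomologicalComplex.isZero_single_obj_X (ComplexShape.up ℤ) 0 X n hn))

lemma quasiIsoAt_map_iff_isZero [HasInjectiveResolutions C] {X : C} (R : InjectiveResolution X)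
    (k : ℕ) (hk : 0 < k) :
    QuasiIsoAt ((F.mapHomologicalComplex (.up ℤ)).map R.ι') (k : ℤ) ↔
      IsZero ((F.rightDerived k).obj X) := by
  rw [quasiIsoAt_iff_exactAt _ _ (exactAt_map_single F X k (by lia)),
    HomologicalComplex.exactAt_iff_isZero_homology]
  exact (mapResHomologyIso F R k).isZero_iff

lemma quasiIsoAt_map_zero_iff [HasInjectiveResolutions C] {X : C} (R : InjectiveResolution X) :
    QuasiIsoAt ((F.mapHomologicalComplex (.up ℤ)).map R.ι') 0 ↔
      IsIso (F.toRightDerivedZero.app X) := by
  rw [R.toRightDerivedZero_eq F, isIso_comp_right_iff, InjectiveResolution.toRightDerivedZero',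
    CochainComplex.isIso_liftCycles_iff, quasiIsoAt_iff' _ (-1) 0 1 (by simp) (by simp),
    ShortComplex.quasiIso_iff_of_zeros _
      ((congrArg F.map (HomologicalComplex.single_obj_d (ComplexShape.up ℤ) 0 X (-1) 0)).trans
        (F.map_zero _ _))
      ((congrArg F.map (HomologicalComplex.single_obj_d (ComplexShape.up ℤ) 0 X 0 1)).trans
        (F.map_zero _ _))
      ((F.map_isZero
        (CochainComplex.isZero_of_isStrictlyGE R.cochainComplex 0 (-1) (by lia))).eq_of_src _ _)]
  let a := F.mapIso (HomologicalComplex.singleObjXSelf (ComplexShape.up ℤ) 0 X)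
  let b := F.mapIso (R.cochainComplexXIso 0 0 rfl)
  let c := F.mapIso (R.cochainComplexXIso 1 1 rfl)
  have h₁ : F.map (R.ι'.f 0) ≫ b.hom = a.hom ≫ F.map (R.ι.f 0) := by
    simp only [a, b, Functor.mapIso_hom, ← F.map_comp, R.ι'_f_zero, Category.assoc]
    erw [Category.assoc, Category.assoc, Iso.inv_hom_id, Category.comp_id]
    rfl
  have h₂ : F.map (R.cochainComplex.d 0 1) ≫ c.hom = b.hom ≫ F.map (R.cocomplex.d 0 1) := by
    simp only [b, c, Functor.mapIso_hom, ← F.map_comp, R.cochainComplex_d 0 1 0 1 rfl rfl,
      Category.assoc, Iso.inv_hom_id, Category.comp_id]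
  refine and_congr (ShortComplex.exact_iff_of_iso
    (ShortComplex.isoMk a b c h₁.symm h₂.symm)) ?_
  change Mono (F.map (R.ι'.f 0)) ↔ Mono (F.map (R.ι.f 0))
  exact (MorphismProperty.monomorphisms D).arrow_mk_iso_iff (Arrow.isoMk a b h₁.symm)

lemma quasiIso_map_iff [HasInjectiveResolutions C] {X : C} (R : InjectiveResolution X) :
    QuasiIso ((F.mapHomologicalComplex (.up ℤ)).map R.ι') ↔
      (IsIso (F.toRightDerivedZero.app X) ∧
        ∀ i : ℕ, 0 < i → IsZero ((F.rightDerived i).obj X)) := by
  rw [quasiIso_iff, ← quasiIsoAt_map_zero_iff F R]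
  refine ⟨fun h => ⟨h 0, fun i hi => (quasiIsoAt_map_iff_isZero F R i hi).1 (h i)⟩,
    fun h n => ?_⟩
  rcases lt_trichotomy n 0 with hn | rfl | hn
  · rw [quasiIsoAt_iff_exactAt _ _ (exactAt_map_single F X n hn.ne),
      HomologicalComplex.exactAt_iff_isZero_homology]
    exact isZero_homology_mapRes F R n hn
  · exact h.1
  · lift n to ℕ using hn.le
    exact (quasiIsoAt_map_iff_isZero F R n (by lia)).2 (h.2 n (by lia))

variable [HasDerivedCategory.{w} C] [HasDerivedCategory.{w'} D] [EnoughInjectives C]

/-- The comparison `Q (F K) ⟶ RF (K)`. -/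
noncomputable def η : CochainComplex.Plus.ι C ⋙ F.mapHomologicalComplex (.up ℤ) ⋙ DerivedCategory.Q ⟶
    DerivedCategory.Plus.Q ⋙ RF F where
  app K := (DerivedCategory.quotientCompQhIso D).inv.app _ ≫
    DerivedCategory.Plus.ι.map
      (F.rightDerivedFunctorPlusUnit.app ((HomotopyCategory.Plus.quotient C).obj K))
  naturality K L f := by
    have h₁ := (DerivedCategory.quotientCompQhIso D).inv.naturality
      ((F.mapHomologicalComplex (.up ℤ)).map f.hom)
    have h₂ := DerivedCategory.Plus.ι.congr_map (F.rightDerivedFunctorPlusUnit.naturality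
      ((HomotopyCategory.Plus.quotient C).map f))
    rw [Functor.map_comp, Functor.map_comp] at h₂
    refine (Category.assoc _ _ _).symm.trans ((congrArg (· ≫ _) h₁).trans ?_)
    refine (Category.assoc _ _ _).trans (Eq.trans ?_ (Category.assoc _ _ _).symm)
    exact congrArg _ h₂

lemma isIso_η_iff (K : CochainComplex.Plus C) :
    IsIso ((η F).app K) ↔
      IsIso (F.rightDerivedFunctorPlusUnit.app ((HomotopyCategory.Plus.quotient C).obj K)) := by
  change IsIso ((DerivedCategory.quotientCompQhIso D).inv.app _ ≫ _) ↔ _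
  rw [isIso_comp_left_iff]
  exact isIso_iff_of_reflects_iso _ DerivedCategory.Plus.ι |>.trans Iff.rfl

lemma isIso_η_of_injective (L : CochainComplex.Plus C) (hL : ∀ n, Injective (L.obj.X n)) :
    IsIso ((η F).app L) := by
  rw [isIso_η_iff]
  have : ∀ n, Injective (((HomotopyCategory.Plus.quotient C).obj L).obj.as.X n) := hL
  infer_instance

lemma isIso_Q_map_of_quasiIso {K L : CochainComplex.Plus C} (i : K ⟶ L) [QuasiIso i.hom] :
    IsIso (DerivedCategory.Plus.Q.map i) := by
  have : IsIso (DerivedCategory.Plus.ι.map (DerivedCategory.Plus.Q.map i)) :=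
    (NatIso.isIso_map_iff (DerivedCategory.quotientCompQhIso C) i.hom).2
      (inferInstanceAs (IsIso (DerivedCategory.Q.map i.hom)))
  exact isIso_of_reflects_iso _ DerivedCategory.Plus.ι

lemma isIso_η_iff_quasiIso {K L : CochainComplex.Plus C} (i : K ⟶ L) [QuasiIso i.hom]
    (hL : ∀ n, Injective (L.obj.X n)) :
    IsIso ((η F).app K) ↔ QuasiIso ((F.mapHomologicalComplex (.up ℤ)).map i.hom) := by
  have := isIso_η_of_injective F L hL
  have := isIso_Q_map_of_quasiIso i
  rw [← DerivedCategory.isIso_Q_map_iff_quasiIso]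
  have hi : IsIso ((DerivedCategory.Plus.Q ⋙ RF F).map i) :=
    inferInstanceAs (IsIso ((RF F).map (DerivedCategory.Plus.Q.map i)))
  have e := (η F).naturality i
  constructor
  · intro h
    have h' : IsIso ((η F).app K ≫ (DerivedCategory.Plus.Q ⋙ RF F).map i) :=
      IsIso.comp_isIso' h hi
    rw [← e] at h'
    exact @IsIso.of_isIso_comp_right _ _ _ _ _
      (DerivedCategory.Q.map ((F.mapHomologicalComplex (.up ℤ)).map i.hom)) ((η F).app L) ‹_› h'
  · intro h
    have h' : IsIso ((η F).app K ≫ (DerivedCategory.Plus.Q ⋙ RF F).map i) := by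
      rw [← e]
      exact IsIso.comp_isIso' h ‹_›
    exact IsIso.of_isIso_comp_right _ ((DerivedCategory.Plus.Q ⋙ RF F).map i)

/-- `RF` of a complex resolved by injectives. -/
noncomputable def RFIso {K L : CochainComplex.Plus C} (i : K ⟶ L) [QuasiIso i.hom]
    (hL : ∀ n, Injective (L.obj.X n)) :
    (RF F).obj (DerivedCategory.Plus.Q.obj K) ≅
      DerivedCategory.Q.obj ((F.mapHomologicalComplex (.up ℤ)).obj L.obj) :=
  have := isIso_η_of_injective F L hL
  have := isIso_Q_map_of_quasiIso i
  (RF F).mapIso (asIso (DerivedCategory.Plus.Q.map i)) ≪≫ (asIso ((η F).app L)).symm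

/-- `RF` of an object, in complexes. -/
noncomputable abbrev RFobj : C ⥤ DerivedCategory D := sg ⋙ DerivedCategory.Plus.Q ⋙ RF F

/-- Cohomology of `RF` of an object. -/
noncomputable abbrev HRF (n : ℤ) : C ⥤ D := RFobj F ⋙ DerivedCategory.homologyFunctor D n

/-- Cohomology of `RF` of an object through a resolution. -/
noncomputable def HRFResIso {X : C} (R : InjectiveResolution X) (n : ℤ) :
    (HRF F n).obj X ≅ ((F.mapHomologicalComplex (.up ℤ)).obj R.cochainComplex).homology n :=
  (DerivedCategory.homologyFunctor D n).mapIso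
    (RFIso F (K := sg.obj X) (augP R) (fun n => inferInstanceAs (Injective (R.cochainComplex.X n)))) ≪≫
    (DerivedCategory.homologyFunctorFactors D n).app _

lemma isZero_HRF_of_neg (X : C) (n : ℤ) (hn : n < 0) : IsZero ((HRF F n).obj X) :=
  (isZero_homology_mapRes F (injectiveResolution X) n hn).of_iso
    (HRFResIso F (injectiveResolution X) n)

/-- Cohomology of `RF` of an object is the right derived functor. -/
noncomputable def HRFIso (X : C) (n : ℕ) : (HRF F n).obj X ≅ (F.rightDerived n).obj X :=
  HRFResIso F (injectiveResolution X) n ≪≫ mapResHomologyIso F (injectiveResolution X) n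

/-- Right acyclicity of an object. -/
lemma isIso_η_sg_iff (X : C) :
    IsIso ((η F).app (sg.obj X)) ↔ (IsIso (F.toRightDerivedZero.app X) ∧
      ∀ i : ℕ, 0 < i → IsZero ((F.rightDerived i).obj X)) := by
  rw [isIso_η_iff_quasiIso F (augP (injectiveResolution X))
    (fun n => inferInstanceAs (Injective ((injectiveResolution X).cochainComplex.X n)))]
  exact quasiIso_map_iff F (injectiveResolution X)

variable {F}

/-- The long exact sequence. -/
theorem exists_les {S : ShortComplex C} (hS : S.ShortExact) (n : ℤ) :
    ∃ (δ : (HRF F n).obj S.X₃ ⟶ (HRF F (n + 1)).obj S.X₁)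
      (w₁ : (HRF F n).map S.f ≫ (HRF F n).map S.g = 0) (w₂ : (HRF F n).map S.g ≫ δ = 0)
      (w₃ : δ ≫ (HRF F (n + 1)).map S.f = 0),
      (ShortComplex.mk _ _ w₁).Exact ∧ (ShortComplex.mk _ _ w₂).Exact ∧
        (ShortComplex.mk _ _ w₃).Exact := by
  have hS' : (S.map (CochainComplex.singleFunctor C 0)).ShortExact :=
    hS.map_of_exact (HomologicalComplex.single C (ComplexShape.up ℤ) 0)
  obtain ⟨c, hT⟩ := exists_distTriang_of_shortExact (sg.map S.f) (sg.map S.g)
    (S.map (CochainComplex.singleFunctor C 0)).zero hS'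
  obtain ⟨d, hd⟩ := exists_distTriang F _ hT
  exact ⟨_, _, _, _, DerivedCategory.HomologySequence.exact₂ _ hd n,
    DerivedCategory.HomologySequence.exact₃ _ hd n (n + 1) rfl,
    DerivedCategory.HomologySequence.exact₁ _ hd n (n + 1) rfl⟩

variable (F)

omit [HasDerivedCategory C] [HasDerivedCategory D] [EnoughInjectives C] in
lemma mapExtendIso_naturality {K L : CochainComplex C ℕ} (φ : K ⟶ L) :
    (F.mapHomologicalComplex (.up ℤ)).map (HomologicalComplex.extendMap φ ComplexShape.embeddingUpNat) ≫
        (mapExtendIso F L).hom =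
      (mapExtendIso F K).hom ≫ HomologicalComplex.extendMap
        ((F.mapHomologicalComplex (.up ℕ)).map φ) ComplexShape.embeddingUpNat := by
  ext n
  cases n with
  | negSucc k =>
    exact (F.map_isZero (K.isZero_extend_X ComplexShape.embeddingUpNat _
      (fun i => by simp))).eq_of_src _ _
  | ofNat k =>
    rw [HomologicalComplex.comp_f, HomologicalComplex.comp_f, Functor.mapHomologicalComplex_map_f,
      HomologicalComplex.extendMap_f _ _ (i := k) (by simp),
      HomologicalComplex.extendMap_f _ _ (i := k) (by simp)]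
    change F.map (_ ≫ φ.f k ≫ _) ≫ (F.map _ ≫ _) = (F.map _ ≫ _) ≫ _ ≫ F.map (φ.f k) ≫ _
    simp only [Category.assoc, Iso.inv_hom_id, Category.comp_id, F.map_comp, Iso.symm_hom]
    erw [Iso.inv_hom_id_assoc]
    refine congrArg _ (congrArg _ ?_)
    refine (Category.assoc _ _ _).symm.trans ?_
    rw [← F.map_comp, Iso.inv_hom_id, F.map_id]
    exact Category.id_comp _

omit [HasDerivedCategory C] [HasDerivedCategory D] [EnoughInjectives C] in
lemma mapResHomologyIso_naturality [HasInjectiveResolutions C] {X Y : C} {f : X ⟶ Y}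
    {R : InjectiveResolution X} {R' : InjectiveResolution Y} (φ : InjectiveResolution.Hom R R' f)
    (n : ℕ) :
    HomologicalComplex.homologyMap ((F.mapHomologicalComplex (.up ℤ)).map φ.hom') (n : ℤ) ≫
        (mapResHomologyIso F R' n).hom =
      (mapResHomologyIso F R n).hom ≫ (F.rightDerived n).map f := by
  have h := R.isoRightDerivedObj_inv_naturality f R' φ.hom
    (by simpa using φ.ι_f_zero_comp_hom_f_zero) F n
  simp only [Functor.comp_map, HomologicalComplex.homologyFunctor_map] at h
  let e := ComplexShape.embeddingUpNat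
  let α := (mapExtendIso F R.cocomplex).hom
  let α' := (mapExtendIso F R'.cocomplex).hom
  let β := (((F.mapHomologicalComplex (.up ℕ)).obj R.cocomplex).extendHomologyIso e
    (j := n) (j' := (n : ℤ)) (by simp [e])).hom
  let β' := (((F.mapHomologicalComplex (.up ℕ)).obj R'.cocomplex).extendHomologyIso e
    (j := n) (j' := (n : ℤ)) (by simp [e])).hom
  have k₁ : HomologicalComplex.homologyMap ((F.mapHomologicalComplex (.up ℤ)).map
        (HomologicalComplex.extendMap φ.hom e)) (n : ℤ) ≫
        HomologicalComplex.homologyMap α' (n : ℤ) ≫ β' =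
      HomologicalComplex.homologyMap α (n : ℤ) ≫ β ≫
        HomologicalComplex.homologyMap ((F.mapHomologicalComplex (.up ℕ)).map φ.hom) n := by
    rw [← HomologicalComplex.homologyMap_comp_assoc, mapExtendIso_naturality,
      HomologicalComplex.homologyMap_comp_assoc]
    exact congrArg _ (HomologicalComplex.extendHomologyIso_hom_naturality _ _ _)
  change HomologicalComplex.homologyMap _ (n : ℤ) ≫
      (HomologicalComplex.homologyMap α' (n : ℤ) ≫ β' ≫ (R'.isoRightDerivedObj F n).inv) =
    (HomologicalComplex.homologyMap α (n : ℤ) ≫ β ≫ (R.isoRightDerivedObj F n).inv) ≫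
      (F.rightDerived n).map f
  refine Eq.trans ?_ (Category.assoc _ _ _).symm
  refine Eq.trans ?_ (congrArg _ (Category.assoc _ _ _).symm)
  refine Eq.trans ?_ (congrArg (fun t => _ ≫ β ≫ t) h.symm)
  have k₂ := k₁ =≫ (R'.isoRightDerivedObj F n).inv
  simp only [Category.assoc] at k₂
  exact k₂

lemma HRFResIso_naturality {X Y : C} {f : X ⟶ Y} {R : InjectiveResolution X}
    {R' : InjectiveResolution Y} (φ : InjectiveResolution.Hom R R' f) (n : ℤ) :
    (HRF F n).map f ≫ (HRFResIso F R' n).hom =
      (HRFResIso F R n).hom ≫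
        HomologicalComplex.homologyMap ((F.mapHomologicalComplex (.up ℤ)).map φ.hom') n := by
  have sq : augP R ≫ ObjectProperty.homMk (X := resP R) (Y := resP R') φ.hom' =
      sg.map f ≫ augP R' := ObjectProperty.hom_ext _ φ.ι'_comp_hom'
  let ψ : resP R ⟶ resP R' := ObjectProperty.homMk φ.hom'
  have hR := isIso_η_of_injective F (resP R)
    (fun n => inferInstanceAs (Injective (R.cochainComplex.X n)))
  have hR' := isIso_η_of_injective F (resP R')
    (fun n => inferInstanceAs (Injective (R'.cochainComplex.X n)))
  have key : (RFobj F).map f ≫ (RFIso F (K := sg.obj Y) (augP R')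
        (fun n => inferInstanceAs (Injective (R'.cochainComplex.X n)))).hom =
      (RFIso F (K := sg.obj X) (augP R)
        (fun n => inferInstanceAs (Injective (R.cochainComplex.X n)))).hom ≫
      DerivedCategory.Q.map ((F.mapHomologicalComplex (.up ℤ)).map φ.hom') := by
    change (RF F).map (DerivedCategory.Plus.Q.map (sg.map f)) ≫
        ((RF F).map (DerivedCategory.Plus.Q.map (augP R')) ≫ inv ((η F).app (resP R'))) =
      ((RF F).map (DerivedCategory.Plus.Q.map (augP R)) ≫ inv ((η F).app (resP R))) ≫ _
    rw [← Functor.map_comp_assoc, ← Functor.map_comp, ← sq, Functor.map_comp, Functor.map_comp,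
      Category.assoc, Category.assoc]
    congr 1
    rw [IsIso.comp_inv_eq, Category.assoc, IsIso.eq_inv_comp]
    exact ((η F).naturality ψ).symm
  change (DerivedCategory.homologyFunctor D n).map ((RFobj F).map f) ≫
      ((DerivedCategory.homologyFunctor D n).map _ ≫ _) = _
  rw [← Functor.map_comp_assoc, key, Functor.map_comp, Category.assoc]
  refine Eq.trans ?_ (Category.assoc _ _ _).symm
  exact congrArg _ (DerivedCategory.homologyFunctorFactors_hom_naturality _ n)

/-- Cohomology of `RF` on objects is the right derived functor. -/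
noncomputable def HRFNatIso (n : ℕ) : HRF F n ≅ F.rightDerived n :=
  NatIso.ofComponents (fun X => HRFIso F X n) fun {X Y} f => by
    let φ : InjectiveResolution.Hom (injectiveResolution X) (injectiveResolution Y) f :=
      { hom := InjectiveResolution.desc f _ _
        ι_f_zero_comp_hom_f_zero :=
          (InjectiveResolution.desc_commutes_zero f _ _).trans
            (congrArg (· ≫ _) (CochainComplex.single₀_map_f_zero f).symm) }
    simp only [HRFIso, Iso.trans_hom, Category.assoc]
    rw [← Category.assoc, HRFResIso_naturality F φ, Category.assoc, mapResHomologyIso_naturality F φ]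

omit [HasDerivedCategory C] [HasDerivedCategory D] [EnoughInjectives C] in
theorem additive_rightDerived [HasInjectiveResolutions C] (n : ℕ) :
    (F.rightDerived n).Additive where
  map_add {X Y f g} := by
    let P := injectiveResolution X
    let Q := injectiveResolution Y
    rw [F.rightDerived_map_eq n (f + g) (InjectiveResolution.desc f Q P + InjectiveResolution.desc g Q P)
        (by rw [Preadditive.comp_add, InjectiveResolution.desc_commutes,
          InjectiveResolution.desc_commutes, Functor.map_add, Preadditive.add_comp]),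
      F.rightDerived_map_eq n f _ (InjectiveResolution.desc_commutes f Q P),
      F.rightDerived_map_eq n g _ (InjectiveResolution.desc_commutes g Q P)]
    simp only [Functor.comp_map, Functor.map_add, Preadditive.add_comp, Preadditive.comp_add]

/-- `R⁰F` is left exact. -/
theorem preservesFiniteLimits_rightDerived_zero : PreservesFiniteLimits (F.rightDerived 0) := by
  have := additive_rightDerived F 0
  refine ((Functor.preservesFiniteLimits_tfae (F.rightDerived 0)).out 0 3).1 fun S hS => ?_
  obtain ⟨δ, w₁, w₂, w₃, e₁, -, -⟩ := exists_les (F := F) hS 0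
  obtain ⟨δ', w₁', w₂', w₃', -, -, e₃⟩ := exists_les (F := F) hS (-1)
  have hm : Mono ((HRF F (-1 + 1)).map S.f) :=
    e₃.mono_g ((isZero_HRF_of_neg F S.X₃ (-1) (by lia)).eq_of_src _ _)
  have hm' : Mono ((HRF F 0).map S.f) := hm
  refine ⟨(ShortComplex.exact_iff_of_iso (ShortComplex.isoMk ((HRFNatIso F 0).app S.X₁)
    ((HRFNatIso F 0).app S.X₂) ((HRFNatIso F 0).app S.X₃) ((HRFNatIso F 0).hom.naturality S.f).symm
    ((HRFNatIso F 0).hom.naturality S.g).symm)).1 e₁, ?_⟩
  exact ((MorphismProperty.monomorphisms D).arrow_mk_iso_iff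
    (((Functor.mapArrowFunctor _ _).mapIso (HRFNatIso F 0)).app (Arrow.mk S.f))).1 hm'

variable [PreservesFiniteLimits F]

/-- Right acyclic objects, for a left exact functor. -/
lemma isIso_η_sg_iff_of_leftExact (X : C) :
    IsIso ((η F).app (sg.obj X)) ↔ ∀ i : ℕ, 0 < i → IsZero ((F.rightDerived i).obj X) := by
  rw [isIso_η_sg_iff]
  exact ⟨fun h => h.2, fun h => ⟨inferInstance, h⟩⟩

variable {F}

lemma shortExact_map_of_acyclic {S : ShortComplex C} (hS : S.ShortExact)
    (h₁ : IsZero ((F.rightDerived 1).obj S.X₁)) : (S.map F).ShortExact := by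
  refine { exact := hS.exact.map_of_mono_of_preservesKernel _ hS.mono_f inferInstance
           mono_f := have := hS.mono_f; F.map_mono _
           epi_g := ?_ }
  obtain ⟨δ, w₁, w₂, w₃, -, e₂, -⟩ := exists_les (F := F) hS 0
  have : Epi ((HRF F 0).map S.g) :=
    e₂.epi_f ((h₁.of_iso ((HRFNatIso F 1).app S.X₁)).eq_of_tgt _ _)
  exact ((MorphismProperty.epimorphisms D).arrow_mk_iso_iff
    (((Functor.mapArrowFunctor _ _).mapIso (HRFNatIso F 0 ≪≫ F.rightDerivedZeroIsoSelf)).app
      (Arrow.mk S.g))).1 this

end Groth.Agent.Lib.DerCat.RFObj
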