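import Mathlib.CategoryTheory.Limits.Constructions.Filtered
import Mathlib.CategoryTheory.Limits.Preserves.Shapes.Products
import Mathlib.CategoryTheory.Limits.Preserves.Filtered

/-!
# Coproducts as filtered colimits of finite coproducts, for preservation
-/

universe w v u v' u'

open CategoryTheory CategoryTheory.Limits

namespace Groth.Agent.Lib.DerCat.PresCoprod

open CoproductsFromFiniteFiltered

variable {C : Type u} [Category.{v} C] {D : Type u'} [Category.{v'} D] [HasFiniteCoproducts C]
  (F : C ⥤ D) [PreservesFiniteCoproducts F]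

theorem preservesColimitsOfShape_discrete (α : Type w)
    [HasColimitsOfShape (Finset (Discrete α)) C] [HasColimitsOfShape (Discrete α) C]
    [PreservesColimitsOfShape (Finset (Discrete α)) F] :
    PreservesColimitsOfShape (Discrete α) F := by
  suffices key : ∀ f : α → C, PreservesColimit (Discrete.functor f) F from
    ⟨fun {G} => have := key fun a => G.obj ⟨a⟩
      preservesColimit_of_iso_diagram F Discrete.natIsoFunctor.symm⟩
  intro f
  refine preservesColimit_of_preserves_colimit_cocone (coproductIsCoproduct f)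
    ((isColimitMapCoconeCofanMkEquiv _ _ _).symm ?_)
  let hc := isColimitOfPreserves F (isColimitFiniteSubproductsCocone f)
  let hS : ∀ S : Finset (Discrete α), IsColimit (Cofan.mk (F.obj (∐ fun x : S => f x.1.as))
      fun x => F.map (Sigma.ι (fun x : S => f x.1.as) x)) :=
    fun S => isColimitCofanMkObjOfIsColimit F _ _ (coproductIsCoproduct _)
  let cc : ∀ s : Cofan fun a => F.obj (f a), Cocone (liftToFinsetObj (Discrete.functor f) ⋙ F) :=
    fun s =>
    { pt := s.pt
      ι := { app := fun S => Cofan.IsColimit.desc (hS S) fun x => s.inj x.1.as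
             naturality := fun S T h => Cofan.IsColimit.hom_ext (hS S) _ _ fun x => by
              change F.map (Sigma.ι (fun x : S => f x.1.as) x) ≫
                (F.map (Sigma.desc fun y => Sigma.ι (fun z : T => f z.1.as) ⟨y, h.down.down y.2⟩) ≫
                  Cofan.IsColimit.desc (hS T) fun x => s.inj x.1.as) =
                F.map (Sigma.ι (fun x : S => f x.1.as) x) ≫
                  ((Cofan.IsColimit.desc (hS S) fun x => s.inj x.1.as) ≫ 𝟙 s.pt)
              rw [← F.map_comp_assoc, Sigma.ι_desc, Category.comp_id]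
              erw [Cofan.IsColimit.fac (hS T), Cofan.IsColimit.fac (hS S)] } }
  refine Cofan.IsColimit.mk _ (fun s => hc.desc (cc s)) (fun s a => ?_) (fun s m hm => ?_)
  · have e : Sigma.ι (fun x : ({⟨a⟩} : Finset (Discrete α)) => f x.1.as) ⟨⟨a⟩, by simp⟩ ≫
        (finiteSubcoproductsCocone f).ι.app {⟨a⟩} = Sigma.ι f a := Sigma.ι_desc _ _
    change F.map (Sigma.ι f a) ≫ hc.desc (cc s) = s.inj a
    exact (congrArg (fun t => F.map t ≫ hc.desc (cc s)) e.symm).trans
      (((congrArg (· ≫ hc.desc (cc s)) (F.map_comp _ _)).trans (Category.assoc _ _ _)).trans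
        ((congrArg (F.map _ ≫ ·) (hc.fac (cc s) _)).trans (Cofan.IsColimit.fac (hS _) _ _)))
  · refine hc.hom_ext fun S => ?_
    rw [hc.fac]
    refine Cofan.IsColimit.hom_ext (hS S) _ _ fun x => ?_
    erw [Cofan.IsColimit.fac (hS S)]
    rw [← hm x.1.as]
    change F.map (Sigma.ι (fun x : S => f x.1.as) x) ≫
      F.map ((finiteSubcoproductsCocone f).ι.app S) ≫ m = F.map (Sigma.ι f x.1.as) ≫ m
    rw [← F.map_comp_assoc]
    congr 2
    exact Sigma.ι_desc _ _

end Groth.Agent.Lib.DerCat.PresCoprod
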