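import Mathlib.Algebra.Homology.HomotopyCategory
import Mathlib.Algebra.Homology.HomologicalComplexLimits
import Mathlib.CategoryTheory.Monad.Limits
import Groth.Agent.Lib.DerivedOX.RightDerived

/-!
# Products and coproducts in homotopy categories and derived categories

`K(C)` has the products and coproducts of `C`; if there are enough K-injective complexes, so has
`D(C)`, being a reflective subcategory of `K(C)`.
-/

universe w v u t

open CategoryTheory CategoryTheory.Limits

namespace Groth.Agent.Lib.DerCat.HProd

variable {C : Type u} [Category.{v} C] [Abelian C] {ι : Type*} {c : ComplexShape ι}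
  {J : Type t}

section

variable [HasColimitsOfShape (Discrete J) C] (K : J → HomologicalComplex C c)

lemma hom_ext_f {a : ι} {W : C} {f g : (∐ K).X a ⟶ W}
    (h : ∀ j, (Sigma.ι K j).f a ≫ f = (Sigma.ι K j).f a ≫ g) : f = g :=
  (isColimitOfPreserves (HomologicalComplex.eval C c a) (coproductIsCoproduct K)).hom_ext
    fun j => h j.as

/-- A map out of a term of a coproduct. -/
noncomputable def descX {a : ι} {W : C} (φ : ∀ j, (K j).X a ⟶ W) : (∐ K).X a ⟶ W :=
  (isColimitOfPreserves (HomologicalComplex.eval C c a) (coproductIsCoproduct K)).desc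
    { pt := W, ι := Discrete.natTrans fun j => φ j.as }

lemma ι_descX {a : ι} {W : C} (φ : ∀ j, (K j).X a ⟶ W) (j : J) :
    (Sigma.ι K j).f a ≫ descX K φ = φ j :=
  (isColimitOfPreserves (HomologicalComplex.eval C c a) (coproductIsCoproduct K)).fac _ ⟨j⟩

/-- A homotopy out of a coproduct from homotopies on the summands. -/
noncomputable def homotopyDesc {L : HomologicalComplex C c} (f g : ∐ K ⟶ L)
    (h : ∀ j, Homotopy (Sigma.ι K j ≫ f) (Sigma.ι K j ≫ g)) : Homotopy f g where
  hom a b := descX K fun j => (h j).hom a b
  zero a b hab := hom_ext_f K fun j => by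
    rw [comp_zero, ι_descX]
    exact (h j).zero a b hab
  comm a := hom_ext_f K fun j => by
    have hc := (h j).comm a
    simp only [HomologicalComplex.comp_f] at hc
    rw [hc, Preadditive.comp_add, Preadditive.comp_add]
    congr 2
    · simp only [dNext, AddMonoidHom.mk'_apply]
      rw [← Category.assoc, HomologicalComplex.Hom.comm, Category.assoc, ι_descX]
    · simp only [prevD, AddMonoidHom.mk'_apply]
      rw [← Category.assoc, ι_descX]

/-- The coproduct of complexes is a coproduct in the homotopy category. -/
noncomputable def isColimitCofan : IsColimit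
    (Cofan.mk ((HomotopyCategory.quotient C c).obj (∐ K))
      fun j => (HomotopyCategory.quotient C c).map (Sigma.ι K j)) :=
  Cofan.IsColimit.mk _
    (fun s => (HomotopyCategory.quotient C c).map (Y := s.pt.as)
      (Sigma.desc fun j => Quot.out (s.inj j)))
    (fun s j => by
      refine (((HomotopyCategory.quotient C c).map_comp _ _).symm.trans ?_)
      rw [Sigma.ι_desc]
      exact HomotopyCategory.quotient_map_out (s.inj j))
    (fun s m hm => by
      obtain ⟨m, rfl⟩ := (HomotopyCategory.quotient C c).map_surjective (Y := s.pt.as) m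
      refine HomotopyCategory.eq_of_homotopy _ _ (homotopyDesc K _ _ fun j =>
        HomotopyCategory.homotopyOfEq _ _ ?_)
      rw [Sigma.ι_desc, (HomotopyCategory.quotient C c).map_comp]
      exact (hm j).trans (HomotopyCategory.quotient_map_out (s.inj j)).symm)

end

section

variable [HasLimitsOfShape (Discrete J) C] (K : J → HomologicalComplex C c)

lemma hom_ext_f' {a : ι} {W : C} {f g : W ⟶ (∏ᶜ K).X a}
    (h : ∀ j, f ≫ (Pi.π K j).f a = g ≫ (Pi.π K j).f a) : f = g :=
  (isLimitOfPreserves (HomologicalComplex.eval C c a) (productIsProduct K)).hom_ext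
    fun j => h j.as

/-- A map into a term of a product. -/
noncomputable def liftX {a : ι} {W : C} (φ : ∀ j, W ⟶ (K j).X a) : W ⟶ (∏ᶜ K).X a :=
  (isLimitOfPreserves (HomologicalComplex.eval C c a) (productIsProduct K)).lift
    { pt := W, π := Discrete.natTrans fun j => φ j.as }

lemma liftX_π {a : ι} {W : C} (φ : ∀ j, W ⟶ (K j).X a) (j : J) :
    liftX K φ ≫ (Pi.π K j).f a = φ j :=
  (isLimitOfPreserves (HomologicalComplex.eval C c a) (productIsProduct K)).fac _ ⟨j⟩

/-- A homotopy into a product from homotopies to the factors. -/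
noncomputable def homotopyLift {L : HomologicalComplex C c} (f g : L ⟶ ∏ᶜ K)
    (h : ∀ j, Homotopy (f ≫ Pi.π K j) (g ≫ Pi.π K j)) : Homotopy f g where
  hom a b := liftX K fun j => (h j).hom a b
  zero a b hab := hom_ext_f' K fun j => by
    rw [zero_comp, liftX_π]
    exact (h j).zero a b hab
  comm a := hom_ext_f' K fun j => by
    have hc := (h j).comm a
    simp only [HomologicalComplex.comp_f] at hc
    rw [hc, Preadditive.add_comp, Preadditive.add_comp]
    congr 2
    · simp only [dNext, AddMonoidHom.mk'_apply, Category.assoc]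
      rw [liftX_π]
    · simp only [prevD, AddMonoidHom.mk'_apply, Category.assoc]
      rw [← HomologicalComplex.Hom.comm, ← Category.assoc, liftX_π]

/-- The product of complexes is a product in the homotopy category. -/
noncomputable def isLimitFan : IsLimit
    (Fan.mk ((HomotopyCategory.quotient C c).obj (∏ᶜ K))
      fun j => (HomotopyCategory.quotient C c).map (Pi.π K j)) :=
  Fan.IsLimit.mk _
    (fun s => (HomotopyCategory.quotient C c).map (X := s.pt.as)
      (Pi.lift fun j => Quot.out (s.proj j)))
    (fun s j => by
      refine (((HomotopyCategory.quotient C c).map_comp _ _).symm.trans ?_)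
      rw [Pi.lift_π]
      exact HomotopyCategory.quotient_map_out (s.proj j))
    (fun s m hm => by
      obtain ⟨m, rfl⟩ := (HomotopyCategory.quotient C c).map_surjective (X := s.pt.as) m
      refine HomotopyCategory.eq_of_homotopy _ _ (homotopyLift K _ _ fun j =>
        HomotopyCategory.homotopyOfEq _ _ ?_)
      rw [Pi.lift_π, (HomotopyCategory.quotient C c).map_comp]
      exact (hm j).trans (HomotopyCategory.quotient_map_out (s.proj j)).symm)

end

theorem hasColimitsOfShape_homotopyCategory [HasColimitsOfShape (Discrete J) C] :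
    HasColimitsOfShape (Discrete J) (HomotopyCategory C c) where
  has_colimit F :=
    have : HasColimit (Discrete.functor fun j => (HomotopyCategory.quotient C c).obj
        ((fun j => (F.obj ⟨j⟩).as) j)) := ⟨⟨⟨_, isColimitCofan fun j => (F.obj ⟨j⟩).as⟩⟩⟩
    hasColimit_of_iso (Discrete.natIso (G := Discrete.functor fun j =>
      (HomotopyCategory.quotient C c).obj (F.obj ⟨j⟩).as) fun j => Iso.refl (F.obj j))

theorem hasLimitsOfShape_homotopyCategory [HasLimitsOfShape (Discrete J) C] :
    HasLimitsOfShape (Discrete J) (HomotopyCategory C c) where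
  has_limit F :=
    have : HasLimit (Discrete.functor fun j => (HomotopyCategory.quotient C c).obj
        ((fun j => (F.obj ⟨j⟩).as) j)) := ⟨⟨⟨_, isLimitFan fun j => (F.obj ⟨j⟩).as⟩⟩⟩
    hasLimit_of_iso (Discrete.natIso (F := Discrete.functor fun j =>
      (HomotopyCategory.quotient C c).obj (F.obj ⟨j⟩).as) fun j => Iso.refl (F.obj j))

section DerivedCategory

open Groth.Agent.Lib.DerivedOX.RightDerived

variable [HasDerivedCategory.{w} C] [(DerivedCategory.Qh (C := C)).IsLeftAdjoint]

theorem isIso_counit (d : DerivedCategory C) : IsIso ((resAdj C).counit.app d) := by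
  obtain ⟨I, hI, ⟨e⟩⟩ := exists_resFunctor_obj_iso d
  set ε := (resAdj C).counit.app d
  have hinj : ∀ (X : HomotopyCategory C (.up ℤ))
      (u : DerivedCategory.Qh.obj X ⟶ DerivedCategory.Qh.obj ((resFunctor C).obj d)),
      ∃ u' : X ⟶ (resFunctor C).obj d, DerivedCategory.Qh.map u' = u := fun X u => by
    obtain ⟨u', hu'⟩ := (CochainComplex.IsKInjective.Qh_map_bijective X I).2
      (u ≫ DerivedCategory.Qh.map e.inv)
    exact ⟨u' ≫ e.hom, by rw [Functor.map_comp, hu', Category.assoc, ← Functor.map_comp,
      e.inv_hom_id, DerivedCategory.Qh.map_id, Category.comp_id]⟩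
  have hmono : ∀ {W : DerivedCategory C} (u u' : W ⟶ DerivedCategory.Qh.obj ((resFunctor C).obj d)),
      u ≫ ε = u' ≫ ε → u = u' := fun {W} u u' h => by
    let φ := DerivedCategory.Qh.objObjPreimageIso W
    rw [← cancel_epi φ.hom]
    obtain ⟨a, ha⟩ := hinj _ (φ.hom ≫ u)
    obtain ⟨b, hb⟩ := hinj _ (φ.hom ≫ u')
    have : a = b := ((resAdj C).homEquiv _ _).symm.injective (by
      rw [Adjunction.homEquiv_counit, Adjunction.homEquiv_counit, ha, hb, Category.assoc,
        Category.assoc, h])
    rw [← ha, ← hb, this]
  let φ := DerivedCategory.Qh.objObjPreimageIso d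
  let g := φ.inv ≫ DerivedCategory.Qh.map ((resAdj C).homEquiv _ _ φ.hom)
  have hg : g ≫ ε = 𝟙 d := by
    have := ((resAdj C).homEquiv _ _).symm_apply_apply φ.hom
    rw [Adjunction.homEquiv_counit] at this
    simp only [g, ε, Category.assoc, this, Iso.inv_hom_id]
  exact ⟨g, hmono _ _ (by rw [Category.assoc, hg]; simp), hg⟩

/-- The resolution functor makes `D(C)` a reflective subcategory of `K(C)`. -/
noncomputable abbrev reflective : Reflective (resFunctor C) :=
  have : ∀ d, IsIso ((resAdj C).counit.app d) := isIso_counit
  have : IsIso (resAdj C).counit := NatIso.isIso_of_isIso_app _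
  have h := (resAdj C).fullyFaithfulROfIsIsoCounit
  { L := DerivedCategory.Qh, adj := resAdj C, toFull := h.full, toFaithful := h.faithful }

theorem hasColimitsOfShape_derivedCategory [HasColimitsOfShape (Discrete J) C] :
    HasColimitsOfShape (Discrete J) (DerivedCategory C) :=
  letI := reflective (C := C)
  haveI : HasColimitsOfShape (Discrete J) (HomotopyCategory C (ComplexShape.up ℤ)) :=
    hasColimitsOfShape_homotopyCategory
  hasColimitsOfShape_of_reflective (resFunctor C)

theorem hasLimitsOfShape_derivedCategory [HasLimitsOfShape (Discrete J) C] :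
    HasLimitsOfShape (Discrete J) (DerivedCategory C) :=
  letI := reflective (C := C)
  haveI : HasLimitsOfShape (Discrete J) (HomotopyCategory C (ComplexShape.up ℤ)) :=
    hasLimitsOfShape_homotopyCategory
  hasLimitsOfShape_of_reflective (resFunctor C)

end DerivedCategory

end Groth.Agent.Lib.DerCat.HProd
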