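import Groth.Agent.Lib.DerCat.SeqColim
import Groth.Agent.Lib.DerCat.HProd
import Mathlib.Algebra.Homology.DerivedCategory.ShortExact
import Mathlib.Algebra.Homology.Embedding.CochainComplex
import Mathlib.CategoryTheory.Limits.Constructions.EventuallyConstant
import Mathlib.Algebra.Homology.GrothendieckAbelian
import Groth.Prelude.Def_DerLim

/-!
# Sequential colimits of complexes are homotopy colimits in the derived category
-/

universe w v u t

open CategoryTheory CategoryTheory.Limits CategoryTheory.Pretriangulated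

namespace Groth.Agent.Lib.DerCat.HocolimQ

variable {A : Type u} [Category.{v} A] [Abelian A]

/-- A degreewise eventually constant cocone is a colimit. -/
noncomputable def isColimitOfEventually (F : ℕ ⥤ CochainComplex A ℤ) (c : Cocone F)
    (h : ∀ i : ℤ, ∃ n₀ : ℕ, ∀ n, n₀ ≤ n → IsIso ((c.ι.app n).f i)) : IsColimit c :=
  HomologicalComplex.isColimitOfEval _ _ fun i => by
    choose n₀ hn₀ using h
    have hF : (F ⋙ HomologicalComplex.eval A _ i).IsEventuallyConstantFrom (n₀ i) := by
      intro n φ
      have e := congrArg (fun f => f.f i) (c.w φ)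
      dsimp at e
      have := hn₀ i n (leOfHom φ)
      have := hn₀ i (n₀ i) le_rfl
      have : IsIso ((F.map φ).f i ≫ (c.ι.app n).f i) := by rw [e]; infer_instance
      exact @IsIso.of_isIso_comp_right _ _ _ _ _ _ ((c.ι.app n).f i) (hn₀ i n (leOfHom φ)) this
    have : IsIso (((HomologicalComplex.eval A (ComplexShape.up ℤ) i).mapCocone c).ι.app (n₀ i)) :=
      hn₀ i (n₀ i) le_rfl
    exact hF.isColimitOfIsIso _

variable [HasDerivedCategory.{w} A]

/-- The localization functor preserves coproducts, if `Qh` is a left adjoint. -/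
theorem preservesColimitsOfShape_Q (J : Type t) [HasColimitsOfShape (Discrete J) A]
    [(DerivedCategory.Qh (C := A)).IsLeftAdjoint] :
    PreservesColimitsOfShape (Discrete J) (DerivedCategory.Q (C := A)) := by
  suffices key : ∀ X : J → CochainComplex A ℤ,
      PreservesColimit (Discrete.functor X) (DerivedCategory.Q (C := A)) from
    ⟨fun {G} => have := key fun a => G.obj ⟨a⟩
      preservesColimit_of_iso_diagram _ Discrete.natIsoFunctor.symm⟩
  intro X
  exact preservesColimit_of_preserves_colimit_cocone (coproductIsCoproduct X)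
    ((isColimitMapCoconeCofanMkEquiv _ _ _).symm
      (isColimitCofanMkObjOfIsColimit DerivedCategory.Qh _ _ (HProd.isColimitCofan X)))

variable [HasColimitsOfShape ℕ A] [HasExactColimitsOfShape ℕ A]
  [HasColimitsOfShape (Discrete ℕ) A] [(DerivedCategory.Qh (C := A)).IsLeftAdjoint]
  [HasColimitsOfShape (Discrete ℕ) (DerivedCategory A)]

theorem isHocolim (F : ℕ ⥤ CochainComplex A ℤ) (c : Cocone F) (hc : IsColimit c) :
    DerLim.IsHocolim (fun n => DerivedCategory.Q.obj (F.obj n))
      (fun n => DerivedCategory.Q.map (F.map (homOfLE (Nat.le_succ n))))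
      (DerivedCategory.Q.obj c.pt) (fun n => DerivedCategory.Q.map (c.ι.app n)) := by
  have := preservesColimitsOfShape_Q (A := A) ℕ
  obtain ⟨w, hS⟩ := SeqColim.shortExact_coproduct_colimit F
  let e : colimit F ≅ c.pt := (colimit.isColimit F).coconePointUniqueUpToIso hc
  let q : ∐ (fun n => DerivedCategory.Q.obj (F.obj n)) ≅ DerivedCategory.Q.obj (∐ F.obj) :=
    (PreservesCoproduct.iso DerivedCategory.Q F.obj).symm
  have hq : ∀ n, Sigma.ι (fun n => DerivedCategory.Q.obj (F.obj n)) n ≫ q.hom =
      DerivedCategory.Q.map (Sigma.ι F.obj n) := fun n => by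
    simp [q, PreservesCoproduct.inv_hom]
  have hT := DerivedCategory.triangleOfSES_distinguished hS
  refine ⟨DerivedCategory.Q.map e.inv ≫ DerivedCategory.triangleOfSESδ hS ≫ q.inv⟦(1 : ℤ)⟧', ?_⟩
  refine isomorphic_distinguished _ hT _
    (Triangle.isoMk _ _ q q (DerivedCategory.Q.mapIso e.symm) ?_ ?_ ?_)
  · change (𝟙 _ - DerLim.shiftMap _ _) ≫ q.hom = q.hom ≫ DerivedCategory.Q.map (𝟙 _ - SeqColim.sh F)
    refine Sigma.hom_ext _ _ fun n => ?_
    rw [← Category.assoc, Preadditive.comp_sub, Category.comp_id, DerLim.shiftMap, Sigma.ι_desc,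
      Preadditive.sub_comp, Category.assoc, hq, hq, ← Category.assoc, hq, ← Functor.map_comp,
      ← Functor.map_comp, ← Functor.map_sub]
    congr 1
    rw [Preadditive.comp_sub, Category.comp_id, SeqColim.ι_sh]
  · change Sigma.desc _ ≫ DerivedCategory.Q.map e.inv =
      q.hom ≫ DerivedCategory.Q.map (Sigma.desc fun n => colimit.ι F n)
    refine Sigma.hom_ext _ _ fun n => ?_
    rw [← Category.assoc, Sigma.ι_desc, ← Category.assoc, hq, ← Functor.map_comp,
      ← Functor.map_comp, Sigma.ι_desc]
    congr 1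
    exact IsColimit.comp_coconePointUniqueUpToIso_inv _ _ _
  · change (DerivedCategory.Q.map e.inv ≫ DerivedCategory.triangleOfSESδ hS ≫ q.inv⟦(1 : ℤ)⟧') ≫
      q.hom⟦(1 : ℤ)⟧' = DerivedCategory.Q.map e.inv ≫ DerivedCategory.triangleOfSESδ hS
    rw [Category.assoc, Category.assoc, ← Functor.map_comp, q.inv_hom_id,
      CategoryTheory.Functor.map_id, Category.comp_id]

section TruncLE

variable (K : CochainComplex A ℤ)

/-- The transition map between canonical truncations. -/
noncomputable def truncTrans {m m' : ℤ} (h : m ≤ m') : K.truncLE m ⟶ K.truncLE m' :=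
  haveI := (K.truncLE m).isStrictlyLE_of_le m m' h
  inv ((K.truncLE m).ιTruncLE m') ≫ CochainComplex.truncLEMap (K.ιTruncLE m) m'

omit [HasColimitsOfShape ℕ A] [HasExactColimitsOfShape ℕ A] [HasColimitsOfShape (Discrete ℕ) A]
  [(DerivedCategory.Qh (C := A)).IsLeftAdjoint]
  [HasColimitsOfShape (Discrete ℕ) (DerivedCategory A)] in
lemma truncTrans_ι {m m' : ℤ} (h : m ≤ m') : truncTrans K h ≫ K.ιTruncLE m' = K.ιTruncLE m := by
  have := (K.truncLE m).isStrictlyLE_of_le m m' h
  rw [truncTrans, Category.assoc, IsIso.inv_comp_eq]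
  exact CochainComplex.ιTruncLE_naturality (K.ιTruncLE m) m'

/-- The sequence of canonical truncations. -/
noncomputable abbrev truncSeq : ℕ ⥤ CochainComplex A ℤ :=
  Functor.ofSequence (X := fun n : ℕ => K.truncLE (n : ℤ))
    (fun n => truncTrans K (show (n : ℤ) ≤ ((n + 1 : ℕ) : ℤ) by omega))

/-- The cocone of canonical truncations. -/
noncomputable def truncCocone : Cocone (truncSeq K) :=
  ⟨K, NatTrans.ofSequence (fun n => K.ιTruncLE (n : ℤ)) fun n => by
    simp only [Functor.ofSequence_map_homOfLE_succ, Functor.const_obj_map, Category.comp_id]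
    exact (truncTrans_ι K _).trans (Category.comp_id _).symm⟩

omit [HasColimitsOfShape ℕ A] [HasExactColimitsOfShape ℕ A] [HasColimitsOfShape (Discrete ℕ) A]
  [(DerivedCategory.Qh (C := A)).IsLeftAdjoint]
  [HasColimitsOfShape (Discrete ℕ) (DerivedCategory A)] in
lemma isIso_ιTruncLE_f {m i : ℤ} (h : i < m) : IsIso ((K.ιTruncLE m).f i) := by
  let e := ComplexShape.embeddingUpIntLE m
  obtain ⟨k, rfl⟩ : ∃ k : ℕ, i = m - k := ⟨(m - i).toNat, by omega⟩
  have : ¬ e.BoundaryLE k := by
    rw [ComplexShape.boundaryLE_embeddingUpIntLE_iff]; omega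
  change IsIso (((HomologicalComplex.πTruncGE K.op e.op).f (m - k)).unop)
  have hk : e.op.f k = m - (k : ℤ) := rfl
  have : IsIso ((HomologicalComplex.πTruncGE K.op e.op).f (m - k)) := by
    change IsIso ((e.op.liftExtend (K.op.restrictionToTruncGE' e.op)
      (K.op.restrictionToTruncGE'_hasLift e.op)).f _)
    rw [e.op.isIso_liftExtend_f_iff _ _ hk]
    exact K.op.isIso_restrictionToTruncGE' e.op k (by simpa using this)
  infer_instance

theorem isHocolim_trunc :
    DerLim.IsHocolim (fun n : ℕ => DerivedCategory.Q.obj (K.truncLE (n : ℤ)))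
      (fun n => DerivedCategory.Q.map ((truncSeq K).map (homOfLE (Nat.le_succ n))))
      (DerivedCategory.Q.obj K) (fun n => DerivedCategory.Q.map (K.ιTruncLE (n : ℤ))) :=
  isHocolim (truncSeq K) (truncCocone K)
    (isColimitOfEventually _ _ fun i => ⟨(i + 1).toNat, fun n hn => isIso_ιTruncLE_f K (by omega)⟩)

end TruncLE

end Groth.Agent.Lib.DerCat.HocolimQ
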