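import Groth.Agent.Lib.DerCat.RFObj
import Mathlib.Algebra.Homology.HomotopyCategory.MappingCone

/-!
# Bounded below complexes of acyclic objects compute the derived functor
-/

universe w w' v v' u u'

open CategoryTheory CategoryTheory.Limits

namespace Groth.Agent.Lib.DerCat.RFAcyclic

open RFPlus RFObj

variable {C : Type u} [Category.{v} C] [Abelian C] [EnoughInjectives C]
  {D : Type u'} [Category.{v'} D] [Abelian D] (F : C ⥤ D) [F.Additive]

/-- An object with vanishing higher derived functors. -/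
def Acyc (X : C) : Prop := ∀ i : ℕ, 0 < i → IsZero ((F.rightDerived i).obj X)

lemma acyc_of_iso {X Y : C} (e : X ≅ Y) (h : Acyc F X) : Acyc F Y :=
  fun i hi => (h i hi).of_iso ((F.rightDerived i).mapIso e.symm)

lemma acyc_injective (X : C) [Injective X] : Acyc F X := fun i hi => by
  obtain ⟨j, rfl⟩ : ∃ j, i = j + 1 := ⟨i - 1, by lia⟩
  exact F.isZero_rightDerived_obj_injective_succ j X

lemma acyc_of_isZero {X : C} (h : IsZero X) : Acyc F X :=
  have := h.injective
  acyc_injective F X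

lemma acyc_biprod {X Y : C} (h : Acyc F X) (h' : Acyc F Y) : Acyc F (X ⊞ Y) := fun i hi => by
  have := additive_rightDerived F i
  have : PreservesBinaryBiproduct X Y (F.rightDerived i) :=
    preservesBinaryBiproduct_of_preservesBiproduct _ _ _
  exact ((biprod_isZero_iff _ _).2 ⟨h i hi, h' i hi⟩).of_iso ((F.rightDerived i).mapBiprod X Y)

section

variable [HasDerivedCategory.{w} C] [HasDerivedCategory.{w'} D] {F}

lemma acyc_X₂ {S : ShortComplex C} (hS : S.ShortExact) (h₁ : Acyc F S.X₁) (h₃ : Acyc F S.X₃) :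
    Acyc F S.X₂ := fun i hi => by
  obtain ⟨δ, w₁, w₂, w₃, e, -, -⟩ := exists_les (F := F) hS (i : ℤ)
  exact (e.isZero_X₂ (((h₁ i hi).of_iso ((HRFNatIso F i).app S.X₁)).eq_of_src _ _)
    (((h₃ i hi).of_iso ((HRFNatIso F i).app S.X₃)).eq_of_tgt _ _)).of_iso
      ((HRFNatIso F i).app S.X₂).symm

lemma acyc_X₃ {S : ShortComplex C} (hS : S.ShortExact) (h₁ : Acyc F S.X₁) (h₂ : Acyc F S.X₂) :
    Acyc F S.X₃ := fun i hi => by
  obtain ⟨δ, w₁, w₂, w₃, -, e, -⟩ := exists_les (F := F) hS (i : ℤ)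
  exact (e.isZero_X₂ (((h₂ i hi).of_iso ((HRFNatIso F i).app S.X₂)).eq_of_src _ _)
    (((h₁ (i + 1) (by lia)).of_iso ((HRFNatIso F (i + 1)).app S.X₁)).eq_of_tgt _ _)).of_iso
      ((HRFNatIso F i).app S.X₃).symm

lemma acyc_X₁ [PreservesFiniteLimits F] {S : ShortComplex C} (hS : S.ShortExact)
    (h₂ : Acyc F S.X₂) (h₃ : Acyc F S.X₃) (hg : Epi (F.map S.g)) : Acyc F S.X₁ := fun i hi => by
  obtain ⟨j, rfl⟩ : ∃ j, i = j + 1 := ⟨i - 1, by lia⟩
  obtain ⟨δ, w₁, w₂, w₃, -, e₂, e₃⟩ := exists_les (F := F) hS (j : ℤ)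
  have hδ : δ = 0 := by
    by_cases hj : j = 0
    · subst hj
      have : Epi ((HRF F ((0 : ℕ) : ℤ)).map S.g) :=
        ((MorphismProperty.epimorphisms D).arrow_mk_iso_iff
          (((Functor.mapArrowFunctor _ _).mapIso (HRFNatIso F 0 ≪≫ F.rightDerivedZeroIsoSelf)).app
            (Arrow.mk S.g))).2 hg
      exact (cancel_epi ((HRF F ((0 : ℕ) : ℤ)).map S.g)).1 (w₂.trans comp_zero.symm)
    · exact ((h₃ j (by lia)).of_iso ((HRFNatIso F j).app S.X₃)).eq_of_src _ _
  exact (e₃.isZero_X₂ hδ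
    (((h₂ (j + 1) (by lia)).of_iso ((HRFNatIso F (j + 1)).app S.X₂)).eq_of_tgt _ _)).of_iso
      ((HRFNatIso F (j + 1)).app S.X₁).symm

end

/-- The short exact sequence of cycles of an acyclic complex. -/
noncomputable abbrev cycSeq (N : CochainComplex C ℤ) (i : ℤ) : ShortComplex C :=
  ShortComplex.mk (N.iCycles i) (N.toCycles i (i + 1))
    (by rw [← cancel_mono (N.iCycles (i + 1)), Category.assoc, HomologicalComplex.toCycles_i,
      HomologicalComplex.iCycles_d, zero_comp])

omit [EnoughInjectives C] in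
lemma cycSeq_shortExact (N : CochainComplex C ℤ) (hN : N.Acyclic) (i : ℤ) :
    (cycSeq N i).ShortExact := by
  have : Epi (N.toCycles i (i + 1)) :=
    Preadditive.epi_of_isZero_cokernel' _ (N.homologyIsCokernel i (i + 1) (by simp))
      ((N.exactAt_iff_isZero_homology (i + 1)).1 (hN (i + 1)))
  refine ShortComplex.ShortExact.mk' ?_ inferInstance this
  let φ : cycSeq N i ⟶ ShortComplex.mk (N.iCycles i) (N.d i (i + 1)) (N.iCycles_d i (i + 1)) :=
    { τ₁ := 𝟙 _
      τ₂ := 𝟙 _
      τ₃ := N.iCycles (i + 1)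
      comm₁₂ := (Category.id_comp _).trans (Category.comp_id _).symm
      comm₂₃ := (Category.id_comp _).trans (N.toCycles_i i (i + 1)).symm }
  exact (ShortComplex.exact_iff_of_epi_of_isIso_of_mono φ).2
    (ShortComplex.exact_of_f_is_kernel _ (N.cyclesIsKernel i (i + 1) (by simp)))

variable [HasDerivedCategory.{w} C] [HasDerivedCategory.{w'} D] [PreservesFiniteLimits F]

/-- Acyclic bounded below complexes of acyclic objects stay acyclic after applying `F`. -/
lemma exactAt_map_of_acyclic (N : CochainComplex C ℤ) (a : ℤ) [N.IsStrictlyGE a]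
    (hN : N.Acyclic) (hX : ∀ k, Acyc F (N.X k)) (k : ℤ) :
    ((F.mapHomologicalComplex (.up ℤ)).obj N).ExactAt k := by
  have hz : ∀ j, j < a → Acyc F (N.cycles j) := fun j hj =>
    acyc_of_isZero F (IsZero.of_mono (N.iCycles _)
      (CochainComplex.isZero_of_isStrictlyGE N a _ hj))
  have hcyc : ∀ m : ℕ, Acyc F (N.cycles (a - 1 + m)) := fun m => by
    induction m with
    | zero => exact hz _ (by lia)
    | succ m ih =>
      have := acyc_X₃ (cycSeq_shortExact N hN (a - 1 + m)) ih (hX _)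
      rw [show a - 1 + ((m + 1 : ℕ) : ℤ) = a - 1 + m + 1 by lia]
      exact this
  have hcyc' : ∀ j, Acyc F (N.cycles j) := fun j => by
    by_cases hj : j < a
    · exact hz j hj
    · rw [show j = a - 1 + ((j - a + 1).toNat : ℤ) by lia]
      exact hcyc _
  obtain ⟨i, rfl⟩ : ∃ i : ℤ, k = i + 1 := ⟨k - 1, by lia⟩
  have := (shortExact_map_of_acyclic (cycSeq_shortExact N hN i) (hcyc' i 1 one_pos)).epi_g
  rw [HomologicalComplex.exactAt_iff' _ i (i + 1) (i + 2) (by simp) (by simp; lia)]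
  let ψ : ((F.mapHomologicalComplex (.up ℤ)).obj N).sc' i (i + 1) (i + 2) ⟶
      ShortComplex.mk (F.map (N.iCycles (i + 1))) (F.map (N.d (i + 1) (i + 2)))
        (by rw [← F.map_comp, HomologicalComplex.iCycles_d, F.map_zero]) :=
    { τ₁ := F.map (N.toCycles i (i + 1))
      τ₂ := 𝟙 _
      τ₃ := 𝟙 _
      comm₁₂ := ((F.map_comp _ _).symm.trans (congrArg F.map (N.toCycles_i i (i + 1)))).trans
        (Category.comp_id _).symm
      comm₂₃ := (Category.id_comp _).trans (Category.comp_id _).symm }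
  haveI : Epi ψ.τ₁ := this
  haveI : IsIso ψ.τ₂ := inferInstanceAs (IsIso (𝟙 _))
  haveI : Mono ψ.τ₃ := inferInstanceAs (Mono (𝟙 _))
  exact (ShortComplex.exact_iff_of_epi_of_isIso_of_mono ψ).2 (ShortComplex.exact_of_f_is_kernel _
    (KernelFork.mapIsLimit _ (N.cyclesIsKernel (i + 1) (i + 2) (by simp; lia)) F))

omit [EnoughInjectives C] [HasDerivedCategory C] in
/-- A morphism of cochain complexes is a quasi-isomorphism iff its cone is acyclic. -/
lemma quasiIso_iff_acyclic_mappingCone {A : Type*} [Category A] [Abelian A]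
    {K L : CochainComplex A ℤ} (f : K ⟶ L) :
    QuasiIso f ↔ (CochainComplex.mappingCone f).Acyclic := by
  rw [← HomotopyCategory.quotient_obj_mem_subcategoryAcyclic_iff_acyclic,
    ← HomologicalComplex.mem_quasiIso_iff, ← HomotopyCategory.quotient_map_mem_quasiIso_iff,
    HomotopyCategory.quasiIso_eq_trW_subcategoryAcyclic]
  exact (HomotopyCategory.subcategoryAcyclic A).trW_iff_of_distinguished _
    (HomotopyCategory.mappingCone_triangleh_distinguished f)

/-- **Leray's acyclicity lemma.** -/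
theorem isIso_η_of_acyclic (K : CochainComplex.Plus C) (hK : ∀ k, Acyc F (K.obj.X k)) :
    IsIso ((η F).app K) := by
  obtain ⟨K, n, hn⟩ := K
  obtain ⟨L, i, hL', hL, hqi⟩ :=
    CochainComplex.Plus.modelCategoryQuillen.exists_quasiIso_injective K n
  let L' : CochainComplex.Plus C := ⟨L, n, inferInstance⟩
  let i' : (⟨K, n, hn⟩ : CochainComplex.Plus C) ⟶ L' := ObjectProperty.homMk i
  have : QuasiIso i'.hom := inferInstanceAs (QuasiIso i)
  rw [isIso_η_iff_quasiIso F i' hL]
  have := CochainComplex.isStrictlyGE_mappingCone i n n (n - 1)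
  refine (quasiIso_iff_acyclic_mappingCone _).2 fun k => ?_
  refine HomologicalComplex.ExactAt.of_iso ?_
    (CochainComplex.mappingCone.mapHomologicalComplexIso i F)
  exact exactAt_map_of_acyclic F _ (n - 1) ((quasiIso_iff_acyclic_mappingCone i).1 inferInstance)
    (fun j => acyc_of_iso F
      (HomologicalComplex.homotopyCofiber.XIsoBiprod i j (j + 1) rfl).symm
      (acyc_biprod F (hK (j + 1)) (have := hL j; acyc_injective F (L.X j)))) k

end Groth.Agent.Lib.DerCat.RFAcyclic
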