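import Groth.Agent.Lib.DerCat.KInjLim
import Mathlib.Algebra.Homology.DerivedCategory.DerivabilityStructureInjectives
import Mathlib.Algebra.Homology.DerivedCategory.TStructure

/-!
# Products of objects with K-injective representatives in derived categories
-/

universe w v u t

open CategoryTheory CategoryTheory.Limits

namespace Groth.Agent.Lib.DerCat.ProdPlus

variable {A : Type u} [Category.{v} A] [Abelian A] [HasDerivedCategory.{w} A]

theorem hasProduct_of_kInjective {T : Type t} [HasLimitsOfShape (Discrete T) A]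
    (K : T → DerivedCategory A) (I : T → CochainComplex A ℤ) (hI : ∀ j, (I j).IsKInjective)
    (e : ∀ j, K j ≅ DerivedCategory.Qh.obj ((HomotopyCategory.quotient A _).obj (I j))) :
    HasProduct K := by
  have hP : (∏ᶜ I).IsKInjective := KInjLim.isKInjective_prod I hI
  have hlim := HProd.isLimitFan I
  have hb : ∀ (X : HomotopyCategory A (ComplexShape.up ℤ)) (J : CochainComplex A ℤ) [J.IsKInjective],
      Function.Bijective (DerivedCategory.Qh.map :
        (X ⟶ (HomotopyCategory.quotient A _).obj J) → _) := fun X J _ =>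
    CochainComplex.IsKInjective.Qh_map_bijective X J
  have ex : ∀ (W : DerivedCategory A) (j : T) (f : W ⟶ K j),
      ∃ g, DerivedCategory.Qh.map g = (DerivedCategory.Qh.objObjPreimageIso W).hom ≫ f ≫ (e j).hom :=
    fun W j f => (@hb _ (I j) (hI j)).2 _
  choose pre hpre using ex
  refine ⟨⟨⟨Fan.mk (DerivedCategory.Qh.obj ((HomotopyCategory.quotient A _).obj (∏ᶜ I)))
    fun j => DerivedCategory.Qh.map ((HomotopyCategory.quotient A _).map (Pi.π I j)) ≫ (e j).inv,
    Fan.IsLimit.mk _ (fun s => (DerivedCategory.Qh.objObjPreimageIso s.pt).inv ≫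
      DerivedCategory.Qh.map (Fan.IsLimit.lift hlim fun j => pre s.pt j (s.proj j)))
      (fun s j => ?_) (fun s m hm => ?_)⟩⟩⟩
  · simp only [fan_mk_proj, Category.assoc]
    rw [← DerivedCategory.Qh.map_comp_assoc]
    erw [Fan.IsLimit.fac hlim]
    rw [hpre]
    simp
  · rw [← cancel_epi (DerivedCategory.Qh.objObjPreimageIso s.pt).hom, Iso.hom_inv_id_assoc]
    obtain ⟨g, hg⟩ := (hb _ (∏ᶜ I)).2 ((DerivedCategory.Qh.objObjPreimageIso s.pt).hom ≫ m)
    rw [← hg]
    refine congrArg _ (Fan.IsLimit.hom_ext hlim _ _ fun j => ?_)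
    erw [Fan.IsLimit.fac hlim]
    apply (@hb _ (I j) (hI j)).1
    rw [hpre, DerivedCategory.Qh.map_comp, hg, ← cancel_mono (e j).inv]
    simp only [Category.assoc, Iso.hom_inv_id, Category.comp_id]
    rw [← hm j]
    rfl

lemma exists_kInjective [EnoughInjectives A] (K : DerivedCategory A) (a : ℤ) [K.IsGE a] :
    ∃ (I : CochainComplex A ℤ), I.IsKInjective ∧
      Nonempty (K ≅ DerivedCategory.Qh.obj ((HomotopyCategory.quotient A _).obj I)) := by
  obtain ⟨K', _, ⟨e⟩⟩ := K.exists_iso_Q_obj_of_isGE a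
  obtain ⟨L, i, _, _, _⟩ := CochainComplex.Plus.modelCategoryQuillen.exists_quasiIso_injective K' a
  exact ⟨L, CochainComplex.isKInjective_of_injective L a,
    ⟨e ≪≫ asIso (DerivedCategory.Q.map i) ≪≫ ((DerivedCategory.quotientCompQhIso A).app _).symm⟩⟩

theorem hasProduct_of_isGE [EnoughInjectives A] {T : Type t} [HasLimitsOfShape (Discrete T) A]
    (K : T → DerivedCategory A) (hK : ∀ j, ∃ a : ℤ, (K j).IsGE a) : HasProduct K := by
  choose a ha using hK
  choose I hI e using fun j => @exists_kInjective _ _ _ _ _ (K j) (a j) (ha j)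
  exact hasProduct_of_kInjective K I hI fun j => (e j).some

end Groth.Agent.Lib.DerCat.ProdPlus
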