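import Mathlib.CategoryTheory.Triangulated.Pretriangulated
import Mathlib.CategoryTheory.Triangulated.Yoneda
import Mathlib.CategoryTheory.Adjunction.Additive
import Mathlib.CategoryTheory.Limits.Preserves.Shapes.Products

/-!
# Compactness relative to a class of objects

`Fix P K`: every map from `K` to a direct sum of objects satisfying `P` is fixed by a finite cut.
The universe of the index types is independent of the one of the morphisms.
-/

universe w v v' u u'

open CategoryTheory CategoryTheory.Limits CategoryTheory.Pretriangulated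

namespace Groth.Agent.Lib.DerCat.FixCoprod

variable {D : Type u} [Category.{v} D] [Preadditive D]

section Cut

variable {ι : Type w} (X : ι → D) [HasCoproduct X]

open Classical in
/-- The idempotent of `∐ X` cutting out a finite set of summands. -/
noncomputable def cut (s : Finset ι) : (∐ X) ⟶ ∐ X :=
  Sigma.desc fun i => if i ∈ s then Sigma.ι X i else 0

open Classical in
lemma ι_cut (s : Finset ι) (i : ι) :
    Sigma.ι X i ≫ cut X s = if i ∈ s then Sigma.ι X i else 0 :=
  Sigma.ι_desc _ _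

lemma cut_comp {s t : Finset ι} (h : s ⊆ t) : cut X s ≫ cut X t = cut X s := by
  classical
  refine Sigma.hom_ext _ _ fun i => ?_
  rw [← Category.assoc, ι_cut]
  split_ifs with hi
  · rw [ι_cut, if_pos (h hi)]
  · rw [zero_comp]

lemma fix_mono {K : D} {h : K ⟶ ∐ X} {s t : Finset ι} (hst : s ⊆ t) (hs : h ≫ cut X s = h) :
    h ≫ cut X t = h := by
  rw [← hs, Category.assoc, cut_comp X hst]

open Classical in
/-- The projection of a coproduct onto a summand. -/
noncomputable def proj (i : ι) : (∐ X) ⟶ X i :=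
  Sigma.desc fun j => if h : j = i then eqToHom (by rw [h]) else 0

open Classical in
lemma ι_proj (j i : ι) :
    Sigma.ι X j ≫ proj X i = if h : j = i then eqToHom (by rw [h]) else 0 :=
  Sigma.ι_desc _ _

lemma cut_eq_sum (s : Finset ι) : cut X s = ∑ i ∈ s, proj X i ≫ Sigma.ι X i := by
  classical
  refine Sigma.hom_ext _ _ fun j => ?_
  rw [ι_cut, Preadditive.comp_sum]
  split_ifs with h
  · rw [Finset.sum_eq_single j]
    · rw [← Category.assoc, ι_proj, dif_pos rfl, eqToHom_refl, Category.id_comp]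
    · intro i _ hi
      rw [← Category.assoc, ι_proj, dif_neg (Ne.symm hi), zero_comp]
    · exact fun h' => (h' h).elim
  · refine (Finset.sum_eq_zero fun i hi => ?_).symm
    rw [← Category.assoc, ι_proj, dif_neg (fun e : j = i => h (e ▸ hi)), zero_comp]

lemma map_cut_comp {D' : Type u'} [Category.{v'} D'] [Preadditive D'] (F : D ⥤ D') [F.Additive]
    [HasCoproduct fun i => F.obj (X i)] (s : Finset ι) :
    sigmaComparison F X ≫ F.map (cut X s) = cut (fun i => F.obj (X i)) s ≫ sigmaComparison F X := by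
  classical
  refine Sigma.hom_ext _ _ fun i => ?_
  have e : Sigma.ι (fun i => F.obj (X i)) i ≫ sigmaComparison F X = F.map (Sigma.ι X i) :=
    ι_comp_sigmaComparison F X i
  rw [← Category.assoc, e, ← F.map_comp, ι_cut, ← Category.assoc, ι_cut]
  split_ifs
  · exact e.symm
  · simp

end Cut

variable (P : ObjectProperty D)

/-- Maps from `K` to a direct sum of objects satisfying `P` are fixed by a finite cut. -/
def Fix (K : D) : Prop :=
  ∀ (ι : Type w) (X : ι → D) [HasCoproduct X], (∀ i, P (X i)) → ∀ h : K ⟶ ∐ X,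
    ∃ s : Finset ι, h ≫ cut X s = h

variable {P}

lemma fix_of_retract {K L : D} (r : Retract L K) (hK : Fix.{w} P K) : Fix.{w} P L :=
  fun ι X _ hX h => by
    obtain ⟨s, hs⟩ := hK ι X hX (r.r ≫ h)
    refine ⟨s, ?_⟩
    have e : r.i ≫ r.r ≫ h = h := by rw [← Category.assoc, r.retract, Category.id_comp]
    rw [← e, Category.assoc, hs]

lemma fix_of_iso {K L : D} (e : K ≅ L) (hK : Fix.{w} P K) : Fix.{w} P L :=
  fix_of_retract ⟨e.inv, e.hom, e.inv_hom_id⟩ hK

lemma fix_of_isZero {K : D} (hK : IsZero K) : Fix.{w} P K := fun _ _ _ _ _ =>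
  ⟨∅, hK.eq_of_src _ _⟩

lemma fix_biprod {K L : D} [HasBinaryBiproduct K L] (hK : Fix.{w} P K) (hL : Fix.{w} P L) :
    Fix.{w} P (K ⊞ L) := fun ι X _ hX h => by
  classical
  obtain ⟨s, hs⟩ := hK ι X hX (biprod.inl ≫ h)
  obtain ⟨t, ht⟩ := hL ι X hX (biprod.inr ≫ h)
  refine ⟨s ∪ t, ?_⟩
  apply biprod.hom_ext'
  · rw [← Category.assoc]; exact fix_mono X Finset.subset_union_left hs
  · rw [← Category.assoc]; exact fix_mono X Finset.subset_union_right ht

/-- Transfer along a left adjoint whose right adjoint preserves the relevant direct sums. -/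
lemma fix_adj {D' : Type u'} [Category.{v'} D'] [Preadditive D'] {P' : ObjectProperty D'}
    {L : D ⥤ D'} {G : D' ⥤ D} [G.Additive] (adj : L ⊣ G)
    [∀ ι : Type w, PreservesColimitsOfShape (Discrete ι) G]
    (hcop : ∀ (ι : Type w) (X : ι → D), HasCoproduct X)
    (hP : ∀ Y, P' Y → P (G.obj Y)) {K : D} (hK : Fix.{w} P K) : Fix.{w} P' (L.obj K) :=
  fun ι X _ hX h => by
    have := hcop ι fun i => G.obj (X i)
    let θ := asIso (sigmaComparison G X)
    obtain ⟨s, hs⟩ := hK ι (fun i => G.obj (X i)) (fun i => hP _ (hX i))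
      (adj.homEquiv K _ h ≫ θ.inv)
    refine ⟨s, (adj.homEquiv K _).injective ?_⟩
    rw [adj.homEquiv_naturality_right]
    have key : θ.inv ≫ cut (fun i => G.obj (X i)) s ≫ θ.hom = G.map (cut X s) := by
      rw [Iso.inv_comp_eq]; exact (map_cut_comp X G s).symm
    rw [← key, ← Category.assoc, ← Category.assoc, hs, Category.assoc, θ.inv_hom_id,
      Category.comp_id]

variable [HasZeroObject D] [HasShift D ℤ] [∀ n : ℤ, (shiftFunctor D n).Additive] [Pretriangulated D]

lemma fix_ext₂ (T : Triangle D) (hT : T ∈ distinguishedTriangles) (h₁ : Fix.{w} P T.obj₁)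
    (h₃ : Fix.{w} P T.obj₃) : Fix.{w} P T.obj₂ := fun ι X _ hX h => by
  classical
  obtain ⟨s, hs⟩ := h₁ ι X hX (T.mor₁ ≫ h)
  obtain ⟨g, hg⟩ := Triangle.yoneda_exact₂ T hT (h - h ≫ cut X s) (by
    rw [Preadditive.comp_sub, ← Category.assoc, hs, sub_self])
  obtain ⟨t, ht⟩ := h₃ ι X hX g
  refine ⟨s ∪ t, ?_⟩
  have e : h = h ≫ cut X s + T.mor₂ ≫ g := by rw [← hg]; simp
  rw [e, Preadditive.add_comp, Category.assoc, Category.assoc, cut_comp X Finset.subset_union_left,
    fix_mono X Finset.subset_union_right ht]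

lemma fix_shift (hPs : ∀ (Y : D) (n : ℤ), P Y → P (Y⟦n⟧))
    (hcop : ∀ (ι : Type w) (X : ι → D), HasCoproduct X) {K : D} (hK : Fix.{w} P K) (n : ℤ) :
    Fix.{w} P (K⟦n⟧) :=
  haveI : (shiftEquiv D n).inverse.Additive := inferInstanceAs (shiftFunctor D (-n)).Additive
  haveI : ∀ ι : Type w, PreservesColimitsOfShape (Discrete ι) (shiftEquiv D n).inverse := fun _ =>
    inferInstance
  fix_adj (shiftEquiv D n).toAdjunction hcop (fun Y hY => hPs Y (-n) hY) hK

lemma fix_ext₃ (hPs : ∀ (Y : D) (n : ℤ), P Y → P (Y⟦n⟧))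
    (hcop : ∀ (ι : Type w) (X : ι → D), HasCoproduct X) (T : Triangle D)
    (hT : T ∈ distinguishedTriangles) (h₁ : Fix.{w} P T.obj₁) (h₂ : Fix.{w} P T.obj₂) :
    Fix.{w} P T.obj₃ :=
  fix_ext₂ T.rotate (rot_of_distTriang _ hT) h₂ (fix_shift hPs hcop h₁ 1)

end Groth.Agent.Lib.DerCat.FixCoprod
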