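import Mathlib.Algebra.Category.Grp.Preadditive
import Mathlib.CategoryTheory.Limits.Shapes.Products
import Mathlib.CategoryTheory.Triangulated.Functor
import Mathlib.CategoryTheory.Triangulated.Yoneda
import Mathlib.CategoryTheory.Limits.Preserves.Shapes.Products
import Mathlib.CategoryTheory.Preadditive.Yoneda.Basic
import Mathlib.CategoryTheory.Preadditive.AdditiveFunctor
import Mathlib.CategoryTheory.Yoneda
import Mathlib.CategoryTheory.Adjunction.PartialAdjoint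

/-!
# Brown representability for perfectly generated triangulated categories

We follow Krause: for a cohomological functor `H` we build a sequence `X 0 ⟶ X 1 ⟶ …` with
compatible elements, surjective on the generators, killing kernels, and take a homotopy colimit.
-/

universe v u

open CategoryTheory CategoryTheory.Limits CategoryTheory.Pretriangulated Opposite

namespace Groth.Agent.Lib.DerCat.Brown

variable {D : Type u} [Category.{v} D]

/-- Pull back an element along a morphism. -/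
abbrev pb (H : Dᵒᵖ ⥤ AddCommGrpCat.{v}) {W W' : D} (f : W ⟶ W') (x : H.obj (op W')) :
    H.obj (op W) := (H.map f.op).hom x

lemma pb_comp (H : Dᵒᵖ ⥤ AddCommGrpCat.{v}) {W W' W'' : D} (f : W ⟶ W') (g : W' ⟶ W'')
    (x : H.obj (op W'')) : pb H (f ≫ g) x = pb H f (pb H g x) := by
  simp [pb]

lemma pb_id (H : Dᵒᵖ ⥤ AddCommGrpCat.{v}) {W : D} (x : H.obj (op W)) : pb H (𝟙 W) x = x := by
  simp [pb]

variable [Preadditive D] [HasZeroObject D] [HasShift D ℤ]
  [∀ n : ℤ, (shiftFunctor D n).Additive] [Pretriangulated D]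
variable [HasCoproducts.{v} D] [HasColimitsOfShape (Discrete ℕ) D]

/-- A cohomological functor turning coproducts into products, elementwise. -/
structure Cohom (H : Dᵒᵖ ⥤ AddCommGrpCat.{v}) : Prop where
  additive : H.Additive
  exact : ∀ (T : Triangle D), T ∈ distTriang D → ∀ x : H.obj (op T.obj₂),
    pb H T.mor₁ x = 0 → ∃ y, pb H T.mor₂ y = x
  prod : ∀ {κ : Type v} (K : κ → D) (x : ∀ k, H.obj (op (K k))),
    ∃! y, ∀ k, pb H (Sigma.ι K k) y = x k

namespace Cohom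

variable {H : Dᵒᵖ ⥤ AddCommGrpCat.{v}} (hH : Cohom H)
include hH

lemma pb_add {W W' : D} (f g : W ⟶ W') (x : H.obj (op W')) :
    pb H (f + g) x = pb H f x + pb H g x := by
  have := hH.additive
  simp [pb]

lemma pb_sub {W W' : D} (f g : W ⟶ W') (x : H.obj (op W')) :
    pb H (f - g) x = pb H f x - pb H g x := by
  have := hH.additive
  simp [pb, Functor.map_sub]

lemma pb_zero {W W' : D} (x : H.obj (op W')) : pb H (0 : W ⟶ W') x = 0 := by
  have := hH.additive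
  simp [pb]

lemma prod_nat (K : ℕ → D) (x : ∀ k, H.obj (op (K k))) :
    ∃! y, ∀ k, pb H (Sigma.ι K k) y = x k := by
  let K' : ULift.{v} ℕ → D := fun k => K k.down
  let a : (∐ K') ⟶ ∐ K := Sigma.desc fun k => Sigma.ι K k.down
  let b : (∐ K) ⟶ ∐ K' := Sigma.desc fun k => Sigma.ι K' ⟨k⟩
  have hab : b ≫ a = 𝟙 _ := Sigma.hom_ext _ _ fun k => by simp [a, b, K']
  obtain ⟨y, hy, hu⟩ := hH.prod K' fun k => x k.down
  refine ⟨pb H b y, fun k => ?_, fun y' hy' => ?_⟩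
  · rw [← pb_comp, Sigma.ι_desc]
    exact hy ⟨k⟩
  · rw [← hu (pb H a y') fun k => ?_, ← pb_comp, hab, pb_id]
    rw [← pb_comp, Sigma.ι_desc]
    exact hy' k.down

end Cohom

/-- Hom into an object is cohomological. -/
lemma cohom_yoneda (Y : D) : Cohom (preadditiveYoneda.obj Y) where
  additive := inferInstance
  exact T hT x hx := (T.yoneda_exact₂ hT x hx).imp fun _ h => h.symm
  prod K x := ⟨Sigma.desc x, fun k => Sigma.ι_desc _ _, fun y hy =>
    Sigma.hom_ext _ _ fun k => (hy k).trans (Sigma.ι_desc x k).symm⟩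

section Generators

variable {J : Type v} (E : J → D)

/-- The hypotheses on the generators. -/
structure PerfGen : Prop where
  shift : ∀ (i : J) (m : ℤ), ∃ i', Nonempty ((E i)⟦m⟧ ≅ E i')
  gen : ∀ X : D, (∀ (i : J) (f : E i ⟶ X), f = 0) → IsZero X
  perf : ∀ (X : ℕ → D) (i : J) (α : E i ⟶ ∐ X), ∃ (j : ℕ → J) (β : ∀ n, E (j n) ⟶ X n)
    (γ : E i ⟶ ∐ (fun n => E (j n))), α = γ ≫ Limits.Sigma.map β

variable {E}

lemma comp_map_eq_zero (hE : PerfGen E) {A B A' : ℕ → D} (f : ∀ n, A n ⟶ B n)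
    (g : ∀ n, A n ⟶ A' n)
    (h : ∀ n i (y : E i ⟶ A n), y ≫ f n = 0 → y ≫ g n = 0) (i : J) (δ : E i ⟶ ∐ A)
    (hδ : δ ≫ Limits.Sigma.map f = 0) : δ ≫ Limits.Sigma.map g = 0 := by
  choose C p w hT using fun n => distinguished_cocone_triangle₁ (f n)
  obtain ⟨Z, r, s, hZ⟩ := distinguished_cocone_triangle (Limits.Sigma.map p)
  have hr : ∀ n, ∃ a : B n ⟶ Z, Sigma.ι A n ≫ r = f n ≫ a := fun n => by
    refine Triangle.yoneda_exact₂ _ (hT n) _ ?_
    change p n ≫ Sigma.ι A n ≫ r = 0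
    rw [← Category.assoc, ← Sigma.ι_map p n, Category.assoc]
    exact (comp_distTriang_mor_zero₁₂ _ hZ).symm ▸ comp_zero
  choose a ha using hr
  have hra : r = Limits.Sigma.map f ≫ Sigma.desc a :=
    Sigma.hom_ext _ _ fun n => by simp [ha]
  obtain ⟨ε, hε⟩ : ∃ ε : E i ⟶ ∐ C, δ = ε ≫ Limits.Sigma.map p :=
    Triangle.coyoneda_exact₂ _ hZ δ (by
      change δ ≫ r = 0
      rw [hra, reassoc_of% hδ, zero_comp])
  obtain ⟨j, β, γ, hγ⟩ := hE.perf C i ε
  rw [hε, hγ]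
  have : Limits.Sigma.map β ≫ Limits.Sigma.map p ≫ Limits.Sigma.map g = 0 :=
    Sigma.hom_ext _ _ fun n => by
      simp only [Sigma.ι_map_assoc, Sigma.ι_map, comp_zero]
      have := h n (j n) (β n ≫ p n) (by
        rw [Category.assoc]
        exact (comp_distTriang_mor_zero₁₂ _ (hT n)).symm ▸ comp_zero)
      rw [← Category.assoc (p n), ← Category.assoc (β n), ← Category.assoc (β n), this, zero_comp]
  simp only [Category.assoc, this, comp_zero]

omit [HasShift D ℤ] [HasZeroObject D] [∀ n : ℤ, (shiftFunctor D n).Additive] [Pretriangulated D]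
  [HasCoproducts.{v} D] in
lemma eq_zero_of_shift_fixed {W Y : D} (v : W ⟶ ∐ fun _ : ℕ => Y)
    (h : v ≫ Sigma.desc (fun n => Sigma.ι (fun _ : ℕ => Y) (n + 1)) = v) : v = 0 := by
  let r : (∐ fun _ : ℕ => Y) ⟶ ∐ fun _ : ℕ => Y :=
    Sigma.desc fun n => -∑ k ∈ Finset.range n, Sigma.ι (fun _ : ℕ => Y) k
  have hr : (𝟙 _ - Sigma.desc (fun n => Sigma.ι (fun _ : ℕ => Y) (n + 1))) ≫ r = 𝟙 _ := by
    refine Sigma.hom_ext _ _ fun n => ?_
    simp [r, Preadditive.sub_comp, Preadditive.comp_sub, Finset.sum_range_succ]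
  calc v = v ≫ (𝟙 _ - Sigma.desc (fun n => Sigma.ι (fun _ : ℕ => Y) (n + 1))) ≫ r := by
        rw [hr, Category.comp_id]
    _ = 0 := by
        rw [← Category.assoc, Preadditive.comp_sub, Category.comp_id, h, sub_self, zero_comp]

omit [HasZeroObject D] [Pretriangulated D] [HasCoproducts.{v} D]
  [HasColimitsOfShape (Discrete ℕ) D] in
lemma eq_zero_of_comp_shift {W W' Z Z' : D} (e : W' ≅ W⟦(-1 : ℤ)⟧) (u : W ⟶ Z⟦(1 : ℤ)⟧)
    (f : Z ⟶ Z') (hu : u ≫ f⟦(1 : ℤ)⟧' = 0)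
    (h : ∀ α : W' ⟶ Z, α ≫ f = 0 → α = 0) : u = 0 := by
  have hα := h (e.hom ≫ u⟦(-1 : ℤ)⟧' ≫ (shiftShiftNeg Z (1 : ℤ)).hom) (by
    have : (shiftShiftNeg Z (1 : ℤ)).hom ≫ f =
        f⟦(1 : ℤ)⟧'⟦(-1 : ℤ)⟧' ≫ (shiftShiftNeg Z' (1 : ℤ)).hom := by simp [shift_shift_neg']
    rw [Category.assoc, Category.assoc, this, ← Functor.map_comp_assoc, hu]
    simp)
  apply (shiftFunctor D (-1 : ℤ)).map_injective
  rw [Functor.map_zero, ← cancel_mono (shiftShiftNeg Z (1 : ℤ)).hom, ← cancel_epi e.hom,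
    zero_comp, comp_zero]
  exact hα

/-- The approximating sequence of a cohomological functor. -/
structure Approx (E : J → D) (H : Dᵒᵖ ⥤ AddCommGrpCat.{v}) where
  X : ℕ → D
  t : ∀ n, X n ⟶ X (n + 1)
  π : ∀ n, H.obj (op (X n))
  hπ : ∀ n, pb H (t n) (π (n + 1)) = π n
  surj : ∀ (i : J) (a : H.obj (op (E i))), ∃ y : E i ⟶ X 0, pb H y (π 0) = a
  kill : ∀ n (i : J) (y : E i ⟶ X n), pb H y (π n) = 0 → y ≫ t n = 0
  κ₀ : Type v
  a₀ : κ₀ → J
  e₀ : X 0 ≅ ∐ fun k => E (a₀ k)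
  κ : ℕ → Type v
  a : ∀ n, κ n → J
  q : ∀ n, (∐ fun k => E (a n k)) ⟶ X n
  c : ∀ n, X (n + 1) ⟶ (∐ fun k => E (a n k))⟦(1 : ℤ)⟧
  dist : ∀ n, Triangle.mk (q n) (t n) (c n) ∈ distTriang D

variable {H : Dᵒᵖ ⥤ AddCommGrpCat.{v}}

lemma exists_next (E : J → D) (hH : Cohom H) (Xn : D) (πn : H.obj (op Xn)) :
    ∃ (X' : D) (π' : H.obj (op X')) (t : Xn ⟶ X')
      (q : (∐ fun k : Σ i, {y : E i ⟶ Xn // pb H y πn = 0} => E k.1) ⟶ Xn)
      (c : X' ⟶ (∐ fun k : Σ i, {y : E i ⟶ Xn // pb H y πn = 0} => E k.1)⟦(1 : ℤ)⟧),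
      pb H t π' = πn ∧ Triangle.mk q t c ∈ distTriang D ∧
      ∀ (i : J) (y : E i ⟶ Xn), pb H y πn = 0 → y ≫ t = 0 := by
  let K := fun k : Σ i, {y : E i ⟶ Xn // pb H y πn = 0} => E k.1
  let q : (∐ K) ⟶ Xn := Sigma.desc fun k => k.2.1
  obtain ⟨X', t, c, hT⟩ := distinguished_cocone_triangle q
  have hq : pb H q πn = 0 := (hH.prod K fun _ => 0).unique
    (fun k => by rw [← pb_comp, Sigma.ι_desc]; exact k.2.2) (fun k => by simp [pb])
  obtain ⟨π', hπ'⟩ := hH.exact _ hT πn hq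
  refine ⟨X', π', t, q, c, hπ', hT, fun i y hy => ?_⟩
  have h1 : q ≫ t = 0 := comp_distTriang_mor_zero₁₂ _ hT
  have h2 : Sigma.ι K ⟨i, y, hy⟩ ≫ q = y := Sigma.ι_desc _ _
  rw [← h2, Category.assoc, h1, comp_zero]

lemma nonempty_approx (E : J → D) (hH : Cohom H) : Nonempty (Approx E H) := by
  choose nX nπ nt nq nc h₁ h₂ h₃ using exists_next E hH
  let K₀ := fun k : Σ i, H.obj (op (E i)) => E k.1
  obtain ⟨π₀, hπ₀, -⟩ := hH.prod K₀ fun k => k.2
  let S : ℕ → (X : D) × H.obj (op X) := fun n =>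
    Nat.rec ⟨∐ K₀, π₀⟩ (fun _ p => ⟨nX p.1 p.2, nπ p.1 p.2⟩) n
  exact ⟨{
    X := fun n => (S n).1
    π := fun n => (S n).2
    t := fun n => nt (S n).1 (S n).2
    hπ := fun n => h₁ (S n).1 (S n).2
    surj := fun i a => ⟨Sigma.ι K₀ ⟨i, a⟩, hπ₀ ⟨i, a⟩⟩
    kill := fun n => h₃ (S n).1 (S n).2
    κ₀ := Σ i, H.obj (op (E i))
    a₀ := fun k => k.1
    e₀ := Iso.refl _
    κ := fun n => Σ i, {y : E i ⟶ (S n).1 // pb H y (S n).2 = 0}
    a := fun _ k => k.1
    q := fun n => nq (S n).1 (S n).2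
    c := fun n => nc (S n).1 (S n).2
    dist := fun n => h₂ (S n).1 (S n).2 }⟩

namespace Approx

variable (S : Approx E H)

/-- The composite transition map from the first stage. -/
noncomputable def T : ∀ n, S.X 0 ⟶ S.X n
  | 0 => 𝟙 _
  | n + 1 => T n ≫ S.t n

lemma pb_T : ∀ n, pb H (S.T n) (S.π n) = S.π 0
  | 0 => pb_id H _
  | n + 1 => by rw [T, pb_comp, S.hπ, pb_T n]

lemma T_succ' : ∀ n, ∃ T' : S.X 1 ⟶ S.X (n + 1), S.T (n + 1) = S.t 0 ≫ T'
  | 0 => ⟨𝟙 _, by simp [T]⟩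
  | n + 1 => by
    obtain ⟨T', h⟩ := T_succ' n
    exact ⟨T' ≫ S.t (n + 1), by rw [← Category.assoc, ← h]; rfl⟩

/-- The shift map of the sequence. -/
noncomputable def sh : (∐ S.X) ⟶ ∐ S.X := Sigma.desc fun n => S.t n ≫ Sigma.ι S.X (n + 1)

variable (hH : Cohom H)
include hH

lemma exists_factor (n : ℕ) (i : J) (y : E i ⟶ S.X n) :
    ∃ e : E i ⟶ S.X 0, y ≫ S.t n = e ≫ S.T (n + 1) ∧ pb H e (S.π 0) = pb H y (S.π n) := by
  obtain ⟨e, he⟩ := S.surj i (pb H y (S.π n))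
  refine ⟨e, ?_, he⟩
  have := S.kill n i (y - e ≫ S.T n) (by
    rw [hH.pb_sub, pb_comp, S.pb_T, he, sub_self])
  rwa [Preadditive.sub_comp, sub_eq_zero, Category.assoc] at this

variable (hE : PerfGen E)
include hE

lemma injective_one_sub_sh {i : J} (α : E i ⟶ ∐ S.X) (h : α ≫ (𝟙 _ - S.sh) = 0) : α = 0 := by
  rw [Preadditive.comp_sub, Category.comp_id, sub_eq_zero] at h
  obtain ⟨j, β, γ, hγ⟩ := hE.perf S.X i α
  choose e he _ using fun n => S.exists_factor hH n (j n) (β n)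
  choose T' hT' using S.T_succ'
  let X₀ := fun _ : ℕ => S.X 0
  let X₁ := fun _ : ℕ => S.X 1
  let R₀ : (∐ X₀) ⟶ ∐ X₀ := Sigma.desc fun n => Sigma.ι X₀ (n + 1)
  let R₁ : (∐ X₁) ⟶ ∐ X₁ := Sigma.desc fun n => Sigma.ι X₁ (n + 1)
  let w₀ : (∐ X₀) ⟶ ∐ S.X := Limits.Sigma.map S.T
  let u : E i ⟶ ∐ X₀ := γ ≫ Sigma.desc (fun n => e n ≫ Sigma.ι X₀ (n + 1))
  have hu : α = u ≫ w₀ := by
    refine h.trans ?_
    rw [hγ, Category.assoc]
    simp only [u, Category.assoc]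
    congr 1
    refine Sigma.hom_ext _ _ fun n => ?_
    simp [w₀, sh, X₀, reassoc_of% he n]
  have hw : w₀ ≫ S.sh = R₀ ≫ w₀ := Sigma.hom_ext _ _ fun n => by
    simp [w₀, sh, R₀, X₀, T]
  have hδ : (u - u ≫ R₀) ≫ w₀ = 0 := by
    rw [Preadditive.sub_comp, sub_eq_zero, Category.assoc u R₀, ← hw, ← reassoc_of% hu, ← h]
    exact hu.symm
  have hkill : (u - u ≫ R₀) ≫ Limits.Sigma.map (fun _ : ℕ => S.t 0) = 0 :=
    comp_map_eq_zero hE S.T (fun _ => S.t 0) (fun n i' y hy => S.kill 0 i' y (by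
      rw [← S.pb_T n, ← pb_comp, hy, hH.pb_zero])) i _ hδ
  have hR : R₀ ≫ Limits.Sigma.map (fun _ : ℕ => S.t 0) =
      Limits.Sigma.map (fun _ : ℕ => S.t 0) ≫ R₁ := Sigma.hom_ext _ _ fun n => by
    simp [R₀, R₁, X₀, X₁]
  have hv : u ≫ Limits.Sigma.map (fun _ : ℕ => S.t 0) = 0 := by
    apply eq_zero_of_shift_fixed
    rw [Preadditive.sub_comp, sub_eq_zero, Category.assoc u R₀, hR, ← Category.assoc] at hkill
    exact hkill.symm
  have hfac : R₀ ≫ w₀ = Limits.Sigma.map (fun _ : ℕ => S.t 0) ≫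
      Sigma.desc (fun n => T' n ≫ Sigma.ι S.X (n + 1)) := Sigma.hom_ext _ _ fun n => by
    simp [R₀, w₀, X₀, hT']
  rw [h, hu, Category.assoc, hw, hfac, reassoc_of% hv, zero_comp]

end Approx

omit [HasZeroObject D] [HasShift D ℤ] [∀ n : ℤ, (shiftFunctor D n).Additive] [Pretriangulated D]
  [HasCoproducts.{v} D] [HasColimitsOfShape (Discrete ℕ) D] in
lemma bijective_sigma {κ : Type*} {K : κ → D} [HasCoproduct K] {X : D} {π : H.obj (op X)}
    (hK : ∀ k, Function.Bijective fun f : K k ⟶ X => pb H f π)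
    (hp : ∀ x : ∀ k, H.obj (op (K k)), ∃! y, ∀ k, pb H (Sigma.ι K k) y = x k) :
    Function.Bijective fun f : (∐ K) ⟶ X => pb H f π := by
  refine ⟨fun f g hfg => Sigma.hom_ext _ _ fun k => (hK k).1 ?_, fun a => ?_⟩
  · simp only [pb_comp] at hfg ⊢
    rw [hfg]
  · choose φ hφ using fun k => (hK k).2 (pb H (Sigma.ι K k) a)
    refine ⟨Sigma.desc φ, (hp fun k => pb H (Sigma.ι K k) a).unique (fun k => ?_) fun k => rfl⟩
    rw [← pb_comp, Sigma.ι_desc]
    exact hφ k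

omit [HasCoproducts.{v} D] [HasColimitsOfShape (Discrete ℕ) D] in
lemma bijective₃ [HasCoproducts.{v} D] [HasColimitsOfShape (Discrete ℕ) D] (hH : Cohom H)
    {X : D} {π : H.obj (op X)} (T : Triangle D) (hT : T ∈ distTriang D)
    (b₁₀ : Function.Bijective fun f : T.obj₁ ⟶ X => pb H f π)
    (b₂₀ : Function.Bijective fun f : T.obj₂ ⟶ X => pb H f π)
    (b₁ : Function.Bijective fun f : T.obj₁⟦(1 : ℤ)⟧ ⟶ X => pb H f π)
    (b₂ : Function.Bijective fun f : T.obj₂⟦(1 : ℤ)⟧ ⟶ X => pb H f π) :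
    Function.Bijective fun f : T.obj₃ ⟶ X => pb H f π := by
  have hR := rot_of_distTriang _ hT
  refine ⟨fun (f : T.obj₃ ⟶ X) g hfg => ?_, fun (a : H.obj (op T.obj₃)) => ?_⟩
  · rw [← sub_eq_zero]
    have hd : pb H (f - g) π = 0 := by rw [hH.pb_sub]; exact sub_eq_zero.2 hfg
    have h₂0 : T.mor₂ ≫ (f - g) = 0 := b₂₀.1 (by
      change pb H (T.mor₂ ≫ (f - g)) π = pb H 0 π
      rw [pb_comp, hd, hH.pb_zero]
      simp [pb])
    obtain ⟨b, hb⟩ := Triangle.yoneda_exact₃ _ hT (f - g) h₂0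
    have hb0 : pb H T.mor₃ (pb H b π) = 0 := by
      rw [← pb_comp, ← hb, hd]
    obtain ⟨y, hy⟩ : ∃ y : H.obj (op (T.obj₂⟦(1 : ℤ)⟧)),
        pb H (-T.mor₁⟦(1 : ℤ)⟧') y = pb H b π :=
      hH.exact _ (rot_of_distTriang _ hR) (pb H b π) hb0
    obtain ⟨b', hb'⟩ := b₂.2 y
    change pb H b' π = y at hb'
    have hbb : b = (-T.mor₁⟦(1 : ℤ)⟧') ≫ b' := b₁.1 (by
      change pb H b π = pb H ((-T.mor₁⟦(1 : ℤ)⟧') ≫ b') π
      rw [pb_comp, hb', hy])
    rw [hb, hbb]
    have := comp_distTriang_mor_zero₂₃ _ hR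
    exact (Category.assoc _ _ _).symm.trans ((congrArg (· ≫ b') this).trans zero_comp)
  · obtain ⟨f₂, hf₂⟩ := b₂₀.2 (pb H T.mor₂ a)
    change pb H f₂ π = _ at hf₂
    have h0 : T.mor₁ ≫ f₂ = 0 := b₁₀.1 (by
      change pb H (T.mor₁ ≫ f₂) π = pb H 0 π
      rw [pb_comp, hf₂, ← pb_comp, comp_distTriang_mor_zero₁₂ _ hT, hH.pb_zero, hH.pb_zero])
    obtain ⟨f₃, hf₃⟩ := Triangle.yoneda_exact₂ _ hT f₂ h0
    obtain ⟨y, hy⟩ := hH.exact _ hR (a - pb H f₃ π) (by
      change pb H T.mor₂ _ = 0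
      rw [show pb H T.mor₂ (a - pb H f₃ π) = pb H T.mor₂ a - pb H T.mor₂ (pb H f₃ π) from
        map_sub _ _ _, ← pb_comp H T.mor₂ f₃, ← hf₃, hf₂, sub_self])
    obtain ⟨b, hb⟩ := b₁.2 y
    change pb H b π = y at hb
    refine ⟨f₃ + T.mor₃ ≫ b, ?_⟩
    change pb H (f₃ + T.mor₃ ≫ b) π = a
    rw [hH.pb_add, pb_comp, hb]
    change pb H T.mor₃ y = a - pb H f₃ π at hy
    rw [hy, add_sub_cancel]

/-- Classes of objects containing the approximations. -/
structure Localizing (E : J → D) (P : D → Prop) : Prop where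
  iso : ∀ {X Y : D}, (X ≅ Y) → P X → P Y
  mem : ∀ i, P (E i)
  coprod : ∀ {κ : Type v} (K : κ → D), (∀ k, P (K k)) → P (∐ K)
  coprodNat : ∀ (K : ℕ → D), (∀ k, P (K k)) → P (∐ K)
  ext₃ : ∀ T : Triangle D, T ∈ distTriang D → P T.obj₁ → P T.obj₂ → P T.obj₃

variable (hE : PerfGen E) (hH : Cohom H)
include hE hH

/-- The homotopy colimit of the approximation represents `H` on the generators. -/
theorem exists_object : ∃ (S : Approx E H) (X : D) (ι : ∀ n, S.X n ⟶ X)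
    (c : X ⟶ (∐ S.X)⟦(1 : ℤ)⟧) (π : H.obj (op X)),
    Triangle.mk (𝟙 (∐ S.X) - S.sh) (Sigma.desc ι) c ∈ distTriang D ∧
    (∀ n, pb H (ι n) π = S.π n) ∧
    (∀ i, Function.Bijective fun f : E i ⟶ X => pb H f π) ∧
    ∀ P : D → Prop, Localizing E P → P X := by
  obtain ⟨S⟩ := nonempty_approx E hH
  obtain ⟨X, p, c, hT⟩ := distinguished_cocone_triangle (𝟙 (∐ S.X) - S.sh)
  obtain ⟨σ, hσ, -⟩ := hH.prod_nat S.X S.π
  have hσ' : pb H (𝟙 (∐ S.X) - S.sh) σ = 0 := by
    obtain ⟨y, -, hu⟩ := hH.prod_nat S.X fun _ => 0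
    rw [hu (pb H (𝟙 (∐ S.X) - S.sh) σ) fun n => ?_, hu 0 fun n => by simp [pb]]
    rw [← pb_comp, Preadditive.comp_sub, Category.comp_id, hH.pb_sub, hσ, Approx.sh, Sigma.ι_desc,
      pb_comp, hσ, S.hπ, sub_self]
  obtain ⟨π, hπ⟩ := hH.exact _ hT σ hσ'
  let ι := fun n => Sigma.ι S.X n ≫ p
  have hp : Sigma.desc ι = p := Sigma.hom_ext _ _ fun n => by simp [ι]
  have hι : ∀ n, pb H (ι n) π = S.π n := fun n => by
    simp only [ι, pb_comp]
    exact (congrArg (pb H (Sigma.ι S.X n)) hπ).trans (hσ n)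
  have hfix : S.sh ≫ p = p := by
    have : (𝟙 (∐ S.X) - S.sh) ≫ p = 0 := comp_distTriang_mor_zero₁₂ _ hT
    rw [Preadditive.sub_comp, Category.id_comp, sub_eq_zero] at this
    exact this.symm
  have hιt : ∀ n, S.t n ≫ ι (n + 1) = ι n := fun n => by
    calc S.t n ≫ ι (n + 1) = Sigma.ι S.X n ≫ S.sh ≫ p := by simp [ι, Approx.sh]
      _ = ι n := by rw [hfix]
  have hιT : ∀ n, S.T n ≫ ι n = ι 0 := fun n => by
    induction n with
    | zero => simp [Approx.T]
    | succ n ih => simp [Approx.T, hιt, ih]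
  refine ⟨S, X, ι, c, π, by rw [hp]; exact hT, hι, fun i => ⟨fun f g hfg => ?_, fun a => ?_⟩,
    fun P hP => ?_⟩
  · rw [← sub_eq_zero]
    set d := f - g
    have hd : pb H d π = 0 := by rw [hH.pb_sub]; exact sub_eq_zero.2 hfg
    obtain ⟨i', ⟨e⟩⟩ := hE.shift i (-1)
    have hdc : d ≫ c = 0 := eq_zero_of_comp_shift e.symm (d ≫ c) (𝟙 (∐ S.X) - S.sh)
      (by rw [Category.assoc]; exact (comp_distTriang_mor_zero₃₁ _ hT).symm ▸ comp_zero)
      (fun α hα => S.injective_one_sub_sh hH hE α hα)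
    obtain ⟨α, hα⟩ : ∃ α : E i ⟶ ∐ S.X, d = α ≫ p := Triangle.coyoneda_exact₃ _ hT d hdc
    obtain ⟨j, β, γ, hγ⟩ := hE.perf S.X i α
    choose e' he' _ using fun n => S.exists_factor hH n (j n) (β n)
    have h1 : Limits.Sigma.map β ≫ p = Sigma.desc e' ≫ ι 0 := Sigma.hom_ext _ _ fun n => by
      rw [Sigma.ι_map_assoc, Sigma.ι_desc_assoc]
      change β n ≫ ι n = _
      rw [← hιt n, ← Category.assoc, he' n, Category.assoc, hιT]
    rw [hα, hγ, Category.assoc, h1, ← Category.assoc] at hd ⊢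
    rw [pb_comp, hι] at hd
    have := S.kill 0 i _ hd
    rw [← hιt 0, ← Category.assoc (γ ≫ _), this, zero_comp]
  · obtain ⟨y, hy⟩ := S.surj i a
    exact ⟨y ≫ ι 0, by simp only [pb_comp, hι, hy]⟩
  · have hX : ∀ n, P (S.X n) := fun n => by
      induction n with
      | zero => exact hP.iso S.e₀.symm (hP.coprod _ fun k => hP.mem _)
      | succ n ih => exact hP.ext₃ _ (S.dist n) (hP.coprod _ fun k => hP.mem _) ih
    exact hP.ext₃ _ hT (hP.coprodNat _ hX) (hP.coprodNat _ hX)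

omit hH

/-- Objects detected as zero by the generators: localizing classes are everything. -/
theorem localizing_eq_top {P : D → Prop} (hP : Localizing E P) (W : D) : P W := by
  obtain ⟨S, X, ι, c, π, -, -, hbij, hall⟩ := exists_object hE (cohom_yoneda W)
  change X ⟶ W at π
  obtain ⟨C, g, h, hT⟩ := distinguished_cocone_triangle π
  have hC : IsZero C := hE.gen C fun i f => by
    have hfh : f ≫ h = 0 := by
      obtain ⟨i', ⟨e⟩⟩ := hE.shift i (-1)
      exact eq_zero_of_comp_shift e.symm (f ≫ h) π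
        (by rw [Category.assoc]; exact (comp_distTriang_mor_zero₃₁ _ hT).symm ▸ comp_zero)
        (fun α hα => (hbij i').1 (show α ≫ π = 0 ≫ π by rw [hα, zero_comp]))
    obtain ⟨a, ha⟩ : ∃ a : E i ⟶ W, f = a ≫ g := Triangle.coyoneda_exact₃ _ hT f hfh
    obtain ⟨b, hb⟩ := (hbij i).2 a
    change b ≫ π = a at hb
    have : π ≫ g = 0 := comp_distTriang_mor_zero₁₂ _ hT
    rw [ha, ← hb, Category.assoc, this, comp_zero]
  have : IsIso π := (Triangle.isZero₃_iff_isIso₁ _ hT).1 hC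
  exact hP.iso (asIso π) (hall P hP)

include hH

/-- Brown representability. -/
theorem exists_representing : ∃ (X : D) (π : H.obj (op X)),
    ∀ W : D, Function.Bijective fun f : W ⟶ X => pb H f π := by
  obtain ⟨S, X, ι, c, π, -, -, hbij, -⟩ := exists_object hE hH
  have iso : ∀ {W W' : D}, (W ≅ W') → Function.Bijective (fun f : W ⟶ X => pb H f π) →
      Function.Bijective (fun f : W' ⟶ X => pb H f π) := fun {W W'} e hb =>
    ⟨fun f g hfg => by
      rw [← cancel_epi e.hom]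
      apply hb.1
      simp only [pb_comp] at hfg ⊢
      rw [hfg],
    fun a => by
      obtain ⟨f, hf⟩ := hb.2 (pb H e.hom a)
      refine ⟨e.inv ≫ f, ?_⟩
      simp only [pb_comp] at hf ⊢
      rw [hf, ← pb_comp, e.inv_hom_id, pb_id]⟩
  let L : D → Prop := fun W => ∀ m : ℤ, Function.Bijective fun f : W⟦m⟧ ⟶ X => pb H f π
  have hL : Localizing E L := by
    refine ⟨fun e h m => iso ((shiftFunctor D m).mapIso e) (h m), fun i m => ?_,
      fun K hK m => iso (PreservesCoproduct.iso (shiftFunctor D m) K).symm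
        (bijective_sigma (fun k => hK k m) (hH.prod _)),
      fun K hK m => iso (PreservesCoproduct.iso (shiftFunctor D m) K).symm
        (bijective_sigma (fun k => hK k m) (hH.prod_nat _)), ?_⟩
    · obtain ⟨i', ⟨e⟩⟩ := hE.shift i m
      exact iso e.symm (hbij i')
    · intro T hT h₁ h₂ m
      have hT' := Triangle.shift_distinguished T hT m
      let T' := (Triangle.shiftFunctor D m).obj T
      change T' ∈ _ at hT'
      have b₁ : Function.Bijective fun f : T'.obj₁⟦(1 : ℤ)⟧ ⟶ X => pb H f π :=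
        iso ((shiftFunctorAdd D m (1 : ℤ)).app T.obj₁) (h₁ (m + 1))
      have b₂ : Function.Bijective fun f : T'.obj₂⟦(1 : ℤ)⟧ ⟶ X => pb H f π :=
        iso ((shiftFunctorAdd D m (1 : ℤ)).app T.obj₂) (h₂ (m + 1))
      exact bijective₃ hH T' hT' (h₁ m) (h₂ m) b₁ b₂
  refine ⟨X, π, fun W => ?_⟩
  exact iso ((shiftFunctorZero D ℤ).app W) (localizing_eq_top hE hL W 0)

/-- Brown representability, as representability of the underlying functor. -/
theorem isRepresentable : (H ⋙ forget AddCommGrpCat.{v}).IsRepresentable := by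
  obtain ⟨X, π, h⟩ := exists_representing hE hH
  exact Functor.RepresentableBy.isRepresentable
    { homEquiv := fun {W} => Equiv.ofBijective _ (h W)
      homEquiv_comp := fun f g => pb_comp H f g π }

omit hH in
/-- A triangulated-exact functor commuting with coproducts has a right adjoint. -/
theorem isLeftAdjoint {D' : Type*} [Category.{v} D'] [Preadditive D'] [HasZeroObject D']
    [HasShift D' ℤ] [∀ n : ℤ, (shiftFunctor D' n).Additive] [Pretriangulated D'] (F : D ⥤ D')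
    [F.CommShift ℤ] [F.IsTriangulated] [∀ κ : Type v, PreservesColimitsOfShape (Discrete κ) F] :
    F.IsLeftAdjoint := by
  apply Functor.isLeftAdjoint_of_rightAdjointObjIsDefined_eq_top
  ext Y
  simp only [Pi.top_apply, Prop.top_eq_true, iff_true]
  obtain ⟨X, π, h⟩ := exists_representing hE (H := F.op ⋙ preadditiveYoneda.obj Y)
    { additive := inferInstance
      exact := fun T hT x hx =>
        ((F.mapTriangle.obj T).yoneda_exact₂ (F.map_distinguished T hT) x hx).imp fun _ h => h.symm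
      prod := fun K x => by
        have hc : IsColimit (Cofan.mk (F.obj (∐ K)) fun k => F.map (Sigma.ι K k)) :=
          isColimitCofanMkObjOfIsColimit F _ _ (coproductIsCoproduct K)
        exact ⟨Cofan.IsColimit.desc hc x, fun k => Cofan.IsColimit.fac hc x k,
          fun y hy => Cofan.IsColimit.hom_ext hc _ _ fun k =>
            (hy k).trans (Cofan.IsColimit.fac hc x k).symm⟩ }
  exact Functor.RepresentableBy.isRepresentable (F := F.op ⋙ yoneda.obj Y)
    { homEquiv := fun {W} => Equiv.ofBijective _ (h W)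
      homEquiv_comp := fun f g => pb_comp (F.op ⋙ preadditiveYoneda.obj Y) f g π }

end Generators

end Groth.Agent.Lib.DerCat.Brown
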