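import Groth.Agent.Lib.DerCat.BrownLocal
import Groth.Agent.Lib.DerCat.ModGen
import Groth.Agent.Lib.DerCat.DerAdj
import Mathlib.CategoryTheory.Abelian.GrothendieckCategory.ModuleEmbedding.GabrielPopescu

/-!
# Brown representability for the derived category of a Grothendieck abelian category
-/

universe v u u'

open CategoryTheory CategoryTheory.Limits CategoryTheory.Pretriangulated Opposite

namespace Groth.Agent.Lib.DerCat.BrownGroth

variable {A : Type u} [Category.{v} A] [Abelian A] [IsGrothendieckAbelian.{v} A]
  [HasDerivedCategory.{v} A]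

/-- Brown representability for `D(A)`, elementwise. -/
theorem exists_representing [HasCoproducts.{v} (DerivedCategory A)]
    {H : (DerivedCategory A)ᵒᵖ ⥤ AddCommGrpCat.{v}} (hH : Brown.Cohom H) :
    ∃ (X : DerivedCategory A) (π : H.obj (op X)),
      ∀ W, Function.Bijective fun f : W ⟶ X => Brown.pb H f π := by
  let U := separator A
  have hU : IsSeparator U := isSeparator_separator A
  let R := (End U)ᵐᵒᵖ
  let adj := IsGrothendieckAbelian.tensorObjPreadditiveCoyonedaObjAdjunction U
  have := IsGrothendieckAbelian.GabrielPopescu.full U hU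
  have : (preadditiveCoyonedaObj U).Faithful :=
    (isSeparator_iff_faithful_preadditiveCoyonedaObj U).1 hU
  have := IsGrothendieckAbelian.GabrielPopescu.preservesInjectiveObjects U hU
  have := adj.left_adjoint_additive
  have : PreservesFiniteLimits (IsGrothendieckAbelian.tensorObj U) :=
    IsGrothendieckAbelian.GabrielPopescu.preservesFiniteLimits U hU
  have : PreservesFiniteColimits (IsGrothendieckAbelian.tensorObj U) := inferInstance
  letI := ModGen.hasDerivedCategory (A := ModuleCat.{v} R)
  have := Groth.Agent.Lib.DerivedOX.RightDerived.isLeftAdjoint_Qh (A := ModuleCat.{v} R)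
    KInjExists.hasKInjRes
  have := Groth.Agent.Lib.DerivedOX.RightDerived.isLeftAdjoint_Qh (A := A) KInjExists.hasKInjRes
  have : HasCoproducts.{v} (DerivedCategory (ModuleCat.{v} R)) :=
    fun J => HProd.hasColimitsOfShape_derivedCategory
  have : HasColimitsOfShape (Discrete ℕ) (DerivedCategory (ModuleCat.{v} R)) :=
    hasColimitsOfShape_of_equivalence (Discrete.equivalence (Equiv.ulift.{v}))
  let dadj := DerAdj.derivedAdj adj
  have : ∀ Y, IsIso (dadj.counit.app Y) :=
    DerAdj.isIso_derivedAdj_counit adj HProd.isIso_counit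
  have : IsIso dadj.counit := NatIso.isIso_of_isIso_app _
  exact BrownLocal.exists_representing
    (BrownGen.perfGen_of_compact _ (ModGen.isCompactObject_gen R) (ModGen.generates_gen R)) dadj hH

theorem isRepresentable [HasCoproducts.{v} (DerivedCategory A)]
    {H : (DerivedCategory A)ᵒᵖ ⥤ AddCommGrpCat.{v}} (hH : Brown.Cohom H) :
    (H ⋙ forget AddCommGrpCat.{v}).IsRepresentable := by
  obtain ⟨X, π, h⟩ := exists_representing hH
  exact Functor.RepresentableBy.isRepresentable
    { homEquiv := fun {W} => Equiv.ofBijective _ (h W)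
      homEquiv_comp := fun f g => Brown.pb_comp H f g π }

theorem isLeftAdjoint [HasCoproducts.{v} (DerivedCategory A)] {D : Type u'} [Category.{v} D]
    [Preadditive D] [HasZeroObject D] [HasShift D ℤ] [∀ n : ℤ, (shiftFunctor D n).Additive]
    [Pretriangulated D] (F : DerivedCategory A ⥤ D) [F.CommShift ℤ] [F.IsTriangulated]
    [∀ κ : Type v, PreservesColimitsOfShape (Discrete κ) F] : F.IsLeftAdjoint := by
  apply Functor.isLeftAdjoint_of_rightAdjointObjIsDefined_eq_top
  ext Y
  simp only [Pi.top_apply, Prop.top_eq_true, iff_true]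
  obtain ⟨X, π, h⟩ := exists_representing (H := F.op ⋙ preadditiveYoneda.obj Y)
    { additive := inferInstance
      exact := fun T hT x hx =>
        ((F.mapTriangle.obj T).yoneda_exact₂ (F.map_distinguished T hT) x hx).imp fun _ h => h.symm
      prod := fun K x => by
        have hc : IsColimit (Cofan.mk (F.obj (∐ K)) fun k => F.map (Sigma.ι K k)) :=
          isColimitCofanMkObjOfIsColimit F _ _ (coproductIsCoproduct K)
        exact ⟨Cofan.IsColimit.desc hc x, fun k => Cofan.IsColimit.fac hc x k,
          fun y hy => Cofan.IsColimit.hom_ext hc _ _ fun k =>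
            (hy k).trans (Cofan.IsColimit.fac hc x k).symm⟩ }
  exact Functor.RepresentableBy.isRepresentable (F := F.op ⋙ yoneda.obj Y)
    { homEquiv := fun {W} => Equiv.ofBijective _ (h W)
      homEquiv_comp := fun f g => Brown.pb_comp (F.op ⋙ preadditiveYoneda.obj Y) f g π }

end Groth.Agent.Lib.DerCat.BrownGroth
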