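import Groth.Agent.Lib.DerCat.BrownGen
import Mathlib.CategoryTheory.Triangulated.Functor

/-!
# Brown representability passes to reflective quotients
-/

universe v u u'

open CategoryTheory CategoryTheory.Limits CategoryTheory.Pretriangulated Opposite

namespace Groth.Agent.Lib.DerCat.BrownLocal

variable {D : Type u} [Category.{v} D] [Preadditive D] [HasZeroObject D] [HasShift D ℤ]
  [∀ n : ℤ, (shiftFunctor D n).Additive] [Pretriangulated D] [HasCoproducts.{v} D]
  {D' : Type u'} [Category.{v} D'] [Preadditive D'] [HasZeroObject D'] [HasShift D' ℤ]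
  [∀ n : ℤ, (shiftFunctor D' n).Additive] [Pretriangulated D']

section

variable (F : D ⥤ D') [F.CommShift ℤ] [F.IsTriangulated]
  [∀ κ : Type v, PreservesColimitsOfShape (Discrete κ) F]

/-- Pulling back a cohomological functor along an exact coproduct preserving functor. -/
lemma cohom_comp [HasCoproducts.{v} D'] {H : D'ᵒᵖ ⥤ AddCommGrpCat.{v}} (hH : Brown.Cohom H) :
    Brown.Cohom (F.op ⋙ H) where
  additive := by
    have := hH.additive
    infer_instance
  exact T hT x hx := hH.exact _ (F.map_distinguished T hT) x hx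
  prod {κ} K x := by
    let e := PreservesCoproduct.iso F K
    obtain ⟨y, hy, hu⟩ := hH.prod (fun k => F.obj (K k)) x
    refine ⟨Brown.pb H e.hom y, fun k => ?_, fun y' hy' => ?_⟩
    · change Brown.pb H (F.map (Sigma.ι K k)) (Brown.pb H e.hom y) = x k
      have h1 : F.map (Sigma.ι K k) ≫ e.hom = Sigma.ι (fun k => F.obj (K k)) k := by
        rw [← Iso.eq_comp_inv, PreservesCoproduct.inv_hom, ι_comp_sigmaComparison]
      rw [← Brown.pb_comp, h1]
      exact hy k
    · have h2 : Brown.pb H e.inv y' = y := hu _ fun k => by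
        rw [← Brown.pb_comp, PreservesCoproduct.inv_hom, ι_comp_sigmaComparison]
        exact hy' k
      rw [← h2, ← Brown.pb_comp, e.hom_inv_id, Brown.pb_id]

/-- Functors out of `D'` that send exact triangles and coproducts to such give cohomological
functors. -/
lemma cohom_of_functor [HasCoproducts.{v} D'] (Y : D') :
    Brown.Cohom (F.op ⋙ preadditiveYoneda.obj Y) :=
  haveI : HasColimitsOfShape (Discrete ℕ) D' :=
    hasColimitsOfShape_of_equivalence (Discrete.equivalence (Equiv.ulift.{v}))
  cohom_comp F (Brown.cohom_yoneda Y)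

end

variable [HasColimitsOfShape (Discrete ℕ) D] {J : Type v} {E : J → D}

/-- Brown representability for a reflective quotient of a perfectly generated category. -/
theorem exists_representing (hE : Brown.PerfGen E) {F : D ⥤ D'} {G : D' ⥤ D} (adj : F ⊣ G)
    [IsIso adj.counit] [F.CommShift ℤ] [F.IsTriangulated] [HasCoproducts.{v} D']
    {H : D'ᵒᵖ ⥤ AddCommGrpCat.{v}} (hH : Brown.Cohom H) :
    ∃ (X : D') (π : H.obj (op X)),
      ∀ W : D', Function.Bijective fun f : W ⟶ X => Brown.pb H f π := by
  have : ∀ κ : Type v, PreservesColimitsOfShape (Discrete κ) F := fun κ =>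
    adj.leftAdjoint_preservesColimits.preservesColimitsOfShape
  obtain ⟨Y, π, hY⟩ := Brown.exists_representing hE (cohom_comp F hH)
  change H.obj (op (F.obj Y)) at π
  refine ⟨F.obj Y, π, fun W => ⟨fun g₁ g₂ hg => ?_, fun a => ?_⟩⟩
  · change Brown.pb H g₁ π = Brown.pb H g₂ π at hg
    obtain ⟨r, hr⟩ := (hY (G.obj (F.obj Y))).2 (Brown.pb H (adj.counit.app (F.obj Y)) π)
    change Brown.pb H (F.map r) π = Brown.pb H (adj.counit.app (F.obj Y)) π at hr
    have h1 : adj.unit.app Y ≫ r = 𝟙 Y := (hY Y).1 (by
      change Brown.pb H (F.map (adj.unit.app Y ≫ r)) π = Brown.pb H (F.map (𝟙 Y)) π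
      rw [F.map_comp, Brown.pb_comp, hr, ← Brown.pb_comp]
      exact congrArg (Brown.pb H · π)
        ((adj.left_triangle_components Y).trans (CategoryTheory.Functor.map_id F Y).symm))
    have h2 : F.map r = adj.counit.app (F.obj Y) := by
      have h3 : F.map (adj.unit.app Y) ≫ F.map r = 𝟙 (F.obj Y) :=
        (F.map_comp _ _).symm.trans
          ((congrArg F.map h1).trans (CategoryTheory.Functor.map_id F Y))
      have : IsIso (F.map (adj.unit.app Y)) := by
        have : IsIso (F.map (adj.unit.app Y) ≫ adj.counit.app (F.obj Y)) := by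
          erw [adj.left_triangle_components Y]; exact IsIso.id _
        exact IsIso.of_isIso_comp_right _ (adj.counit.app (F.obj Y))
      rw [← cancel_epi (F.map (adj.unit.app Y))]
      exact h3.trans (adj.left_triangle_components Y).symm
    have h4 : G.map g₁ ≫ r = G.map g₂ ≫ r := (hY (G.obj W)).1 (by
      change Brown.pb H (F.map (G.map g₁ ≫ r)) π = Brown.pb H (F.map (G.map g₂ ≫ r)) π
      simp only [F.map_comp, h2]
      erw [adj.counit.naturality g₁, adj.counit.naturality g₂]
      simp only [Functor.id_map, Brown.pb_comp, hg])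
    have h5 := congrArg F.map h4
    simp only [F.map_comp, h2] at h5
    erw [adj.counit.naturality g₁, adj.counit.naturality g₂] at h5
    exact (cancel_epi (adj.counit.app W)).1 h5
  · obtain ⟨f, hf⟩ := (hY (G.obj W)).2 (Brown.pb H (adj.counit.app W) a)
    change Brown.pb H (F.map f) π = Brown.pb H (adj.counit.app W) a at hf
    refine ⟨inv (adj.counit.app W) ≫ F.map f, ?_⟩
    change Brown.pb H (inv (adj.counit.app W) ≫ F.map f) π = a
    rw [Brown.pb_comp, hf, ← Brown.pb_comp, IsIso.inv_hom_id, Brown.pb_id]

end Groth.Agent.Lib.DerCat.BrownLocal
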