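import Groth.Agent.Lib.DerCat.CohDimShift

/-!
# Derived functors of a functor of finite cohomological dimension with enough concentrated objects

We show that `RF ≅ LG⟦-n⟧` for `G = RⁿF`.
-/

universe w w' v v' u u'

open CategoryTheory CategoryTheory.Limits CategoryTheory.Pretriangulated

namespace Groth.Agent.Lib.DerCat.CohDim

open Termwise RFObj RFAcyclic CohDimShift

section Transfer

variable {A : Type u} [Category.{v} A] [Abelian A] [HasDerivedCategory.{w} A]
  {H : Type*} [Category H] {P : HomotopyCategory A (.up ℤ) ⥤ H} {P₀ : CochainComplex A ℤ ⥤ H}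
  (e : HomotopyCategory.quotient A (.up ℤ) ⋙ P ≅ P₀) {G : DerivedCategory A ⥤ H}

/-- A counit on the homotopy category gives one on complexes. -/
noncomputable def counitC (α : DerivedCategory.Qh ⋙ G ⟶ P) : DerivedCategory.Q ⋙ G ⟶ P₀ where
  app K := G.map ((DerivedCategory.quotientCompQhIso A).inv.app K) ≫
    α.app ((HomotopyCategory.quotient A (.up ℤ)).obj K) ≫ e.hom.app K
  naturality K L f := by
    have h1 := α.naturality ((HomotopyCategory.quotient A (.up ℤ)).map f)
    have h2 := e.hom.naturality f
    have h3 := congrArg G.map ((DerivedCategory.quotientCompQhIso A).inv.naturality f)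
    simp only [Functor.map_comp] at h3
    dsimp at h1 h2 h3 ⊢
    rw [reassoc_of% h3, reassoc_of% h1, h2, Category.assoc, Category.assoc]

/-- A left derived functor on the homotopy category is one on complexes. -/
theorem isLeftDerived_counitC (α : DerivedCategory.Qh ⋙ G ⟶ P)
    [G.IsLeftDerivedFunctor α (HomotopyCategory.quasiIso A (.up ℤ))] :
    G.IsLeftDerivedFunctor (counitC e α) (HomologicalComplex.quasiIso A (.up ℤ)) := by
  let q := HomotopyCategory.quotient A (.up ℤ)
  let i := DerivedCategory.quotientCompQhIso A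
  have up : ∀ (G' : DerivedCategory A ⥤ H) (β : DerivedCategory.Q ⋙ G' ⟶ P₀),
      ∃ β' : DerivedCategory.Qh ⋙ G' ⟶ P,
        ∀ K, β'.app (q.obj K) = G'.map (i.hom.app K) ≫ β.app K ≫ e.inv.app K := fun G' β => by
    refine ⟨{ app := fun X => G'.map (i.hom.app X.as) ≫ β.app X.as ≫ e.inv.app X.as
              naturality := fun X Y φ => ?_ }, fun K => rfl⟩
    obtain ⟨φ, rfl⟩ := q.map_surjective (X := X.as) (Y := Y.as) φ
    have h1 := congrArg G'.map (i.hom.naturality φ)
    have h2 := β.naturality φ
    have h3 := e.inv.naturality φ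
    simp only [Functor.map_comp] at h1
    dsimp at h1 h2 h3 ⊢
    rw [Category.assoc, Category.assoc]
    erw [reassoc_of% h1, reassoc_of% h2, h3]
    rfl
  have : G.IsRightKanExtension α :=
    Functor.IsLeftDerivedFunctor.isRightKanExtension G α (HomotopyCategory.quasiIso A (.up ℤ))
  refine ⟨⟨⟨Limits.IsTerminal.ofUniqueHom
    (fun E => CostructuredArrow.homMk (G.liftOfIsRightKanExtension α E.left (up E.left E.hom).choose) ?_)
    (fun E m => CostructuredArrow.ext _ _ ?_)⟩⟩⟩
  · ext K
    have h := G.liftOfIsRightKanExtension_fac_app α E.left (up E.left E.hom).choose (q.obj K)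
    rw [(up E.left E.hom).choose_spec K] at h
    have hn := (G.liftOfIsRightKanExtension α E.left (up E.left E.hom).choose).naturality
      (i.inv.app K)
    change (G.liftOfIsRightKanExtension α E.left (up E.left E.hom).choose).app
      (DerivedCategory.Q.obj K) ≫ (counitC e α).app K = E.hom.app K
    dsimp [counitC, q, i] at h hn ⊢
    rw [← reassoc_of% hn, reassoc_of% h, ← E.left.map_comp_assoc]
    simp
  · refine G.hom_ext_of_isRightKanExtension α _ _ ?_
    have hw := CostructuredArrow.w m
    rw [show (CostructuredArrow.homMk (G.liftOfIsRightKanExtension α E.left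
      (up E.left E.hom).choose) _ : E ⟶ Functor.RightExtension.mk G (counitC e α)).left =
      G.liftOfIsRightKanExtension α E.left (up E.left E.hom).choose from rfl,
      G.liftOfIsRightKanExtension_fac]
    ext X
    obtain ⟨K, rfl⟩ := HomotopyCategory.quotient_obj_surjective X
    have h1 := congrArg (fun z => z.app K) hw
    rw [NatTrans.comp_app, Functor.whiskerLeft_app]
    erw [(up E.left E.hom).choose_spec K]
    change m.left.app (DerivedCategory.Q.obj K) ≫ (counitC e α).app K = E.hom.app K at h1
    dsimp [counitC, q, i] at h1 ⊢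
    rw [← h1]
    have hn := m.left.naturality (i.hom.app K)
    dsimp [i, q] at hn ⊢
    simp only [Category.assoc, Iso.hom_inv_id_app, Category.comp_id]
    erw [reassoc_of% hn]
    refine congrArg _ ?_
    change _ = G.map ((DerivedCategory.quotientCompQhIso A).hom.app K) ≫
      (G.map ((DerivedCategory.quotientCompQhIso A).inv.app K) ≫
        α.app ((HomotopyCategory.quotient A (.up ℤ)).obj K) ≫ e.hom.app K) ≫ e.inv.app K
    simp [← G.map_comp_assoc]

/-- A unit on the homotopy category gives one on complexes. -/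
noncomputable def unitC (α : P ⟶ DerivedCategory.Qh ⋙ G) : P₀ ⟶ DerivedCategory.Q ⋙ G where
  app K := e.inv.app K ≫ α.app ((HomotopyCategory.quotient A (.up ℤ)).obj K) ≫
    G.map ((DerivedCategory.quotientCompQhIso A).hom.app K)
  naturality K L f := by
    have h1 := α.naturality ((HomotopyCategory.quotient A (.up ℤ)).map f)
    have h2 := e.inv.naturality f
    have h3 := congrArg G.map ((DerivedCategory.quotientCompQhIso A).hom.naturality f)
    simp only [Functor.map_comp] at h3
    dsimp at h1 h2 h3 ⊢
    rw [reassoc_of% h2, reassoc_of% h1, h3, Category.assoc, Category.assoc]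

/-- A right derived functor on the homotopy category is one on complexes. -/
theorem isRightDerived_unitC (α : P ⟶ DerivedCategory.Qh ⋙ G)
    [G.IsRightDerivedFunctor α (HomotopyCategory.quasiIso A (.up ℤ))] :
    G.IsRightDerivedFunctor (unitC e α) (HomologicalComplex.quasiIso A (.up ℤ)) := by
  let q := HomotopyCategory.quotient A (.up ℤ)
  let i := DerivedCategory.quotientCompQhIso A
  have up : ∀ (G' : DerivedCategory A ⥤ H) (β : P₀ ⟶ DerivedCategory.Q ⋙ G'),
      ∃ β' : P ⟶ DerivedCategory.Qh ⋙ G',
        ∀ K, β'.app (q.obj K) = e.hom.app K ≫ β.app K ≫ G'.map (i.inv.app K) := fun G' β => by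
    refine ⟨{ app := fun X => e.hom.app X.as ≫ β.app X.as ≫ G'.map (i.inv.app X.as)
              naturality := fun X Y φ => ?_ }, fun K => rfl⟩
    obtain ⟨φ, rfl⟩ := q.map_surjective (X := X.as) (Y := Y.as) φ
    have h1 := e.hom.naturality φ
    have h2 := β.naturality φ
    have h3 := congrArg G'.map (i.inv.naturality φ)
    simp only [Functor.map_comp] at h3
    dsimp at h1 h2 h3 ⊢
    rw [Category.assoc, Category.assoc]
    erw [reassoc_of% h1, reassoc_of% h2, h3]
    rfl
  have : G.IsLeftKanExtension α :=
    Functor.IsRightDerivedFunctor.isLeftKanExtension G α (HomotopyCategory.quasiIso A (.up ℤ))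
  refine ⟨⟨⟨Limits.IsInitial.ofUniqueHom
    (fun E => StructuredArrow.homMk (G.descOfIsLeftKanExtension α E.right (up E.right E.hom).choose) ?_)
    (fun E m => StructuredArrow.ext _ _ ?_)⟩⟩⟩
  · ext K
    have h := G.descOfIsLeftKanExtension_fac_app α E.right (up E.right E.hom).choose (q.obj K)
    rw [(up E.right E.hom).choose_spec K] at h
    have hn := (G.descOfIsLeftKanExtension α E.right (up E.right E.hom).choose).naturality
      (i.hom.app K)
    change (unitC e α).app K ≫ (G.descOfIsLeftKanExtension α E.right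
      (up E.right E.hom).choose).app (DerivedCategory.Q.obj K) = E.hom.app K
    dsimp [unitC, q, i] at h hn ⊢
    rw [Category.assoc, Category.assoc, hn, reassoc_of% h, ← E.right.map_comp]
    simp
  · refine G.hom_ext_of_isLeftKanExtension α _ _ ?_
    have hw := StructuredArrow.w m
    rw [show (StructuredArrow.homMk (G.descOfIsLeftKanExtension α E.right
      (up E.right E.hom).choose) _ : Functor.LeftExtension.mk G (unitC e α) ⟶ E).right =
      G.descOfIsLeftKanExtension α E.right (up E.right E.hom).choose from rfl,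
      G.descOfIsLeftKanExtension_fac]
    ext X
    obtain ⟨K, rfl⟩ := HomotopyCategory.quotient_obj_surjective X
    have h1 := congrArg (fun z => z.app K) hw
    rw [NatTrans.comp_app, Functor.whiskerLeft_app]
    erw [(up E.right E.hom).choose_spec K]
    change (unitC e α).app K ≫ m.right.app (DerivedCategory.Q.obj K) = E.hom.app K at h1
    dsimp [unitC, q, i] at h1 ⊢
    rw [← h1]
    have hn := m.right.naturality (i.hom.app K)
    dsimp [i, q] at hn ⊢
    simp only [Category.assoc, Iso.hom_inv_id_app_assoc]
    erw [reassoc_of% hn]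
    simp [← E.right.map_comp]

end Transfer

variable {A : Type u} [Category.{v} A] [Abelian A] [EnoughInjectives A] [HasDerivedCategory.{w} A]
  {B : Type u'} [Category.{v'} B] [Abelian B] [HasDerivedCategory.{w'} B]
  (F : A ⥤ B) [F.Additive]

/-- A functor on the homotopy category restricted along the quotient. -/
noncomputable def eC (G : A ⥤ B) [G.Additive] :
    HomotopyCategory.quotient A (.up ℤ) ⋙ G.mapHomotopyCategory (.up ℤ) ⋙ DerivedCategory.Qh ≅
      G.mapHomologicalComplex (.up ℤ) ⋙ DerivedCategory.Q :=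
  NatIso.ofComponents
    (fun K => (DerivedCategory.quotientCompQhIso B).app ((G.mapHomologicalComplex _).obj K))
    (fun f => (DerivedCategory.quotientCompQhIso B).hom.naturality
      ((G.mapHomologicalComplex _).map f))

variable (n : ℕ) [(F.rightDerived n).Additive]
  (hdim : ∀ (X : A) (i : ℕ), n < i → IsZero ((F.rightDerived i).obj X))
  (hP : ∀ X : A, ∃ (Y : A) (p : Y ⟶ X), Epi p ∧
    ∀ i : ℕ, i ≠ n → IsZero ((F.rightDerived i).obj Y))

/-- `RⁿF` on complexes, up to quasi-isomorphism. -/
noncomputable abbrev topF : HomotopyCategory A (.up ℤ) ⥤ DerivedCategory B :=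
  (F.rightDerived n).mapHomotopyCategory (.up ℤ) ⋙ DerivedCategory.Qh

include hdim in
lemma inverts_left :
    ((HomotopyCategory.quasiIso A (.up ℤ)).inverseImage (termwise (FinDim.Conc F n)).ι).IsInvertedBy
      ((termwise (FinDim.Conc F n)).ι ⋙ topF F n) :=
  Termwise.isInvertedBy (F.rightDerived n) (FinDim.conc_isAdditiveClass n)
    (FinDim.acyclic_map_top n hdim)

include hdim hP in
lemma exists_leftRes' (X : HomotopyCategory A (.up ℤ)) :
    ∃ (R : HomotopyCategory A (.up ℤ)) (s : R ⟶ X),
      termwise (FinDim.Conc F n) R ∧ HomotopyCategory.quasiIso A (.up ℤ) s := by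
  rw [HomotopyCategory.quasiIso_eq_trW_subcategoryAcyclic]
  exact FinDim.exists_leftRes n hdim hP X

include hdim hP in
/-- The left derived functor of `RⁿF` exists on `D(A)`. -/
theorem exists_leftDerived :
    ∃ (LG : DerivedCategory A ⥤ DerivedCategory B) (α : DerivedCategory.Qh ⋙ LG ⟶ topF F n),
      LG.IsLeftDerivedFunctor α (HomotopyCategory.quasiIso A (.up ℤ)) :=
  have := FinDim.isLocalization_left (F := F) n hdim hP
  have := FinDim.hasRightCalculus (A := A)
  ⟨_, _, ResolDer.isLeftDerived_counit DerivedCategory.Qh _ _ (topF F n) (inverts_left F n hdim)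
    (exists_leftRes' F n hdim hP)⟩

variable [PreservesFiniteLimits F] (N : ℕ) (hN : ∀ X : A, IsZero ((F.rightDerived N).obj X))

/-- The comparison on complexes with concentrated terms. -/
noncomputable def concIso :
    ((termwise (FinDim.Conc F n)).ι ⋙ DerivedCategory.Qh) ⋙
        shiftFunctor (DerivedCategory A) (n : ℤ) ⋙ RFh.RF F N hN ≅
      (termwise (FinDim.Conc F n)).ι ⋙ topF F n :=
  NatIso.ofComponents (fun X =>
      (RFh.RF F N hN).mapIso ((shiftFunctor (DerivedCategory A) (n : ℤ)).mapIso
        ((DerivedCategory.quotientCompQhIso A).app X.obj.as)) ≪≫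
      τ F N hN n X.obj.as (good_of_conc F n _ X.property) ≪≫
      DerivedCategory.Q.mapIso
        ((NatIso.mapHomologicalComplex (RFh.GIso F N hN n) (.up ℤ)).app X.obj.as) ≪≫
      ((DerivedCategory.quotientCompQhIso B).app _).symm)
    (fun {X Y} f => by
      obtain ⟨g, hg⟩ :=
        (HomotopyCategory.quotient A _).map_surjective (X := X.obj.as) (Y := Y.obj.as) f.hom
      have h₁ := congrArg (fun z => (RFh.RF F N hN).map ((shiftFunctor _ (n : ℤ)).map z))
        ((DerivedCategory.quotientCompQhIso A).hom.naturality g)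
      have h₂ := τ_naturality F N hN n g (good_of_conc F n _ X.property)
        (good_of_conc F n _ Y.property)
      have h₃ := congrArg DerivedCategory.Q.map
        ((NatIso.mapHomologicalComplex (RFh.GIso F N hN n) (.up ℤ)).hom.naturality g)
      have h₄ := (DerivedCategory.quotientCompQhIso B).inv.naturality
        (((F.rightDerived n).mapHomologicalComplex (.up ℤ)).map g)
      simp only [Functor.map_comp] at h₁ h₃
      change (RFh.RF F N hN).map ((shiftFunctor _ (n : ℤ)).map
          (DerivedCategory.Qh.map f.hom)) ≫ _ =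
        _ ≫ DerivedCategory.Qh.map (((F.rightDerived n).mapHomotopyCategory (.up ℤ)).map f.hom)
      rw [← hg]
      simp only [Iso.trans_hom, Functor.mapIso_hom, Iso.symm_hom, Iso.app_hom, Iso.app_inv,
        Category.assoc]
      dsimp at h₁ h₃ h₄ ⊢
      erw [reassoc_of% h₁, reassoc_of% h₂, reassoc_of% h₃]
      exact congrArg _ (congrArg _ (congrArg _ h₄)))

include hdim hP in
/-- `RF⟦n⟧` is the left derived functor of `RⁿF`. -/
theorem nonempty_iso {LG : DerivedCategory A ⥤ DerivedCategory B}
    (β : DerivedCategory.Q ⋙ LG ⟶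
      (F.rightDerived n).mapHomologicalComplex (.up ℤ) ⋙ DerivedCategory.Q)
    [LG.IsLeftDerivedFunctor β (HomologicalComplex.quasiIso A (.up ℤ))]
    {R : DerivedCategory A ⥤ DerivedCategory B}
    (γ : F.mapHomologicalComplex (.up ℤ) ⋙ DerivedCategory.Q ⟶ DerivedCategory.Q ⋙ R)
    [R.IsRightDerivedFunctor γ (HomologicalComplex.quasiIso A (.up ℤ))] :
    Nonempty (R ≅ LG ⋙ shiftFunctor (DerivedCategory B) (-(n : ℤ))) := by
  have hN : ∀ X : A, IsZero ((F.rightDerived (n + 1)).obj X) := fun X => hdim X _ (by lia)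
  let N := n + 1
  have := FinDim.hasRightCalculus (A := A)
  have := FinDim.hasLeftCalculus (A := A)
  have := FinDim.isLocalization_left (F := F) n hdim hP
  have := FinDim.isLocalization_right (F := F) N hN
  let LG₀ := ResolDer.derived DerivedCategory.Qh (HomotopyCategory.quasiIso A (.up ℤ)) _ (topF F n)
    (inverts_left F n hdim)
  let α₀ := ResolDer.counit DerivedCategory.Qh (HomotopyCategory.quasiIso A (.up ℤ)) _ (topF F n)
    (inverts_left F n hdim) (exists_leftRes' F n hdim hP)
  have := ResolDer.isLeftDerived_counit DerivedCategory.Qh (HomotopyCategory.quasiIso A (.up ℤ)) _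
    (topF F n) (inverts_left F n hdim) (exists_leftRes' F n hdim hP)
  have := isLeftDerived_counitC (eC (F.rightDerived n)) α₀
  let eL : LG ≅ LG₀ := Functor.leftDerivedUnique _ _ β (counitC (eC (F.rightDerived n)) α₀)
    (HomologicalComplex.quasiIso A (.up ℤ))
  have : (RFh.RF F N hN).IsRightDerivedFunctor _ (HomotopyCategory.quasiIso A (.up ℤ)) :=
    ResolDer.isRightDerived_unit DerivedCategory.Qh _ (termwise (Acyc F))
      (F.mapHomotopyCategory (.up ℤ) ⋙ DerivedCategory.Qh) (FinDim.inverts_right N hN)
      (FinDim.exists_res' N hN)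
  let u := ResolDer.unit DerivedCategory.Qh _ (termwise (Acyc F))
      (F.mapHomotopyCategory (.up ℤ) ⋙ DerivedCategory.Qh) (FinDim.inverts_right N hN)
      (FinDim.exists_res' N hN)
  have := isRightDerived_unitC (eC F) (G := RFh.RF F N hN) u
  let eR : R ≅ RFh.RF F N hN := R.rightDerivedUnique (RFh.RF F N hN) γ (unitC (eC F) u)
    (HomologicalComplex.quasiIso A (.up ℤ))
  let L₂ := (termwise (FinDim.Conc F n)).ι ⋙ DerivedCategory.Qh (C := A)
  let e₀ : LG₀ ≅ shiftFunctor (DerivedCategory A) (n : ℤ) ⋙ RFh.RF F N hN :=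
    letI : Localization.Lifting L₂ ((HomotopyCategory.quasiIso A (.up ℤ)).inverseImage
        (termwise (FinDim.Conc F n)).ι) ((termwise (FinDim.Conc F n)).ι ⋙ topF F n) LG₀ :=
      ⟨ResolDer.derivedIso DerivedCategory.Qh _ _ (topF F n) (inverts_left F n hdim)⟩
    letI : Localization.Lifting L₂ ((HomotopyCategory.quasiIso A (.up ℤ)).inverseImage
        (termwise (FinDim.Conc F n)).ι) ((termwise (FinDim.Conc F n)).ι ⋙ topF F n)
          (shiftFunctor (DerivedCategory A) (n : ℤ) ⋙ RFh.RF F N hN) := ⟨concIso F n N hN⟩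
    Localization.liftNatIso L₂ ((HomotopyCategory.quasiIso A (.up ℤ)).inverseImage
      (termwise (FinDim.Conc F n)).ι) ((termwise (FinDim.Conc F n)).ι ⋙ topF F n)
      ((termwise (FinDim.Conc F n)).ι ⋙ topF F n) LG₀
      (shiftFunctor (DerivedCategory A) (n : ℤ) ⋙ RFh.RF F N hN) (Iso.refl _)
  exact ⟨eR ≪≫ (Functor.rightUnitor _).symm ≪≫
    Functor.isoWhiskerLeft _ (shiftFunctorCompIsoId (DerivedCategory B) (n : ℤ) (-(n : ℤ))
      (by lia)).symm ≪≫ (Functor.associator _ _ _).symm ≪≫
    Functor.isoWhiskerRight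
      (((RFh.RF F N hN).commShiftIso (n : ℤ)).symm ≪≫ e₀.symm ≪≫ eL.symm) _⟩

end Groth.Agent.Lib.DerCat.CohDim
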