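import Groth.Agent.Lib.DerCat.RFhObj
import Mathlib.Algebra.Homology.DerivedCategory.ShortExact
import Mathlib.Algebra.Homology.HomologicalComplexAbelian

/-!
# Dimension shifting for the derived functor of a functor of finite cohomological dimension

For a complex `K` whose terms have derived functors concentrated in degree `d` (more generally in
degrees `0` and `d` with `F K` acyclic) we compare `RF` of `K⟦d⟧` with `RᵈF` applied termwise.
-/

universe w w' v v' u u'

open CategoryTheory CategoryTheory.Limits CategoryTheory.Pretriangulated CochainComplex.HomComplex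
  ZeroObject

namespace Groth.Agent.Lib.DerCat.CohDimShift

open Termwise RFObj RFAcyclic FinDimRes

section Emb

variable {A : Type u} [Category.{v} A] [Abelian A]

/-- A map into the cone of an identity of a complex without differential is determined by its
second component. -/
lemma hom_ext {K : CochainComplex A ℤ} {I : ℤ → A} {φ ψ : K ⟶ CochainComplex.mappingCone (𝟙 (zeroD I))}
    (h : ∀ n, φ.f n ≫ (CochainComplex.mappingCone.snd (𝟙 (zeroD I))).v n n (add_zero n) =
      ψ.f n ≫ (CochainComplex.mappingCone.snd (𝟙 (zeroD I))).v n n (add_zero n)) : φ = ψ := by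
  have key : ∀ (χ : K ⟶ CochainComplex.mappingCone (𝟙 (zeroD I))) (n : ℤ),
      χ.f n ≫ (CochainComplex.mappingCone.fst (𝟙 (zeroD I))).1.v n (n + 1) rfl =
        K.d n (n + 1) ≫ χ.f (n + 1) ≫
          (CochainComplex.mappingCone.snd (𝟙 (zeroD I))).v (n + 1) (n + 1) (add_zero _) := fun χ n => by
    rw [← χ.comm_assoc, CochainComplex.mappingCone.d_snd_v _ n (n + 1) rfl]
    simp
  ext n
  refine CochainComplex.mappingCone.ext_to _ n (n + 1) rfl ?_ (h n)
  rw [key, key, h]

variable [EnoughInjectives A]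

/-- The injective objects receiving the terms of a complex. -/
noncomputable abbrev T (K : CochainComplex A ℤ) : CochainComplex A ℤ :=
  zeroD fun n => Injective.under (K.X n)

/-- A contractible complex of injective objects receiving `K`. -/
noncomputable abbrev C (K : CochainComplex A ℤ) : CochainComplex A ℤ := CochainComplex.mappingCone (𝟙 (T K))

/-- The embedding in a contractible complex of injective objects. -/
noncomputable def emb (K : CochainComplex A ℤ) : K ⟶ C K :=
  let β : Cochain K (T K) 0 := Cochain.ofHoms fun n => Injective.ι (K.X n)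
  CochainComplex.mappingCone.lift (𝟙 (T K)) (Cocycle.mk (-δ 0 1 β) 2 rfl (by simp [δ_δ])) β (by simp)

lemma emb_snd (K : CochainComplex A ℤ) (n : ℤ) :
    (emb K).f n ≫ (CochainComplex.mappingCone.snd (𝟙 (T K))).v n n (add_zero n) = Injective.ι (K.X n) := by
  simp [emb]

instance mono_emb (K : CochainComplex A ℤ) : Mono (emb K) :=
  HomologicalComplex.mono_of_mono_f _ fun n => mono_of_mono_fac (emb_snd K n)

/-- A chosen map of the contractible complexes. -/
noncomputable def cmap {K L : CochainComplex A ℤ} (f : K ⟶ L) : C K ⟶ C L :=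
  let γ : T K ⟶ T L :=
    { f := fun n => Injective.factorThru (f.f n ≫ Injective.ι (L.X n)) (Injective.ι (K.X n))
      comm' := fun _ _ _ => by simp }
  CochainComplex.mappingCone.map (𝟙 (T K)) (𝟙 (T L)) γ γ (by simp)

lemma emb_cmap {K L : CochainComplex A ℤ} (f : K ⟶ L) : emb K ≫ cmap f = f ≫ emb L := by
  refine hom_ext fun n => ?_
  have h : ∀ n, (cmap f).f n ≫ (CochainComplex.mappingCone.snd (𝟙 (T L))).v n n (add_zero n) =
      (CochainComplex.mappingCone.snd (𝟙 (T K))).v n n (add_zero n) ≫
        Injective.factorThru (f.f n ≫ Injective.ι (L.X n)) (Injective.ι (K.X n)) := fun n =>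
    CochainComplex.mappingCone.ext_from _ (n + 1) n rfl (by simp [cmap, CochainComplex.mappingCone.map])
      (by simp [cmap, CochainComplex.mappingCone.map])
  simp only [HomologicalComplex.comp_f, Category.assoc]
  rw [h, reassoc_of% emb_snd, Injective.comp_factorThru, emb_snd]

/-- The defining sequence of a dimension shift. -/
noncomputable abbrev seq (K : CochainComplex A ℤ) : ShortComplex (CochainComplex A ℤ) :=
  ShortComplex.mk (emb K) (cokernel.π (emb K)) (cokernel.condition _)

lemma seq_shortExact (K : CochainComplex A ℤ) : (seq K).ShortExact :=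
  ShortComplex.ShortExact.mk' (ShortComplex.exact_of_g_is_cokernel _ (cokernelIsCokernel _))
    inferInstance inferInstance

lemma seq_shortExact_eval (K : CochainComplex A ℤ) (k : ℤ) :
    ((seq K).map (HomologicalComplex.eval A _ k)).ShortExact :=
  (HomologicalComplex.shortExact_iff_degreewise_shortExact _).1 (seq_shortExact K) k

/-- The map of defining sequences. -/
noncomputable def seqMap {K L : CochainComplex A ℤ} (f : K ⟶ L) : seq K ⟶ seq L where
  τ₁ := f
  τ₂ := cmap f
  τ₃ := cokernel.map _ _ f (cmap f) (emb_cmap f)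
  comm₁₂ := (emb_cmap f).symm
  comm₂₃ := (cokernel.π_desc _ _ _).symm

/-- The differential as a map of sequences in each degree. -/
noncomputable def seqD (S : ShortComplex (CochainComplex A ℤ)) (i j : ℤ) :
    S.map (HomologicalComplex.eval A _ i) ⟶ S.map (HomologicalComplex.eval A _ j) where
  τ₁ := S.X₁.d i j
  τ₂ := S.X₂.d i j
  τ₃ := S.X₃.d i j
  comm₁₂ := (S.f.comm i j).symm
  comm₂₃ := (S.g.comm i j).symm

end Emb

section Zero

variable {A : Type u} [Category.{v} A] [Abelian A] [HasDerivedCategory.{w} A]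

lemma isZero_Q_of_acyclic {K : CochainComplex A ℤ} (h : K.Acyclic) :
    IsZero (DerivedCategory.Q.obj K) := by
  have : QuasiIso (0 : K ⟶ 0) := ⟨fun i => by
    rw [quasiIsoAt_iff_exactAt _ _ (h i)]
    exact exactAt_of_isZero (Functor.map_isZero (HomologicalComplex.eval A _ i) (isZero_zero _))⟩
  exact (Functor.map_isZero _ (isZero_zero _)).of_iso (asIso (DerivedCategory.Q.map (0 : K ⟶ 0)))
where
  exactAt_of_isZero {K : CochainComplex A ℤ} {i : ℤ} (h : IsZero (K.X i)) : K.ExactAt i :=
    ShortComplex.exact_of_isZero_X₂ _ h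

lemma acyclic_of_isZero_Q {K : CochainComplex A ℤ} (h : IsZero (DerivedCategory.Q.obj K)) :
    K.Acyclic := fun i => by
  rw [HomologicalComplex.exactAt_iff_isZero_homology]
  exact (Functor.map_isZero (DerivedCategory.homologyFunctor A i) h).of_iso
    ((DerivedCategory.homologyFunctorFactors A i).app K).symm

lemma isZero_Q_cone (T : CochainComplex A ℤ) :
    IsZero (DerivedCategory.Q.obj (CochainComplex.mappingCone (𝟙 T))) :=
  (Functor.map_isZero DerivedCategory.Qh (isZero_quotient_cone T)).of_iso
    ((DerivedCategory.quotientCompQhIso A).app _).symm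

end Zero

variable {A : Type u} [Category.{v} A] [Abelian A] [EnoughInjectives A]
  {B : Type u'} [Category.{v'} B] [Abelian B] (F : A ⥤ B) [F.Additive]

/-- Complexes whose terms have derived functors in degrees `0` and `d` only, the degree `0` part
being acyclic when `d ≠ 0`. -/
def Good (d : ℕ) (K : CochainComplex A ℤ) : Prop :=
  (∀ k i, i ≠ 0 → i ≠ d → IsZero ((F.rightDerived i).obj (K.X k))) ∧
    (d ≠ 0 → ((F.mapHomologicalComplex (.up ℤ)).obj K).Acyclic)

variable [PreservesFiniteLimits F]

lemma isZero_obj_of_rightDerived {X : A} (h : IsZero ((F.rightDerived 0).obj X)) :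
    IsZero (F.obj X) :=
  h.of_iso (F.rightDerivedZeroIsoSelf.app X).symm

lemma good_of_conc (d : ℕ) (K : CochainComplex A ℤ) (hK : ∀ k, FinDim.Conc F d (K.X k)) :
    Good F d K :=
  ⟨fun k i _ h => hK k i h, fun hd k =>
    ShortComplex.exact_of_isZero_X₂ _ (isZero_obj_of_rightDerived F (hK k 0 (Ne.symm hd)))⟩

omit [PreservesFiniteLimits F] in
lemma acyc_C (K : CochainComplex A ℤ) (k : ℤ) : Acyc F ((C K).X k) :=
  mappingCone_mem (FinDim.acyc_isAdditiveClass F) _ (fun _ => acyc_injective F _)
    (fun _ => acyc_injective F _) k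

omit [PreservesFiniteLimits F] in
lemma acyc_of_good {K : CochainComplex A ℤ} (hK : Good F 0 K) (k : ℤ) :
    Acyc F (K.X k) := fun i hi => hK.1 k i hi.ne' hi.ne'

variable [HasDerivedCategory.{w'} B]

lemma isZero_Q_map_C (G : A ⥤ B) [G.Additive] (K : CochainComplex A ℤ) :
    IsZero (DerivedCategory.Q.obj ((G.mapHomologicalComplex (.up ℤ)).obj (C K))) :=
  (Functor.map_isZero DerivedCategory.Qh
    (Functor.map_isZero (G.mapHomotopyCategory (.up ℤ)) (isZero_quotient_cone (T K)))).of_iso
    ((DerivedCategory.quotientCompQhIso B).app _).symm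

lemma good_X₃ (d : ℕ) (K : CochainComplex A ℤ) (hK : Good F (d + 1) K) :
    Good F d (seq K).X₃ := by
  refine ⟨fun k i hi hd => ?_, fun hd => ?_⟩
  · exact FinDim.isZero_X₃_of _ (seq_shortExact_eval K k) i (acyc_C F K k i (by lia))
      (hK.1 k (i + 1) (by lia) (by lia))
  · letI : HasDerivedCategory A := HasDerivedCategory.standard A
    have hS : ((seq K).map (F.mapHomologicalComplex (.up ℤ))).ShortExact :=
      HomologicalComplex.shortExact_of_degreewise_shortExact _ fun k =>
        show (((seq K).map (HomologicalComplex.eval A _ k)).map F).ShortExact from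
          shortExact_map_of_acyclic (seq_shortExact_eval K k) (hK.1 k 1 (by lia) (by lia))
    refine acyclic_of_isZero_Q ?_
    exact (Triangle.isZero₃_iff_isIso₁ _ (DerivedCategory.triangleOfSES_distinguished hS)).2
      (IsZero.isIso (isZero_Q_of_acyclic (hK.2 (by lia))) (isZero_Q_map_C F K) _)

variable [HasDerivedCategory.{w} A] (N : ℕ) (hN : ∀ X : A, IsZero ((F.rightDerived N).obj X))

/-- `RᵈF` applied termwise. -/
noncomputable abbrev GC (d : ℕ) : CochainComplex A ℤ ⥤ CochainComplex B ℤ :=
  (RFh.G F N hN d).mapHomologicalComplex (.up ℤ)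

/-- The connecting morphisms, termwise. -/
noncomputable def δc (d : ℕ) {S : ShortComplex (CochainComplex A ℤ)}
    (hS : ∀ k, (S.map (HomologicalComplex.eval A _ k)).ShortExact) :
    (GC F N hN d).obj S.X₃ ⟶ (GC F N hN (d + 1)).obj S.X₁ where
  f k := RFh.δG F N hN d (hS k)
  comm' i j _ := (RFh.δG_naturality F N hN d (hS i) (hS j) (seqD S i j)).symm

lemma δc_naturality (d : ℕ) {S S' : ShortComplex (CochainComplex A ℤ)}
    (hS : ∀ k, (S.map (HomologicalComplex.eval A _ k)).ShortExact)
    (hS' : ∀ k, (S'.map (HomologicalComplex.eval A _ k)).ShortExact) (f : S ⟶ S') :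
    (GC F N hN d).map f.τ₃ ≫ δc F N hN d hS' =
      δc F N hN d hS ≫ (GC F N hN (d + 1)).map f.τ₁ := by
  ext k
  exact RFh.δG_naturality F N hN d (hS k) (hS' k)
    ((HomologicalComplex.eval A _ k).mapShortComplex.map f)

/-- The connecting morphism is a quasi-isomorphism. -/
theorem isIso_Q_δc (d : ℕ) (K : CochainComplex A ℤ) (hK : Good F (d + 1) K) :
    IsIso (DerivedCategory.Q.map (δc F N hN d (seq_shortExact_eval K))) := by
  let S := seq K
  let Φ := RFh.Φ F N hN
  have hS := seq_shortExact_eval K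
  have hT := fun k => (hS k).singleTriangle_distinguished
  let a := (GC F N hN d).map S.f
  let b := (GC F N hN d).map S.g
  let c := δc F N hN d hS
  have hab : a ≫ b = 0 := by
    rw [← Functor.map_comp, S.zero, Functor.map_zero]
  have hbc : b ≫ c = 0 := by
    ext k
    exact RFh.comp_δG F N hN d (hS k)
  have ha : Mono a := by
    refine HomologicalComplex.mono_of_mono_f a fun k => ?_
    rcases Nat.eq_zero_or_pos d with rfl | hd
    · have := preservesFiniteLimits_rightDerived_zero F
      have := (hS k).mono_f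
      have := preservesFiniteLimits_of_natIso (RFh.GIso F N hN 0).symm
      exact inferInstanceAs (Mono ((RFh.G F N hN 0).map (S.map (HomologicalComplex.eval A _ k)).f))
    · exact ⟨fun _ _ _ => (RFh.isZero_G F N hN d _ (hK.1 k d (by lia) (by lia))).eq_of_tgt _ _⟩
  have hc : Epi c := by
    refine HomologicalComplex.epi_of_epi_f c fun k => ?_
    exact (Φ.homologySequence_exact₁ _ (hT k) (d : ℤ) ((d + 1 : ℕ) : ℤ) (by lia)).epi_f
      ((RFh.isZero_G F N hN (d + 1) _ (acyc_C F K k (d + 1) (by lia))).eq_of_tgt _ _)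
  have e₁ : (ShortComplex.mk a b hab).Exact :=
    HomologicalComplex.exact_of_degreewise_exact _ fun k =>
      Φ.homologySequence_exact₂ _ (hT k) (d : ℤ)
  have e₂ : (ShortComplex.mk b c hbc).Exact :=
    HomologicalComplex.exact_of_degreewise_exact _ fun k =>
      Φ.homologySequence_exact₃ _ (hT k) (d : ℤ) ((d + 1 : ℕ) : ℤ) (by lia)
  have : Epi (kernel.lift c b hbc) := e₂.epi_kernelLift
  have hab' : a ≫ kernel.lift c b hbc = 0 := by
    rw [← cancel_mono (kernel.ι c)]; simpa using hab
  let φ : ShortComplex.mk a (kernel.lift c b hbc) hab' ⟶ ShortComplex.mk a b hab :=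
    { τ₁ := 𝟙 _, τ₂ := 𝟙 _, τ₃ := kernel.ι c }
  have : Epi φ.τ₁ := inferInstanceAs (Epi (𝟙 _))
  have : IsIso φ.τ₂ := inferInstanceAs (IsIso (𝟙 _))
  have : Mono φ.τ₃ := inferInstanceAs (Mono (kernel.ι c))
  have s₁ : (ShortComplex.mk a (kernel.lift c b hbc) hab').ShortExact :=
    ShortComplex.ShortExact.mk' ((ShortComplex.exact_iff_of_epi_of_isIso_of_mono φ).2 e₁) ha
      inferInstance
  have s₂ : (ShortComplex.mk (kernel.ι c) c (kernel.condition c)).ShortExact :=
    ShortComplex.ShortExact.mk' (ShortComplex.exact_of_f_is_kernel _ (kernelIsKernel c))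
      inferInstance hc
  have hK₀ : IsZero (DerivedCategory.Q.obj ((GC F N hN d).obj K)) := by
    refine isZero_Q_of_acyclic fun k => ?_
    rcases Nat.eq_zero_or_pos d with rfl | hd
    · exact (hK.2 (by lia) k).of_iso
        ((NatIso.mapHomologicalComplex (RFh.GIso F N hN 0 ≪≫ F.rightDerivedZeroIsoSelf)
          (.up ℤ)).app K).symm
    · exact ShortComplex.exact_of_isZero_X₂ _
        (RFh.isZero_G F N hN d _ (hK.1 k d (by lia) (by lia)))
  have hker : IsZero (DerivedCategory.Q.obj (kernel c)) :=
    (Triangle.isZero₃_iff_isIso₁ _ (DerivedCategory.triangleOfSES_distinguished s₁)).2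
      (IsZero.isIso hK₀ (isZero_Q_map_C _ K) _)
  exact (Triangle.isZero₁_iff_isIso₂ _ (DerivedCategory.triangleOfSES_distinguished s₂)).1 hker

/-- The connecting isomorphism `Q(coker) ≅ Q(K)⟦1⟧`. -/
noncomputable def seqIso (K : CochainComplex A ℤ) :
    DerivedCategory.Q.obj (seq K).X₃ ≅ (DerivedCategory.Q.obj K)⟦(1 : ℤ)⟧ :=
  haveI : IsIso (DerivedCategory.triangleOfSESδ (seq_shortExact K)) :=
    (Triangle.isZero₂_iff_isIso₃ _
      (DerivedCategory.triangleOfSES_distinguished (seq_shortExact K))).1 (isZero_Q_cone (T K))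
  asIso (DerivedCategory.triangleOfSESδ (seq_shortExact K))

lemma seqIso_naturality {K L : CochainComplex A ℤ} (f : K ⟶ L) :
    (DerivedCategory.Q.map f)⟦(1 : ℤ)⟧' ≫ (seqIso L).inv =
      (seqIso K).inv ≫ DerivedCategory.Q.map (seqMap f).τ₃ := by
  rw [Iso.eq_inv_comp, ← Category.assoc, Iso.comp_inv_eq]
  exact DerivedCategory.triangleOfSESδ_naturality (seq_shortExact K) (seq_shortExact L) (seqMap f)

/-- The comparison. -/
noncomputable def τ : ∀ (d : ℕ) (K : CochainComplex A ℤ), Good F d K →
    ((RFh.RF F N hN).obj ((DerivedCategory.Q.obj K)⟦(d : ℤ)⟧) ≅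
      DerivedCategory.Q.obj ((GC F N hN d).obj K))
  | 0, K, hK =>
    (RFh.RF F N hN).mapIso ((shiftFunctorZero' (DerivedCategory A) ((0 : ℕ) : ℤ) rfl).app _) ≪≫
      RFh.RFobjIso F N hN K (acyc_of_good F hK) ≪≫
        DerivedCategory.Q.mapIso ((NatIso.mapHomologicalComplex
          (RFh.GIso F N hN 0 ≪≫ F.rightDerivedZeroIsoSelf) (.up ℤ)).app K).symm
  | d + 1, K, hK =>
    haveI := isIso_Q_δc F N hN d K hK
    (RFh.RF F N hN).mapIso
      ((shiftFunctorAdd' (DerivedCategory A) 1 (d : ℤ) ((d + 1 : ℕ) : ℤ) (by lia)).app _ ≪≫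
        (shiftFunctor (DerivedCategory A) (d : ℤ)).mapIso (seqIso K).symm) ≪≫
      τ d (seq K).X₃ (good_X₃ F d K hK) ≪≫
      asIso (DerivedCategory.Q.map (δc F N hN d (seq_shortExact_eval K)))

lemma τ_naturality : ∀ (d : ℕ) {K L : CochainComplex A ℤ} (f : K ⟶ L) (hK : Good F d K)
    (hL : Good F d L),
    (RFh.RF F N hN).map ((DerivedCategory.Q.map f)⟦(d : ℤ)⟧') ≫ (τ F N hN d L hL).hom =
      (τ F N hN d K hK).hom ≫ DerivedCategory.Q.map ((GC F N hN d).map f)
  | 0, K, L, f, hK, hL => by
    have h₁ := congrArg (RFh.RF F N hN).map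
      ((shiftFunctorZero' (DerivedCategory A) ((0 : ℕ) : ℤ) rfl).hom.naturality
        (DerivedCategory.Q.map f))
    have h₂ := RFh.RFobjIso_naturality F N hN f (acyc_of_good F hK)
      (acyc_of_good F hL)
    have h₃ := congrArg DerivedCategory.Q.map ((NatIso.mapHomologicalComplex
          (RFh.GIso F N hN 0 ≪≫ F.rightDerivedZeroIsoSelf) (.up ℤ)).inv.naturality f)
    simp only [Functor.map_comp, Functor.comp_map, Functor.id_map] at h₁ h₃
    simp only [τ, Iso.trans_hom, Functor.mapIso_hom, Iso.symm_hom, Iso.app_hom, Iso.app_inv,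
      Category.assoc]
    rw [reassoc_of% h₁, reassoc_of% h₂, h₃]
  | d + 1, K, L, f, hK, hL => by
    have h₁ := congrArg (RFh.RF F N hN).map
      ((shiftFunctorAdd' (DerivedCategory A) 1 (d : ℤ) ((d + 1 : ℕ) : ℤ) (by lia)).hom.naturality
        (DerivedCategory.Q.map f))
    have h₂ := congrArg (fun z => (RFh.RF F N hN).map ((shiftFunctor _ (d : ℤ)).map z))
      (seqIso_naturality f)
    have h₃ := τ_naturality d (seqMap f).τ₃ (good_X₃ F d K hK) (good_X₃ F d L hL)
    have h₄ := congrArg DerivedCategory.Q.map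
      (δc_naturality F N hN d (seq_shortExact_eval K) (seq_shortExact_eval L) (seqMap f))
    simp only [Functor.map_comp, Functor.comp_map] at h₁ h₂ h₄
    simp only [τ, Iso.trans_hom, Functor.mapIso_hom, Iso.symm_hom, Iso.app_hom, asIso_hom,
      Functor.map_comp, Category.assoc]
    rw [reassoc_of% h₁, reassoc_of% h₂, reassoc_of% h₃]
    exact congrArg _ (congrArg _ (congrArg _ h₄))

end Groth.Agent.Lib.DerCat.CohDimShift
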