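import Groth.Agent.Lib.DerivedOX.TrivCof
import Mathlib.CategoryTheory.Abelian.CommSq
import Mathlib.CategoryTheory.Functor.OfSequence
import Mathlib.CategoryTheory.Limits.Constructions.EventuallyConstant
import Mathlib.Algebra.Homology.HomologicalComplexLimits
import Mathlib.Data.ENat.Basic

/-!
# Resolutions by objects of dimension zero
-/

universe v u

open CategoryTheory CategoryTheory.Limits

namespace Groth.Agent.Lib.DerCat.DimZero

open Groth.Agent.Lib.DerivedOX.TrivCof

variable {A : Type u} [Category.{v} A] [Abelian A]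

/-- Pushouts of acyclic monomorphisms are acyclic monomorphisms. -/
lemma acycMono_of_isPushout {X Y Z W : CochainComplex A ℤ} {f : X ⟶ Y} {g : X ⟶ Z} {inl : Y ⟶ W}
    {inr : Z ⟶ W} (h : IsPushout f g inl inr) (hf : acycMono A f) : acycMono A inr := by
  have := hf.1
  refine ⟨Abelian.mono_inr_of_isColimit _ _ h.isColimit, ?_⟩
  let φ : cokernel f ⟶ cokernel inr := cokernel.desc f (inl ≫ cokernel.π inr)
    (by rw [h.w_assoc, cokernel.condition, comp_zero])
  let ψ : cokernel inr ⟶ cokernel f := cokernel.desc inr (h.desc (cokernel.π f) 0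
    (by rw [cokernel.condition, comp_zero])) (h.inr_desc _ _ _)
  let e : cokernel f ≅ cokernel inr :=
    { hom := φ, inv := ψ,
      hom_inv_id := by rw [← cancel_epi (cokernel.π f)]; simp [φ, ψ]
      inv_hom_id := by
        rw [← cancel_epi (cokernel.π inr)]
        apply h.hom_ext <;> simp [φ, ψ] }
  exact fun k => HomologicalComplex.ExactAt.of_iso (hf.2 k) e

lemma acycMono_of_acyclic {X Y : CochainComplex A ℤ} (f : X ⟶ Y) [Mono f] (hX : X.Acyclic)
    (hY : Y.Acyclic) : acycMono A f := by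
  refine ⟨inferInstance, ?_⟩
  have hS : (ShortComplex.mk f (cokernel.π f) (cokernel.condition f)).ShortExact :=
    ShortComplex.ShortExact.mk' (ShortComplex.exact_of_g_is_cokernel _ (cokernelIsCokernel f))
      inferInstance inferInstance
  exact hS.acyclic_X₃ ⟨fun i => (quasiIsoAt_iff_exactAt f i (hX i)).2 (hY i)⟩

variable (d : A → ℕ∞) (hiso : ∀ ⦃X Y : A⦄, Nonempty (X ≅ Y) → d X = d Y)
  (h1 : ∀ X : A, ∃ (Y : A) (ι : X ⟶ Y), Mono ι ∧ d Y = 0)
  (h2 : ∀ X Y : A, d (X ⊞ Y) ≤ max (d X) (d Y))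
  (h3 : ∀ S : ShortComplex A, S.ShortExact → d S.X₃ ≤ max (d S.X₁ - 1) (d S.X₂))

include hiso in
lemma d_eq_of_isIso {X Y : A} (f : X ⟶ Y) [IsIso f] : d X = d Y := hiso ⟨asIso f⟩

/-- The value of `d` as a natural number. -/
noncomputable def δ (L : CochainComplex A ℤ) (j : ℤ) : ℕ := (d (L.X j)).toNat

include hiso h1 h2 h3 in
/-- Make the term in degree `a` of dimension zero. -/
lemma exists_step (L : CochainComplex A ℤ) (hL : ∀ j, d (L.X j) ≠ ⊤) (a : ℤ) :
    ∃ (L' : CochainComplex A ℤ) (f : L ⟶ L'), QuasiIso f ∧ (∀ j, d (L'.X j) ≠ ⊤) ∧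
      δ d L' a = 0 ∧ δ d L' (a + 1) ≤ max (δ d L a - 1) (δ d L (a + 1)) ∧
      (∀ j, j ≠ a → j ≠ a + 1 → IsIso (f.f j)) ∧
      (δ d L a = 0 → ∀ j, IsIso (f.f j)) := by
  by_cases h0 : δ d L a = 0
  · exact ⟨L, 𝟙 L, inferInstance, hL, h0, le_max_right _ _, fun j _ _ => inferInstanceAs (IsIso (𝟙 _)),
      fun _ j => inferInstanceAs (IsIso (𝟙 _))⟩
  obtain ⟨I, ι, hι, hI⟩ := h1 (L.X a)
  let u : disk (L.X a) a ⟶ L := (fromDiskEquiv (L.X a) a L).symm (𝟙 _)
  let v : disk (L.X a) a ⟶ disk I a :=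
    (fromDiskEquiv (L.X a) a (disk I a)).symm (ι ≫ (diskIso₀ I a).inv)
  have hu : (diskIso₀ (L.X a) a).inv ≫ u.f a = 𝟙 _ := by
    rw [← fromDiskEquiv_apply, Equiv.apply_symm_apply]
  have hv : (diskIso₀ (L.X a) a).inv ≫ v.f a = ι ≫ (diskIso₀ I a).inv := by
    rw [← fromDiskEquiv_apply, Equiv.apply_symm_apply]
  have hua : IsIso (u.f a) := by
    rw [show u.f a = (diskIso₀ (L.X a) a).hom by rw [← cancel_epi (diskIso₀ (L.X a) a).inv, hu]; simp]
    infer_instance
  have hva : Mono (v.f a) := by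
    rw [show v.f a = (diskIso₀ (L.X a) a).hom ≫ ι ≫ (diskIso₀ I a).inv by
      rw [← cancel_epi (diskIso₀ (L.X a) a).inv, hv]; simp]
    infer_instance
  have hva1 : Mono (v.f (a + 1)) := by
    have e := v.comm a (a + 1)
    rw [disk_d, disk_d] at e
    have : v.f (a + 1) = (diskIso₁ (L.X a) a).hom ≫ (diskIso₀ (L.X a) a).inv ≫ v.f a ≫
        (diskIso₀ I a).hom ≫ (diskIso₁ I a).inv := by
      rw [e]; simp
    rw [this]
    infer_instance
  have : Mono v := HomologicalComplex.mono_of_mono_f v fun k => by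
    by_cases hk : k = a
    · subst hk; exact hva
    by_cases hk' : k = a + 1
    · subst hk'; exact hva1
    exact ⟨fun _ _ _ => (disk_isZero _ _ _ hk hk').eq_of_tgt _ _⟩
  let P := pushout v u
  let f : L ⟶ P := pushout.inr v u
  have hP : IsPushout v u (pushout.inl v u) f := IsPushout.of_hasPushout v u
  have hPk : ∀ k, IsPushout (v.f k) (u.f k) ((pushout.inl v u).f k) (f.f k) := fun k =>
    hP.map (HomologicalComplex.eval A (ComplexShape.up ℤ) k)
  have hf : ∀ j, j ≠ a → j ≠ a + 1 → IsIso (f.f j) := fun j hj hj' => by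
    have : IsIso (v.f j) := ⟨0, (disk_isZero _ _ _ hj hj').eq_of_src _ _,
      (disk_isZero _ _ _ hj hj').eq_of_src _ _⟩
    exact (hPk j).isIso_inr_of_isIso
  have hd0 : d (P.X a) = 0 := by
    have := (hPk a).isIso_inl_of_isIso
    rw [← d_eq_of_isIso d hiso ((pushout.inl v u).f a), hiso ⟨diskIso₀ I a⟩, hI]
  obtain ⟨e₁, he₁⟩ := WithTop.ne_top_iff_exists.1 (hL a)
  obtain ⟨e₂, he₂⟩ := WithTop.ne_top_iff_exists.1 (hL (a + 1))
  have hd1 : d (P.X (a + 1)) ≤ ((max (e₁ - 1) e₂ : ℕ) : ℕ∞) := by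
    have hS : (hPk (a + 1)).shortComplex.ShortExact := by
      refine ShortComplex.ShortExact.mk' (hPk (a + 1)).exact_shortComplex ?_ (hPk (a + 1)).epi_shortComplex_g
      exact @mono_of_mono_fac _ _ _ _ _ _ _ _ hva1 (biprod.lift_fst (v.f (a + 1)) (-(u.f (a + 1))))
    refine (h3 _ hS).trans ?_
    change max (d ((disk (L.X a) a).X (a + 1)) - 1) (d ((disk I a).X (a + 1) ⊞ L.X (a + 1))) ≤ _
    rw [hiso ⟨diskIso₁ (L.X a) a⟩]
    have := h2 ((disk I a).X (a + 1)) (L.X (a + 1))
    rw [hiso ⟨diskIso₁ I a⟩, hI, max_eq_right zero_le] at this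
    refine (max_le_max le_rfl this).trans (le_of_eq ?_)
    rw [← he₁, ← he₂]
    norm_cast
  have hfin : ∀ j, d (P.X j) ≠ ⊤ := fun j => by
    by_cases hj : j = a
    · subst hj; rw [hd0]; exact ENat.zero_ne_top
    by_cases hj' : j = a + 1
    · subst hj'; exact ne_top_of_le_ne_top (ENat.coe_ne_top _) hd1
    have := hf j hj hj'
    rw [← d_eq_of_isIso d hiso (f.f j)]
    exact hL j
  refine ⟨P, f, quasiIso_of_acycMono (acycMono_of_isPushout hP
    (acycMono_of_acyclic v (disk_acyclic _ _) (disk_acyclic _ _))), hfin,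
    by rw [δ, hd0]; rfl, ?_, hf, fun h => absurd h h0⟩
  refine (ENat.toNat_le_toNat hd1 (ENat.coe_ne_top _)).trans (le_of_eq ?_)
  rw [ENat.toNat_coe, δ, δ, ← he₁, ← he₂]
  rfl

include hiso h1 h2 h3 in
/-- Make the terms in an interval of degrees of dimension zero. -/
lemma exists_sweep (len : ℕ) : ∀ (L : CochainComplex A ℤ), (∀ j, d (L.X j) ≠ ⊤) → ∀ (a : ℤ),
    ∃ (L' : CochainComplex A ℤ) (f : L ⟶ L'), QuasiIso f ∧ (∀ j, d (L'.X j) ≠ ⊤) ∧
      (∀ j, a ≤ j → j < a + len → δ d L' j = 0) ∧ (∀ j, j < a → IsIso (f.f j)) ∧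
      (∀ k, a ≤ k → (∀ j, a ≤ j → j ≤ k → δ d L j = 0 ∨ j + δ d L j < k) → IsIso (f.f k)) := by
  induction len with
  | zero =>
    exact fun L hL a => ⟨L, 𝟙 L, inferInstance, hL, fun j h h' => by omega,
      fun j _ => inferInstanceAs (IsIso (𝟙 _)), fun k _ _ => inferInstanceAs (IsIso (𝟙 _))⟩
  | succ len ih =>
    intro L hL a
    obtain ⟨L₁, f₁, hq₁, hL₁, h0, hle, hf₁, hid⟩ := exists_step d hiso h1 h2 h3 L hL a
    obtain ⟨L₂, f₂, hq₂, hL₂, hz, hlt, hst⟩ := ih L₁ hL₁ (a + 1)
    have hcomp : ∀ j, IsIso (f₁.f j) → IsIso (f₂.f j) → IsIso ((f₁ ≫ f₂).f j) := fun j _ _ => by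
      rw [HomologicalComplex.comp_f]; infer_instance
    refine ⟨L₂, f₁ ≫ f₂, inferInstance, hL₂, fun j h h' => ?_,
      fun j hj => hcomp j (hf₁ j (by omega) (by omega)) (hlt j (by omega)), fun k hk H => ?_⟩
    · by_cases hj : j = a
      · subst hj
        have := hlt j (by omega)
        rw [δ, ← d_eq_of_isIso d hiso (f₂.f j)]
        exact h0
      · exact hz j (by omega) (by push_cast at h' ⊢; omega)
    · by_cases hka : k = a
      · subst hka
        have h00 : δ d L k = 0 := by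
          rcases H k le_rfl le_rfl with h | h
          · exact h
          · omega
        exact hcomp k (hid h00 k) (hlt k (by omega))
      have hk1 : IsIso (f₁.f k) := by
        rcases H a le_rfl hk with h | h
        · exact hid h k
        · by_cases h' : δ d L a = 0
          · exact hid h' k
          · exact hf₁ k hka (by omega)
      refine hcomp k hk1 (hst k (by omega) fun j hj hj' => ?_)
      by_cases hj1 : j = a + 1
      · subst hj1
        rcases H a le_rfl hk with h | h <;> rcases H (a + 1) (by omega) hj' with h' | h' <;> omega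
      · have := hf₁ j (by omega) hj1
        rw [show δ d L₁ j = δ d L j by rw [δ, δ, d_eq_of_isIso d hiso (f₁.f j)]]
        exact H j (by omega) hj'

variable (K : CochainComplex A ℤ)

/-- The stages of the construction. -/
structure Stage (s : ℕ) where
  obj : CochainComplex A ℤ
  map : K ⟶ obj
  qis : QuasiIso map
  fin : ∀ j, d (obj.X j) ≠ ⊤
  zero : ∀ j : ℤ, -(s : ℤ) ≤ j → j ≤ s → δ d obj j = 0
  low : ∀ j : ℤ, j < -(s : ℤ) → IsIso (map.f j)

include hiso h1 h2 h3 in
theorem exists_resolution (hfin : ∀ n : ℤ, d (K.X n) ≠ ⊤)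
    (hK : ∀ m : ℤ, ∃ N : ℤ, ∀ n : ℤ, n ≤ N → ∃ k : ℕ, d (K.X n) = k ∧ n + k ≤ m) :
    ∃ (L : CochainComplex A ℤ) (f : K ⟶ L), QuasiIso f ∧ ∀ n, d (L.X n) = 0 := by
  have start : Nonempty (Stage d K 0) := by
    obtain ⟨L', f, hq, hL', hz, hlt, -⟩ := exists_sweep d hiso h1 h2 h3 1 K hfin 0
    exact ⟨⟨L', f, hq, hL', fun j h h' => hz j (by simpa using h) (by push_cast at *; omega),
      fun j hj => hlt j (by simpa using hj)⟩⟩
  choose L' f hq hL' hz hlt hst using fun (s : ℕ) (S : Stage d K s) =>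
    exists_sweep d hiso h1 h2 h3 (2 * s + 3) S.obj S.fin (-((s + 1 : ℕ) : ℤ))
  let next : ∀ s, Stage d K s → Stage d K (s + 1) := fun s S =>
    { obj := L' s S
      map := S.map ≫ f s S
      qis := have := S.qis; have := hq s S; inferInstance
      fin := hL' s S
      zero := fun j h h' => hz s S j h (by push_cast at *; omega)
      low := fun j hj => by
        have := S.low j (by push_cast at *; omega)
        have := hlt s S j hj
        rw [HomologicalComplex.comp_f]
        infer_instance }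
  let S : ∀ s, Stage d K s := fun s => Nat.rec (Classical.choice start) next s
  let g : ∀ s, (S s).obj ⟶ (S (s + 1)).obj := fun s => f s (S s)
  have stab : ∀ k : ℤ, ∃ s₀ : ℕ, k.natAbs ≤ s₀ ∧ ∀ s, s₀ ≤ s → IsIso ((g s).f k) := by
    intro k
    obtain ⟨N, hN⟩ := hK (k - 1)
    refine ⟨k.natAbs + N.natAbs, by omega, fun s hs => hst s (S s) k (by omega) fun j hj hj' => ?_⟩
    by_cases hjs : -(s : ℤ) ≤ j
    · exact Or.inl ((S s).zero j hjs (by omega))
    · obtain ⟨e, he, hle⟩ := hN j (by omega)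
      have := (S s).low j (by omega)
      refine Or.inr ?_
      rw [δ, ← d_eq_of_isIso d hiso ((S s).map.f j), he, ENat.toNat_coe]
      omega
  let F : ℕ ⥤ CochainComplex A ℤ := Functor.ofSequence g
  have hF : ∀ k : ℤ, ∃ s₀ : ℕ, k.natAbs ≤ s₀ ∧
      (F ⋙ HomologicalComplex.eval A (ComplexShape.up ℤ) k).IsEventuallyConstantFrom s₀ := by
    intro k
    obtain ⟨s₀, hs₀, h⟩ := stab k
    refine ⟨s₀, hs₀, fun t φ => ?_⟩
    obtain ⟨m, rfl⟩ : ∃ m, t = s₀ + m := ⟨t - s₀, by have := leOfHom φ; omega⟩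
    induction m with
    | zero => rw [Subsingleton.elim φ (𝟙 _), CategoryTheory.Functor.map_id]; infer_instance
    | succ m ih =>
      have := ih (homOfLE (by omega))
      have := h (s₀ + m) (by omega)
      rw [show φ = (homOfLE (by omega) : s₀ ⟶ s₀ + m) ≫ homOfLE (Nat.le_succ (s₀ + m)) from
        Subsingleton.elim _ _, Functor.map_comp]
      have : IsIso ((F ⋙ HomologicalComplex.eval A (ComplexShape.up ℤ) k).map
          (homOfLE (Nat.le_succ (s₀ + m)))) := by
        change IsIso ((F.map (homOfLE (Nat.le_succ (s₀ + m)))).f k)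
        rw [show F.map (homOfLE (Nat.le_succ (s₀ + m))) = g (s₀ + m) from
          Functor.ofSequence_map_homOfLE_succ g _]
        exact this
      infer_instance
  choose s₀ hs₀ hc using hF
  have : ∀ k, HasColimit (F ⋙ HomologicalComplex.eval A (ComplexShape.up ℤ) k) := fun k =>
    (hc k).hasColimit
  have hι : ∀ (k : ℤ) (s : ℕ), s₀ k ≤ s → IsIso ((colimit.ι F s).f k) := fun k s hs =>
    ((hc k).postcomp (homOfLE hs)).isIso_ι_of_isColimit
      (isColimitOfPreserves (HomologicalComplex.eval A (ComplexShape.up ℤ) k) (colimit.isColimit F))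
  have hcomm : ∀ s, (S 0).map ≫ colimit.ι F 0 = (S s).map ≫ colimit.ι F s := by
    intro s
    induction s with
    | zero => rfl
    | succ s ih =>
      rw [ih, ← colimit.w F (homOfLE (Nat.le_succ s)),
        show F.map (homOfLE (Nat.le_succ s)) = g s from Functor.ofSequence_map_homOfLE_succ g _]
      exact (Category.assoc _ _ _).symm
  refine ⟨colimit F, (S 0).map ≫ colimit.ι F 0, ⟨fun k => ?_⟩, fun k => ?_⟩
  · let s := s₀ (k - 1) + s₀ k + s₀ (k + 1)
    rw [hcomm s]
    have h2q : QuasiIsoAt (colimit.ι F s) k := by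
      rw [quasiIsoAt_iff' _ (k - 1) k (k + 1) (by simp) (by simp)]
      let φ := (HomologicalComplex.shortComplexFunctor' A (ComplexShape.up ℤ) (k - 1) k (k + 1)).map
        (colimit.ι F s)
      have : IsIso φ.τ₁ := hι (k - 1) s (by omega)
      have : IsIso φ.τ₂ := hι k s (by omega)
      have : IsIso φ.τ₃ := hι (k + 1) s (by omega)
      apply ShortComplex.quasiIso_of_epi_of_isIso_of_mono
    have := (S s).qis
    have : QuasiIsoAt (S s).map k := inferInstance
    rw [quasiIsoAt_iff_isIso_homologyMap] at h2q this ⊢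
    rw [HomologicalComplex.homologyMap_comp]
    exact IsIso.comp_isIso' this h2q
  · have := hι k (s₀ k) le_rfl
    rw [← d_eq_of_isIso d hiso ((colimit.ι F (s₀ k)).f k)]
    have h := (S (s₀ k)).zero k (by have := hs₀ k; omega) (by have := hs₀ k; omega)
    rw [δ, ENat.toNat_eq_zero] at h
    exact h.resolve_right ((S (s₀ k)).fin k)

end Groth.Agent.Lib.DerCat.DimZero
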