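import Mathlib.Algebra.Homology.DerivedCategory.Fractions
import Mathlib.Algebra.Homology.DerivedCategory.Ext.ExactSequences
import Mathlib.Algebra.Homology.DerivedCategory.TStructure

/-!
# Classes in positive degree are killed by an epimorphism
-/

universe w v u

open CategoryTheory CategoryTheory.Limits CategoryTheory.Abelian

namespace Groth.Agent.Lib.DerCat.ExtEff

variable {A : Type u} [Category.{v} A] [Abelian A] [HasDerivedCategory.{w} A]

/-- A morphism `single₀ B ⟶ single_k C` with `k ≠ 0` in the derived category becomes zero after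
precomposition with an epimorphism. -/
lemma exists_epi_comp_eq_zero {B C : A} (k : ℤ) (hk : k ≠ 0)
    (f : (DerivedCategory.singleFunctor A 0).obj B ⟶ (DerivedCategory.singleFunctor A k).obj C) :
    ∃ (B' : A) (p : B' ⟶ B), Epi p ∧ (DerivedCategory.singleFunctor A 0).map p ≫ f = 0 := by
  have : CochainComplex.IsStrictlyLE ((CochainComplex.singleFunctor A 0).obj B) 0 := inferInstance
  obtain ⟨X', hX', s, hs, g, hf⟩ :=
    DerivedCategory.right_fac_of_isStrictlyLE (X := (CochainComplex.singleFunctor A 0).obj B)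
      (Y := (CochainComplex.singleFunctor A k).obj C) f 0
  refine ⟨X'.X 0, s.f 0 ≫ (HomologicalComplex.singleObjXSelf (ComplexShape.up ℤ) 0 B).hom, ?_, ?_⟩
  · have hd : X'.d 0 1 = 0 := (X'.isZero_of_isStrictlyLE 0 1 (by omega)).eq_of_tgt _ _
    let S0 := (CochainComplex.singleFunctor A 0).obj B
    have : IsIso (X'.iCycles 0) := X'.isIso_iCycles 0 1 (by simp) hd
    have hd' : S0.d (-1) 0 = 0 :=
      (S0.isZero_of_isStrictlyGE 0 (-1) (by omega)).eq_of_src _ _
    have : IsIso (S0.homologyπ 0) := S0.isIso_homologyπ (-1) 0 (by simp) hd'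
    have : IsIso (S0.iCycles 0) :=
      S0.isIso_iCycles 0 1 (by simp) ((S0.isZero_of_isStrictlyLE 0 1 (by omega)).eq_of_tgt _ _)
    have : QuasiIso s := (DerivedCategory.isIso_Q_map_iff_quasiIso _ s).1 hs
    have e1 : HomologicalComplex.cyclesMap s 0 =
        X'.homologyπ 0 ≫ HomologicalComplex.homologyMap s 0 ≫ inv (S0.homologyπ 0) := by
      rw [HomologicalComplex.homologyπ_naturality_assoc, IsIso.hom_inv_id, Category.comp_id]
    have e2 : s.f 0 = inv (X'.iCycles 0) ≫ HomologicalComplex.cyclesMap s 0 ≫ S0.iCycles 0 := by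
      rw [HomologicalComplex.cyclesMap_i, IsIso.inv_hom_id_assoc]
    rw [e2, e1]
    infer_instance
  · let ι : (CochainComplex.singleFunctor A 0).obj (X'.X 0) ⟶ X' :=
      HomologicalComplex.mkHomFromSingle (𝟙 _) (fun j hj => by
        change 0 + 1 = j at hj
        exact (X'.isZero_of_isStrictlyLE 0 j (by omega)).eq_of_tgt _ _)
    have h1 : ι ≫ s = (CochainComplex.singleFunctor A 0).map
        (s.f 0 ≫ (HomologicalComplex.singleObjXSelf (ComplexShape.up ℤ) 0 B).hom) := by
      apply HomologicalComplex.from_single_hom_ext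
      change _ = ((HomologicalComplex.single A (ComplexShape.up ℤ) 0).map
        (s.f 0 ≫ (HomologicalComplex.singleObjXSelf (ComplexShape.up ℤ) 0 B).hom)).f 0
      simp only [ι, HomologicalComplex.comp_f, HomologicalComplex.mkHomFromSingle_f,
        HomologicalComplex.single_map_f_self, Category.comp_id, Category.assoc]
      erw [Iso.hom_inv_id, Category.comp_id]
      rfl
    have h2 : ι ≫ g = 0 := by
      apply HomologicalComplex.from_single_hom_ext
      exact (HomologicalComplex.isZero_single_obj_X (ComplexShape.up ℤ) k C 0 (Ne.symm hk)).eq_of_tgt _ _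
    change DerivedCategory.Q.map ((CochainComplex.singleFunctor A 0).map
        (s.f 0 ≫ (HomologicalComplex.singleObjXSelf (ComplexShape.up ℤ) 0 B).hom)) ≫ f = 0
    rw [← h1, Functor.map_comp, hf, Category.assoc]
    erw [IsIso.hom_inv_id_assoc, ← Functor.map_comp, h2, Functor.map_zero]
    rfl

end Groth.Agent.Lib.DerCat.ExtEff
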