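import Groth.Agent.Lib.DerCat.KInjFunctor
import Groth.Prelude.Def_SpSeq
import Mathlib.Algebra.Homology.DerivedCategory.ShortExact
import Mathlib.Algebra.Homology.HomologicalComplexLimits
import Mathlib.Algebra.Homology.HomologicalComplexBiprod

/-!
# Filtered K-injective resolutions
-/

universe v u

open CategoryTheory CategoryTheory.Limits CochainComplex.HomComplex

namespace Groth.Agent.Lib.DerCat.FilKInj

variable {A : Type u} [Category.{v} A] [Abelian A]

section Contractible

/-- A retraction of the inclusion into the cone of the identity. -/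
abbrev Contr (K : CochainComplex A ℤ) : Type v :=
  {r : CochainComplex.mappingCone (𝟙 K) ⟶ K // CochainComplex.mappingCone.inr (𝟙 K) ≫ r = 𝟙 K}

/-- The null homotopy of a contraction. -/
noncomputable def Contr.homotopy {K : CochainComplex A ℤ} (r : Contr K) : Homotopy (𝟙 K) 0 :=
  (Homotopy.ofEq (show 𝟙 K = CochainComplex.mappingCone.inr (𝟙 K) ≫ 𝟙 _ ≫ r.1 by
    rw [Category.id_comp, r.2])).trans
    ((((CochainComplex.mappingCone.homotopyToZeroOfId K).compRight r.1).compLeft
      (CochainComplex.mappingCone.inr (𝟙 K))).trans (Homotopy.ofEq (by simp)))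

/-- The contraction of the cone of an identity. -/
noncomputable def coneContr (T : CochainComplex A ℤ) : Contr (CochainComplex.mappingCone (𝟙 T)) :=
  ⟨CochainComplex.mappingCone.desc (𝟙 _)
      ((Cochain.equivHomotopy _ _ (CochainComplex.mappingCone.homotopyToZeroOfId T)).1) (𝟙 _)
      (by
        have h := (Cochain.equivHomotopy _ _ (CochainComplex.mappingCone.homotopyToZeroOfId T)).2
        simp only [Cochain.ofHom_zero, add_zero] at h
        simpa using h.symm),
    CochainComplex.mappingCone.inr_desc _ _ _ _⟩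

/-- A product of contractible complexes is contractible. -/
noncomputable def piContr {ι : Type*} (C : ι → CochainComplex A ℤ) [HasProduct C]
    (r : ∀ i, Contr (C i)) : Contr (∏ᶜ C) :=
  ⟨Pi.lift fun i => CochainComplex.mappingCone.map (𝟙 (∏ᶜ C)) (𝟙 (C i)) (Pi.π C i) (Pi.π C i)
      (by simp) ≫ (r i).1,
    Pi.hom_ext _ _ fun i => by
      simp [CochainComplex.mappingCone.map, (r i).2]⟩

lemma isKInjective_of_contr {K : CochainComplex A ℤ} (r : Contr K) : K.IsKInjective where
  nonempty_homotopy_zero {X} f _ :=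
    ⟨(Homotopy.ofEq (Category.comp_id f).symm).trans
      ((r.homotopy.compLeft f).trans (Homotopy.ofEq (by simp)))⟩

lemma isKInjective_biprod (X Y : CochainComplex A ℤ) [X.IsKInjective] [Y.IsKInjective] :
    (X ⊞ Y).IsKInjective where
  nonempty_homotopy_zero {Z} f hZ :=
    ⟨(Homotopy.ofEq (show f = (f ≫ biprod.fst) ≫ biprod.inl + (f ≫ biprod.snd) ≫ biprod.inr by
        simp only [Category.assoc, ← Preadditive.comp_add, biprod.total, Category.comp_id])).trans
      ((((CochainComplex.IsKInjective.homotopyZero (f ≫ biprod.fst) hZ).compRight biprod.inl).add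
        ((CochainComplex.IsKInjective.homotopyZero (f ≫ biprod.snd) hZ).compRight biprod.inr)).trans
        (Homotopy.ofEq (by simp)))⟩

lemma injective_biprod_X (X Y : CochainComplex A ℤ) (n : ℤ) [Injective (X.X n)]
    [Injective (Y.X n)] : Injective ((X ⊞ Y).X n) :=
  Injective.of_iso (HomologicalComplex.biprodXIso X Y n).symm inferInstance

lemma injective_pi_X {ι : Type v} (C : ι → CochainComplex A ℤ) [HasProduct C]
    [HasProductsOfShape ι A] (h : ∀ i n, Injective ((C i).X n)) (n : ℤ) :
    Injective ((∏ᶜ C).X n) := by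
  have : ∀ i, Injective ((HomologicalComplex.eval A (ComplexShape.up ℤ) n).obj (C i)) :=
    fun i => h i n
  exact Injective.of_iso (PreservesProduct.iso (HomologicalComplex.eval A _ n) C).symm inferInstance

/-- The projection away from a contractible factor. -/
noncomputable def fstEquiv (X : CochainComplex A ℤ) {Y : CochainComplex A ℤ} (r : Contr Y) :
    HomotopyEquiv (X ⊞ Y) X where
  hom := biprod.fst
  inv := biprod.inl
  homotopyHomInvId :=
    ((Homotopy.ofEq (add_zero (biprod.fst ≫ biprod.inl)).symm).trans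
      ((Homotopy.refl (biprod.fst ≫ biprod.inl : X ⊞ Y ⟶ X ⊞ Y)).add
        ((r.homotopy.symm.compRight biprod.inr).compLeft biprod.snd |>.trans (Homotopy.refl _)
          |> fun h => (Homotopy.ofEq (show (0 : X ⊞ Y ⟶ X ⊞ Y) = biprod.snd ≫ 0 ≫ biprod.inr by
            simp)).trans (h.trans (Homotopy.ofEq (by simp)))))).trans
      (Homotopy.ofEq biprod.total)
  homotopyInvHomId := Homotopy.ofEq biprod.inl_fst

end Contractible

section Cokernel

lemma injective_cokernel {X Y : A} (f : X ⟶ Y) [Mono f] [Injective X] [Injective Y] :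
    Injective (cokernel f) := by
  let S := ShortComplex.mk f (cokernel.π f) (cokernel.condition f)
  have hS : S.ShortExact := ShortComplex.ShortExact.mk'
    (ShortComplex.exact_of_g_is_cokernel _ (cokernelIsCokernel f)) inferInstance inferInstance
  have : Injective S.X₁ := inferInstanceAs (Injective X)
  have s : S.Splitting := ShortComplex.Splitting.ofExactOfRetraction S hS.exact
    (Injective.factorThru (𝟙 X) f) (Injective.comp_factorThru _ _) hS.epi_g
  exact ({ i := s.s, r := S.g, retract := s.s_g } : Retract (cokernel f) Y).injective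

variable {X Y : CochainComplex A ℤ} (f : X ⟶ Y) [Mono f]

lemma injective_cokernel_X (hX : ∀ n, Injective (X.X n)) (hY : ∀ n, Injective (Y.X n)) (n : ℤ) :
    Injective ((cokernel f).X n) :=
  have := hX n
  have := hY n
  have := injective_cokernel (f.f n)
  Injective.of_iso (PreservesCokernel.iso (HomologicalComplex.eval A _ n) f).symm this

lemma isKInjective_cokernel [X.IsKInjective] [Y.IsKInjective] (hX : ∀ n, Injective (X.X n)) :
    (cokernel f).IsKInjective where
  nonempty_homotopy_zero {W} φ hW := by
    let S := ShortComplex.mk f (cokernel.π f) (cokernel.condition f)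
    have hS : S.ShortExact := ShortComplex.ShortExact.mk'
      (ShortComplex.exact_of_g_is_cokernel _ (cokernelIsCokernel f)) inferInstance inferInstance
    have hp := (HomologicalComplex.shortExact_iff_degreewise_shortExact S).1 hS
    have sp : ∀ n, (S.map (HomologicalComplex.eval A (ComplexShape.up ℤ) n)).Splitting := fun n =>
      have : Injective (S.map (HomologicalComplex.eval A (ComplexShape.up ℤ) n)).X₁ := hX n
      have := (hp n).mono_f
      ShortComplex.Splitting.ofExactOfRetraction _ (hp n).exact
        (Injective.factorThru (𝟙 _) _) (Injective.comp_factorThru _ _) (hp n).epi_g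
    let β : Cochain W Y 0 := Cochain.ofHoms fun n => φ.f n ≫ (sp n).s
    have hβ : β.comp (Cochain.ofHom S.g) (add_zero 0) = Cochain.ofHom φ := by
      ext n
      simp only [β, Cochain.comp_zero_cochain_v, Cochain.ofHoms_v, Cochain.ofHom_v, Category.assoc]
      exact (congrArg (φ.f n ≫ ·) (sp n).s_g).trans (Category.comp_id _)
    have hz : ∀ p q (h : p + 1 = q), (δ 0 1 β).v p q h ≫ S.g.f q = 0 := fun p q h => by
      have e := Cochain.congr_v (δ_comp_ofHom β S.g 1) p q h
      rw [hβ, δ_ofHom, Cochain.comp_zero_cochain_v, Cochain.ofHom_v] at e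
      exact e.symm
    let z : Cochain W X 1 := Cochain.mk fun p q h => (δ 0 1 β).v p q h ≫ (sp q).r
    have hz' : z.comp (Cochain.ofHom S.f) (add_zero 1) = δ 0 1 β := by
      ext p q h
      simp only [z, Cochain.comp_zero_cochain_v, Cochain.ofHom_v, Cochain.mk_v, Category.assoc]
      let r' : S.X₂.X q ⟶ S.X₁.X q := (sp q).r
      let s' : S.X₃.X q ⟶ S.X₂.X q := (sp q).s
      have e : r' ≫ S.f.f q + S.g.f q ≫ s' = 𝟙 _ := (sp q).id
      calc (δ 0 1 β).v p q h ≫ r' ≫ S.f.f q
          = (δ 0 1 β).v p q h ≫ (r' ≫ S.f.f q + S.g.f q ≫ s') := by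
            rw [Preadditive.comp_add, reassoc_of% (hz p q h), zero_comp, add_zero]
        _ = (δ 0 1 β).v p q h := by rw [e, Category.comp_id]
    have hc : δ 1 2 z = 0 := by
      have e : (δ 1 2 z).comp (Cochain.ofHom S.f) (add_zero 2) = 0 := by
        rw [← δ_comp_ofHom, hz', δ_δ]
      ext p q h
      have : Mono (S.f.f q) := (hp q).mono_f
      rw [← cancel_mono (S.f.f q), Cochain.zero_v, zero_comp]
      have e' := Cochain.congr_v e p q h
      rw [Cochain.comp_zero_cochain_v, Cochain.ofHom_v, Cochain.zero_v] at e'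
      exact e'
    obtain ⟨w, hw⟩ := KInjLift.exists_δ_eq (I := X) hW 1 0 (zero_add 1) (Cocycle.mk z 2 rfl hc)
    have hb : δ 0 1 (β - w.comp (Cochain.ofHom S.f) (add_zero 0)) = 0 := by
      rw [δ_sub, δ_comp_ofHom, hw]
      exact sub_eq_zero.2 hz'.symm
    let ψ : W ⟶ Y := Cocycle.homOf (Cocycle.mk _ 1 rfl hb)
    have hψ : ψ ≫ S.g = φ := by
      ext n
      have e := Cochain.congr_v hβ n n (add_zero n)
      simp only [Cochain.comp_zero_cochain_v, Cochain.ofHom_v] at e
      change (β - w.comp (Cochain.ofHom S.f) (add_zero 0)).v n n (add_zero n) ≫ S.g.f n = φ.f n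
      rw [Cochain.sub_v, Preadditive.sub_comp, e, Cochain.comp_zero_cochain_v, Cochain.ofHom_v,
        Category.assoc, ← HomologicalComplex.comp_f, S.zero, HomologicalComplex.zero_f, comp_zero,
        sub_zero]
    exact ⟨(Homotopy.ofEq hψ.symm).trans
      (((CochainComplex.IsKInjective.homotopyZero ψ hW).compRight S.g).trans
        (Homotopy.ofEq zero_comp))⟩

end Cokernel

lemma quasiIso_τ₃ {S₁ S₂ : ShortComplex (CochainComplex A ℤ)} (h₁ : S₁.ShortExact)
    (h₂ : S₂.ShortExact) (f : S₁ ⟶ S₂) [QuasiIso f.τ₁] [QuasiIso f.τ₂] : QuasiIso f.τ₃ := by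
  letI := HasDerivedCategory.standard A
  rw [← DerivedCategory.isIso_Q_map_iff_quasiIso]
  exact Pretriangulated.isIso₃_of_isIso₁₂ (DerivedCategory.triangleOfSES.map h₁ h₂ f)
    (DerivedCategory.triangleOfSES_distinguished h₁) (DerivedCategory.triangleOfSES_distinguished h₂)
    ((DerivedCategory.isIso_Q_map_iff_quasiIso _ f.τ₁).2 inferInstance)
    ((DerivedCategory.isIso_Q_map_iff_quasiIso _ f.τ₂).2 inferInstance)

end Groth.Agent.Lib.DerCat.FilKInj
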