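import Groth.Agent.Lib.DerCat.FilKInj

/-!
# The filtered K-injective resolution of a filtered complex
-/

universe v u

open CategoryTheory CategoryTheory.Limits CochainComplex.HomComplex

namespace Groth.Agent.Lib.DerCat.FilKInjRes

open FilKInj KInjFunctor

variable {A : Type u} [Category.{v} A] [Abelian A]

/-- A map into the cone of an identity is determined by its second component. -/
lemma hom_ext_cone {K T : CochainComplex A ℤ} {φ ψ : K ⟶ CochainComplex.mappingCone (𝟙 T)}
    (h : ∀ n, φ.f n ≫ (CochainComplex.mappingCone.snd (𝟙 T)).v n n (add_zero n) =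
      ψ.f n ≫ (CochainComplex.mappingCone.snd (𝟙 T)).v n n (add_zero n)) : φ = ψ := by
  ext n
  refine CochainComplex.mappingCone.ext_to _ n (n + 1) rfl ?_ (h n)
  have key : ∀ (χ : K ⟶ CochainComplex.mappingCone (𝟙 T)),
      χ.f n ≫ (CochainComplex.mappingCone.fst (𝟙 T)).1.v n (n + 1) rfl =
        K.d n (n + 1) ≫ χ.f (n + 1) ≫
          (CochainComplex.mappingCone.snd (𝟙 T)).v (n + 1) (n + 1) (add_zero _) -
        χ.f n ≫ (CochainComplex.mappingCone.snd (𝟙 T)).v n n (add_zero n) ≫ T.d n (n + 1) :=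
    fun χ => by
      rw [← χ.comm_assoc, CochainComplex.mappingCone.d_snd_v _ n (n + 1) rfl]
      simp
  rw [key, key, h, reassoc_of% (h n)]

variable [IsGrothendieckAbelian.{v} A]

/-- Extension of maps to cones of identities of complexes with injective terms. -/
lemma exists_extension {X K T : CochainComplex A ℤ} (a : X ⟶ K) [Mono a] (t : X ⟶ T)
    (hT : ∀ n, Injective (T.X n)) :
    ∃ e : K ⟶ CochainComplex.mappingCone (𝟙 T), a ≫ e = t ≫ CochainComplex.mappingCone.inr (𝟙 T) := by
  have := hT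
  let β : Cochain K T 0 := Cochain.ofHoms fun n => Injective.factorThru (t.f n) (a.f n)
  refine ⟨CochainComplex.mappingCone.lift (𝟙 T) (Cocycle.mk (-δ 0 1 β) 2 rfl (by simp [δ_δ])) β
    (by simp), hom_ext_cone fun n => ?_⟩
  simp [β]

variable (K : SpSeq.FilCx A)

/-- The resolution of a step. -/
noncomputable abbrev Rp (p : ℤ) : CochainComplex A ℤ := (R A).obj (K.step p)

/-- The transition maps between the resolutions. -/
noncomputable abbrev r {p q : ℤ} (h : p ≤ q) : Rp K q ⟶ Rp K p := (R A).map (K.stepLE h)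

lemma r_comp {p q s : ℤ} (h : p ≤ q) (h' : q ≤ s) : r K h' ≫ r K h = r K (h.trans h') := by
  simp only [r, SpSeq.FilObj.stepLE, ← Functor.map_comp, Subobject.ofLE_comp_ofLE]

lemma r_self (p : ℤ) (h : p ≤ p) : r K h = 𝟙 _ := by
  simp [r, SpSeq.FilObj.stepLE, Subobject.ofLE_refl]

/-- The contractible slot. -/
noncomputable abbrev C (q : ℤ) : CochainComplex A ℤ := CochainComplex.mappingCone (𝟙 (Rp K q))

/-- The inclusion in a slot. -/
noncomputable abbrev inr (q : ℤ) : Rp K q ⟶ C K q := CochainComplex.mappingCone.inr (𝟙 (Rp K q))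

instance (q : ℤ) : Mono (inr K q) :=
  HomologicalComplex.mono_of_mono_f _ fun n =>
    mono_of_mono_fac (CochainComplex.mappingCone.inr_f_snd_v (𝟙 (Rp K q)) n)

/-- The slots of the `p`-th step. -/
abbrev Idx (p : ℤ) : Type v := ULift.{v} {q : ℤ // p < q}

/-- The slots of the `p`-th step, together. -/
noncomputable abbrev Pr (p : ℤ) : CochainComplex A ℤ := ∏ᶜ fun q : Idx.{v} p => C K q.down.1

/-- All the slots together. -/
noncomputable abbrev Pr' : CochainComplex A ℤ := ∏ᶜ fun q : ULift.{v} ℤ => C K q.down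

/-- The `p`-th step of the resolution. -/
noncomputable abbrev J (p : ℤ) : CochainComplex A ℤ := Rp K p ⊞ Pr K p

/-- The total object of the resolution. -/
noncomputable abbrev J' : CochainComplex A ℤ := (R A).obj K.obj ⊞ Pr' K

/-- The component of a map out of a step into the slot `q`. -/
noncomputable def comp (p q : ℤ) : J K p ⟶ C K q :=
  if h : p < q then biprod.snd ≫ Pi.π (fun i : Idx.{v} p => C K i.down.1) ⟨⟨q, h⟩⟩
  else biprod.fst ≫ r K (not_lt.1 h) ≫ inr K q

lemma comp_of_lt {p q : ℤ} (h : p < q) :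
    comp K p q = biprod.snd ≫ Pi.π (fun i : Idx.{v} p => C K i.down.1) ⟨⟨q, h⟩⟩ := dif_pos h

lemma comp_of_le {p q : ℤ} (h : q ≤ p) : comp K p q = biprod.fst ≫ r K h ≫ inr K q :=
  dif_neg (not_lt.2 h)

/-- The inclusion of a step in the total object. -/
noncomputable def ψ (p : ℤ) : J K p ⟶ J' K :=
  biprod.lift (biprod.fst ≫ (R A).map (K.fil p).arrow) (Pi.lift fun q => comp K p q.down)

/-- The inclusion of a step in a larger one. -/
noncomputable def τ {p p' : ℤ} (h : p ≤ p') : J K p' ⟶ J K p :=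
  biprod.lift (biprod.fst ≫ r K h) (Pi.lift fun q => comp K p' q.down.1)

lemma τ_comp {p p' : ℤ} (h : p ≤ p') (q : ℤ) : τ K h ≫ comp K p q = comp K p' q := by
  by_cases hq : p < q
  · rw [comp_of_lt K hq, τ, biprod.lift_snd_assoc, Pi.lift_π]
  · replace hq := not_lt.1 hq
    rw [comp_of_le K hq, comp_of_le K (hq.trans h), τ, biprod.lift_fst_assoc, Category.assoc,
      ← Category.assoc (r K h), r_comp]

lemma τ_ψ {p p' : ℤ} (h : p ≤ p') : τ K h ≫ ψ K p = ψ K p' := by
  refine biprod.hom_ext _ _ ?_ (Pi.hom_ext _ _ fun q => ?_)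
  · simp [τ, ψ, SpSeq.FilObj.stepLE, ← Functor.map_comp]
  · simp [ψ, τ_comp]

instance mono_ψ (p : ℤ) : Mono (ψ K p) := Preadditive.mono_of_cancel_zero _ fun {Z} x hx => by
  have hq : ∀ q, x ≫ comp K p q = 0 := fun q => by
    simpa [ψ] using hx =≫ (biprod.snd ≫ Pi.π (fun i : ULift.{v} ℤ => C K i.down) ⟨q⟩)
  refine biprod.hom_ext _ _ ?_ (Pi.hom_ext _ _ fun q => ?_)
  · have h := hq p
    rw [comp_of_le K le_rfl, r_self, Category.id_comp, ← Category.assoc] at h
    rw [zero_comp]
    exact zero_of_comp_mono _ h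
  · have h := hq q.down.1
    rw [comp_of_lt K q.down.2, ← Category.assoc] at h
    rw [zero_comp, zero_comp]
    exact h

/-- The filtered resolution. -/
noncomputable def res : SpSeq.FilCx A where
  obj := J' K
  fil p := Subobject.mk (ψ K p)
  anti _ _ h := Subobject.mk_le_mk_of_comm (τ K h) (τ_ψ K h)

lemma injective_R (M : CochainComplex A ℤ) (n : ℤ) : Injective (((R A).obj M).X n) :=
  (kinj_R M).2 n

lemma injective_C (q : ℤ) (n : ℤ) : Injective ((C K q).X n) :=
  have := injective_R (K.step q)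
  Injective.of_iso (HomologicalComplex.homotopyCofiber.XIsoBiprod (𝟙 (Rp K q)) n (n + 1) rfl).symm
    inferInstance

lemma injective_J (p n : ℤ) : Injective ((J K p).X n) :=
  have := injective_R (K.step p) n
  have := injective_pi_X (fun q : Idx.{v} p => C K q.down.1) (fun q m => injective_C K q.down.1 m) n
  injective_biprod_X _ _ n

lemma injective_J' (n : ℤ) : Injective ((J' K).X n) :=
  have := injective_R K.obj n
  have := injective_pi_X (fun q : ULift.{v} ℤ => C K q.down) (fun q m => injective_C K q.down m) n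
  injective_biprod_X _ _ n

lemma isKInjective_J (p : ℤ) : (J K p).IsKInjective :=
  have := (kinj_R (K.step p)).1
  have := isKInjective_of_contr (piContr (fun q : Idx.{v} p => C K q.down.1) fun _ => coneContr _)
  isKInjective_biprod _ _

lemma isKInjective_J' : (J' K).IsKInjective :=
  have := (kinj_R K.obj).1
  have := isKInjective_of_contr (piContr (fun q : ULift.{v} ℤ => C K q.down) fun _ => coneContr _)
  isKInjective_biprod _ _

/-- The chosen extension to a slot. -/
noncomputable def ext (q : ℤ) : K.obj ⟶ C K q :=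
  (exists_extension (K.fil q).arrow ((KInjFunctor.j A).app (K.step q))
    (injective_R (K.step q))).choose

lemma arrow_ext (q : ℤ) : (K.fil q).arrow ≫ ext K q = (KInjFunctor.j A).app (K.step q) ≫ inr K q :=
  (exists_extension (K.fil q).arrow ((KInjFunctor.j A).app (K.step q))
    (injective_R (K.step q))).choose_spec

/-- The augmentation of the total object. -/
noncomputable def g' : K.obj ⟶ J' K :=
  biprod.lift ((KInjFunctor.j A).app K.obj) (Pi.lift fun q => ext K q.down)

/-- The augmentation of a step. -/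
noncomputable def g (p : ℤ) : K.step p ⟶ J K p :=
  biprod.lift ((KInjFunctor.j A).app (K.step p))
    (Pi.lift fun q => (K.fil p).arrow ≫ ext K q.down.1)

lemma g_comp (p q : ℤ) : g K p ≫ comp K p q = (K.fil p).arrow ≫ ext K q := by
  by_cases hq : p < q
  · rw [comp_of_lt K hq, g, biprod.lift_snd_assoc, Pi.lift_π]
  · replace hq := not_lt.1 hq
    have h := (KInjFunctor.j A).naturality (K.stepLE hq)
    dsimp at h
    rw [comp_of_le K hq, g, biprod.lift_fst_assoc, ← reassoc_of% h, ← arrow_ext,
      Subobject.ofLE_arrow_assoc]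

lemma g_ψ (p : ℤ) : g K p ≫ ψ K p = (K.fil p).arrow ≫ g' K := by
  refine biprod.hom_ext _ _ ?_ (Pi.hom_ext _ _ fun q => ?_)
  · have h := (KInjFunctor.j A).naturality (K.fil p).arrow
    dsimp at h
    simp [g, ψ, g', h]
  · simp [ψ, g', g_comp]

lemma quasiIso_of_fst {X M Y : CochainComplex A ℤ} (f : X ⟶ M ⊞ Y) (r : Contr Y)
    [QuasiIso (f ≫ biprod.fst)] : QuasiIso f :=
  have : QuasiIso (biprod.fst : M ⊞ Y ⟶ M) := (fstEquiv M r).quasiIso_hom
  quasiIso_of_comp_right f biprod.fst

lemma quasiIso_g (p : ℤ) : QuasiIso (g K p) :=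
  have : QuasiIso (g K p ≫ biprod.fst) := by
    rw [g, biprod.lift_fst]
    exact quasiIso_j _
  quasiIso_of_fst _ (piContr (fun q : Idx.{v} p => C K q.down.1) fun _ => coneContr _)

lemma quasiIso_g' : QuasiIso (g' K) :=
  have : QuasiIso (g' K ≫ biprod.fst) := by
    rw [g', biprod.lift_fst]
    exact quasiIso_j _
  quasiIso_of_fst _ (piContr (fun q : ULift.{v} ℤ => C K q.down) fun _ => coneContr _)

/-- The augmentation as a map of subobjects. -/
noncomputable def gs (p : ℤ) : K.step p ⟶ (res K).step p :=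
  g K p ≫ (Subobject.underlyingIso (ψ K p)).inv

lemma gs_arrow (p : ℤ) : gs K p ≫ ((res K).fil p).arrow = (K.fil p).arrow ≫ g' K := by
  rw [gs, Category.assoc]
  exact (congrArg (g K p ≫ ·) (Subobject.underlyingIso_arrow (ψ K p))).trans (g_ψ K p)

lemma quasiIso_gs (p : ℤ) : QuasiIso (gs K p) := by
  have := quasiIso_g K p
  unfold gs
  infer_instance

lemma injective_step (p n : ℤ) : Injective (((res K).step p).X n) :=
  Injective.of_iso ((HomologicalComplex.eval A _ n).mapIso (Subobject.underlyingIso (ψ K p)).symm)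
    (injective_J K p n)

lemma isKInjective_step (p : ℤ) : ((res K).step p).IsKInjective :=
  have := isKInjective_J K p
  CochainComplex.IsKInjective.mk fun {X} f hX => by
    let e := Subobject.underlyingIso (ψ K p)
    exact ⟨(Homotopy.ofEq (show f = (f ≫ e.hom) ≫ e.inv by
      exact ((Category.assoc _ _ _).trans ((congrArg (f ≫ ·) e.hom_inv_id).trans (Category.comp_id f))).symm)).trans
      (((CochainComplex.IsKInjective.homotopyZero (f ≫ e.hom) hX).compRight e.inv).trans
        (Homotopy.ofEq zero_comp))⟩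

/-- The required properties. -/
theorem main : ∃ (J : SpSeq.FilCx A) (j : K ⟶ J),
    (∀ n p : ℤ, Injective (J.obj.X n) ∧ Injective ((J.XFil n).step p) ∧
      Injective ((J.XFil n).quot p) ∧
      ∀ (p' : ℤ) (h : p ≤ p'), Injective (cokernel ((J.XFil n).stepLE h))) ∧
    (CochainComplex.IsKInjective J.obj ∧ ∀ p : ℤ, CochainComplex.IsKInjective (J.step p) ∧
      CochainComplex.IsKInjective (J.quot p) ∧
      ∀ (p' : ℤ) (h : p ≤ p'), CochainComplex.IsKInjective (cokernel (J.stepLE h))) ∧
    QuasiIso j.hom ∧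
    (∀ p : ℤ, ∃ jp : K.step p ⟶ J.step p, jp ≫ (J.fil p).arrow = (K.fil p).arrow ≫ j.hom ∧
      QuasiIso jp ∧
      (∀ (p' : ℤ) (h : p ≤ p'), ∃ (jp' : K.step p' ⟶ J.step p')
        (jg : cokernel (K.stepLE h) ⟶ cokernel (J.stepLE h)),
        jp' ≫ (J.fil p').arrow = (K.fil p').arrow ≫ j.hom ∧
        jp' ≫ J.stepLE h = K.stepLE h ≫ jp ∧
        cokernel.π (K.stepLE h) ≫ jg = jp ≫ cokernel.π (J.stepLE h) ∧ QuasiIso jg)) ∧
    (∀ p : ℤ, ∃ jq : K.quot p ⟶ J.quot p,
      cokernel.π (K.fil p).arrow ≫ jq = j.hom ≫ cokernel.π (J.fil p).arrow ∧ QuasiIso jq) := by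
  let J₀ := res K
  have hJ : J₀.obj.IsKInjective := isKInjective_J' K
  have hs := isKInjective_step K
  have hI : ∀ n, Injective (J₀.obj.X n) := injective_J' K
  have hX : ∀ n p, Injective ((J₀.XFil n).step p) := fun n p =>
    Injective.of_iso (Subobject.underlyingIso ((J₀.fil p).arrow.f n)).symm (injective_step K p n)
  refine ⟨J₀, ⟨g' K, fun p => Subobject.le_of_comm
      ((Subobject.isPullback (g' K) (J₀.fil p)).lift (gs K p) (K.fil p).arrow (gs_arrow K p))
      ((Subobject.isPullback (g' K) (J₀.fil p)).lift_snd _ _ _)⟩, fun n p => ?_, ?_, quasiIso_g' K,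
    fun p => ?_, fun p => ?_⟩
  · have : Injective (J₀.XFil n).obj := hI n
    exact ⟨hI n, hX n p, have := hX n p; injective_cokernel _,
      fun p' h => have := hX n p; have := hX n p'; injective_cokernel _⟩
  · exact ⟨hJ, fun p => ⟨hs p, have := hs p; isKInjective_cokernel _ (injective_step K p),
      fun p' h => have := hs p; have := hs p'; isKInjective_cokernel _ (injective_step K p')⟩⟩
  · refine ⟨gs K p, gs_arrow K p, quasiIso_gs K p, fun p' h => ?_⟩
    have w : gs K p' ≫ J₀.stepLE h = K.stepLE h ≫ gs K p := by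
      rw [← cancel_mono (J₀.fil p).arrow, Category.assoc, Category.assoc, gs_arrow,
        Subobject.ofLE_arrow, gs_arrow]
      exact (congrArg (· ≫ g' K) (Subobject.ofLE_arrow (K.anti h)).symm).trans (Category.assoc _ _ _)
    refine ⟨gs K p', cokernel.map _ _ (gs K p') (gs K p) w.symm, gs_arrow K p', w,
      cokernel.π_desc _ _ _, ?_⟩
    have := quasiIso_gs K p
    have := quasiIso_gs K p'
    let S₁ := ShortComplex.mk (K.stepLE h) (cokernel.π _) (cokernel.condition _)
    let S₂ := ShortComplex.mk (J₀.stepLE h) (cokernel.π _) (cokernel.condition _)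
    let f : S₁ ⟶ S₂ :=
      { τ₁ := gs K p'
        τ₂ := gs K p
        τ₃ := cokernel.map _ _ (gs K p') (gs K p) w.symm
        comm₁₂ := w
        comm₂₃ := (cokernel.π_desc _ _ _).symm }
    have : QuasiIso f.τ₁ := inferInstanceAs (QuasiIso (gs K p'))
    have : QuasiIso f.τ₂ := inferInstanceAs (QuasiIso (gs K p))
    exact quasiIso_τ₃ (ShortComplex.ShortExact.mk'
        (ShortComplex.exact_of_g_is_cokernel _ (cokernelIsCokernel _)) inferInstance inferInstance)
      (ShortComplex.ShortExact.mk'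
        (ShortComplex.exact_of_g_is_cokernel _ (cokernelIsCokernel _)) inferInstance inferInstance) f
  · refine ⟨cokernel.map _ _ (gs K p) (g' K) (gs_arrow K p).symm, cokernel.π_desc _ _ _, ?_⟩
    have := quasiIso_gs K p
    have := quasiIso_g' K
    let S₁ := ShortComplex.mk (K.fil p).arrow (cokernel.π _) (cokernel.condition _)
    let S₂ := ShortComplex.mk (J₀.fil p).arrow (cokernel.π _) (cokernel.condition _)
    let f : S₁ ⟶ S₂ :=
      { τ₁ := gs K p
        τ₂ := g' K
        τ₃ := cokernel.map _ _ (gs K p) (g' K) (gs_arrow K p).symm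
        comm₁₂ := gs_arrow K p
        comm₂₃ := (cokernel.π_desc _ _ _).symm }
    have : QuasiIso f.τ₁ := inferInstanceAs (QuasiIso (gs K p))
    have : QuasiIso f.τ₂ := inferInstanceAs (QuasiIso (g' K))
    exact quasiIso_τ₃ (ShortComplex.ShortExact.mk'
        (ShortComplex.exact_of_g_is_cokernel _ (cokernelIsCokernel _)) inferInstance inferInstance)
      (ShortComplex.ShortExact.mk'
        (ShortComplex.exact_of_g_is_cokernel _ (cokernelIsCokernel _)) inferInstance inferInstance) f

end Groth.Agent.Lib.DerCat.FilKInjRes
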