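import Groth.Agent.Lib.DerCat.FilKInjRes
import Mathlib.Algebra.Homology.DerivedCategory.KInjective

/-!
# Filtered complexes representing systems in the derived category
-/

universe w v u

open CategoryTheory CategoryTheory.Limits

namespace Groth.Agent.Lib.DerCat.FilRep

open FilKInj

variable {A : Type u} [Category.{v} A] [Abelian A] [HasDerivedCategory.{w} A]

lemma exists_homotopy {X I : CochainComplex A ℤ} [I.IsKInjective] (f g : X ⟶ I)
    (h : DerivedCategory.Q.map f = DerivedCategory.Q.map g) : Nonempty (Homotopy f g) := by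
  refine ⟨HomotopyCategory.homotopyOfEq f g
    ((CochainComplex.IsKInjective.Qh_map_bijective _ I).1 ?_)⟩
  have hf := (DerivedCategory.quotientCompQhIso A).hom.naturality f
  have hg := (DerivedCategory.quotientCompQhIso A).hom.naturality g
  rw [← cancel_mono ((DerivedCategory.quotientCompQhIso A).hom.app I)]
  exact hf.trans ((congrArg (_ ≫ ·) h).trans hg.symm)

lemma exists_map {X I : CochainComplex A ℤ} [I.IsKInjective]
    (f : DerivedCategory.Q.obj X ⟶ DerivedCategory.Q.obj I) :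
    ∃ g : X ⟶ I, DerivedCategory.Q.map g = f := by
  let e := DerivedCategory.quotientCompQhIso A
  obtain ⟨φ, hφ⟩ := (CochainComplex.IsKInjective.Qh_map_bijective
    ((HomotopyCategory.quotient A _).obj X) I).2 (e.hom.app X ≫ f ≫ e.inv.app I)
  obtain ⟨g, rfl⟩ := (HomotopyCategory.quotient A _).map_surjective φ
  refine ⟨g, ?_⟩
  rw [← cancel_epi (e.hom.app X), ← cancel_mono (e.inv.app I), Category.assoc, Category.assoc,
    ← hφ]
  have h := e.hom.naturality g
  dsimp at h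
  erw [← reassoc_of% h, e.hom_inv_id_app, Category.comp_id]

open Classical in
/-- Modify a map up to homotopy so that it restricts strictly. -/
lemma exists_modify {X Y I : CochainComplex A ℤ} [I.IsKInjective] (hI : ∀ n, Injective (I.X n))
    (a : X ⟶ Y) [Mono a] (u : Y ⟶ I) (v : X ⟶ I)
    (h : DerivedCategory.Q.map (a ≫ u) = DerivedCategory.Q.map v) :
    ∃ u' : Y ⟶ I, a ≫ u' = v ∧ DerivedCategory.Q.map u' = DerivedCategory.Q.map u := by
  obtain ⟨H⟩ := exists_homotopy v (a ≫ u) h.symm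
  have := hI
  let h' : ∀ i j, Y.X i ⟶ I.X j := fun i j =>
    if (ComplexShape.up ℤ).Rel j i then Injective.factorThru (H.hom i j) (a.f i) else 0
  have hh : (fun i j => a.f i ≫ h' i j) = H.hom := by
    ext i j
    by_cases hij : (ComplexShape.up ℤ).Rel j i
    · simp only [h', if_pos hij]
      exact Injective.comp_factorThru _ _
    · simp only [h', if_neg hij, comp_zero]
      exact (H.zero i j hij).symm
  refine ⟨Homotopy.nullHomotopicMap h' + u, ?_, ?_⟩
  · rw [Preadditive.comp_add, Homotopy.comp_nullHomotopicMap, hh]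
    ext n
    exact (H.comm n).symm
  · refine DerivedCategory.Q_map_eq_of_homotopy _ ((Homotopy.nullHomotopy h' fun i j hij => ?_).add
      (Homotopy.refl u) |>.trans (Homotopy.ofEq (zero_add u)))
    exact if_neg hij

variable (K : ℤ → CochainComplex A ℤ) (s : ∀ i j : ℤ, i + 1 = j → (K j ⟶ K i))

/-- Composite transition maps. -/
noncomputable def Tn : ∀ (k : ℕ) (p q : ℤ), p + k = q → (K q ⟶ K p)
  | 0, p, q, h => eqToHom (by rw [← h]; simp)
  | k + 1, p, q, h => s (q - 1) q (by lia) ≫ Tn k p (q - 1) (by lia)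

lemma Tn_comp : ∀ (m k : ℕ) (p q r : ℤ) (h : p + k = q) (h' : q + m = r),
    Tn K s m q r h' ≫ Tn K s k p q h = Tn K s (k + m) p r (by lia)
  | 0, k, p, q, r, h, h' => by
    obtain rfl : q = r := by lia
    simp [Tn]
  | m + 1, k, p, q, r, h, h' => by
    change (s (r - 1) r _ ≫ Tn K s m q (r - 1) _) ≫ _ = s (r - 1) r _ ≫ Tn K s (k + m) p (r - 1) _
    rw [Category.assoc, Tn_comp m k p q (r - 1) h (by lia)]

/-- Transition maps. -/
noncomputable def T {p q : ℤ} (h : p ≤ q) : K q ⟶ K p := Tn K s (q - p).toNat p q (by lia)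

lemma T_eq {p q : ℤ} (h : p ≤ q) (k : ℕ) (hk : p + k = q) : T K s h = Tn K s k p q hk := by
  obtain rfl : (q - p).toNat = k := by lia
  rfl

lemma T_comp {p q r : ℤ} (h : p ≤ q) (h' : q ≤ r) : T K s h' ≫ T K s h = T K s (h.trans h') := by
  obtain ⟨k, rfl⟩ := Int.le.dest h
  obtain ⟨m, rfl⟩ := Int.le.dest h'
  rw [T_eq K s h k rfl, T_eq K s h' m rfl, T_eq K s (h.trans h') (k + m) (by lia), Tn_comp]

lemma T_self (p : ℤ) (h : p ≤ p) : T K s h = 𝟙 _ := by
  rw [T_eq K s h 0 (by simp)]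
  simp [Tn]

lemma T_succ (i j : ℤ) (hij : i + 1 = j) (h : i ≤ j) : T K s h = s i j hij := by
  rw [T_eq K s h 1 (by lia)]
  obtain rfl : i = j - 1 := by lia
  simp [Tn]

variable [IsGrothendieckAbelian.{v} A]

/-- The contractible slot. -/
noncomputable abbrev C (q : ℤ) : CochainComplex A ℤ := CochainComplex.mappingCone (𝟙 (K q))

/-- The inclusion in a slot. -/
noncomputable abbrev inr (q : ℤ) : K q ⟶ C K q := CochainComplex.mappingCone.inr (𝟙 (K q))

instance (q : ℤ) : Mono (inr K q) :=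
  HomologicalComplex.mono_of_mono_f _ fun n =>
    mono_of_mono_fac (CochainComplex.mappingCone.inr_f_snd_v (𝟙 (K q)) n)

/-- The slots of the `p`-th step, together. -/
noncomputable abbrev Pr (p : ℤ) : CochainComplex A ℤ :=
  ∏ᶜ fun q : FilKInjRes.Idx.{v} p => C K q.down.1

/-- All the slots together. -/
noncomputable abbrev Pr' : CochainComplex A ℤ := ∏ᶜ fun q : ULift.{v} ℤ => C K q.down

/-- The strictified step. -/
noncomputable abbrev J (p : ℤ) : CochainComplex A ℤ := K p ⊞ Pr K p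

/-- The component of a map out of a step into the slot `q`. -/
noncomputable def comp (p q : ℤ) : J K p ⟶ C K q :=
  if h : p < q then biprod.snd ≫ Pi.π (fun i : FilKInjRes.Idx.{v} p => C K i.down.1) ⟨⟨q, h⟩⟩
  else biprod.fst ≫ T K s (not_lt.1 h) ≫ inr K q

lemma comp_of_lt {p q : ℤ} (h : p < q) : comp K s p q =
    biprod.snd ≫ Pi.π (fun i : FilKInjRes.Idx.{v} p => C K i.down.1) ⟨⟨q, h⟩⟩ := dif_pos h

lemma comp_of_le {p q : ℤ} (h : q ≤ p) : comp K s p q = biprod.fst ≫ T K s h ≫ inr K q :=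
  dif_neg (not_lt.2 h)

/-- The inclusion of a step in a larger one. -/
noncomputable def τ {p p' : ℤ} (h : p ≤ p') : J K p' ⟶ J K p :=
  biprod.lift (biprod.fst ≫ T K s h) (Pi.lift fun q => comp K s p' q.down.1)

lemma τ_fst {p p' : ℤ} (h : p ≤ p') : τ K s h ≫ biprod.fst = biprod.fst ≫ T K s h :=
  biprod.lift_fst _ _

lemma τ_compo {p p' : ℤ} (h : p ≤ p') (q : ℤ) : τ K s h ≫ comp K s p q = comp K s p' q := by
  by_cases hq : p < q
  · rw [comp_of_lt K s hq, τ, biprod.lift_snd_assoc, Pi.lift_π]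
  · replace hq := not_lt.1 hq
    rw [comp_of_le K s hq, comp_of_le K s (hq.trans h), τ, biprod.lift_fst_assoc, Category.assoc,
      ← Category.assoc (T K s h), T_comp]

lemma τ_τ {p q r : ℤ} (h : p ≤ q) (h' : q ≤ r) : τ K s h' ≫ τ K s h = τ K s (h.trans h') := by
  refine biprod.hom_ext _ _ ?_ (Pi.hom_ext _ _ fun i => ?_)
  · simp only [Category.assoc, τ_fst]
    rw [← Category.assoc, τ_fst, Category.assoc, T_comp]
  · simp only [Category.assoc]
    change τ K s h' ≫ τ K s h ≫ biprod.snd ≫ Pi.π _ i = τ K s (h.trans h') ≫ biprod.snd ≫ Pi.π _ i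
    rw [← comp_of_lt K s i.down.2, τ_compo, τ_compo, τ_compo]

lemma eq_zero_of_comp {p : ℤ} {Z : CochainComplex A ℤ} (x : Z ⟶ J K p)
    (hx : ∀ q, x ≫ comp K s p q = 0) : x = 0 := by
  refine biprod.hom_ext _ _ ?_ (Pi.hom_ext _ _ fun q => ?_)
  · have h := hx p
    rw [comp_of_le K s le_rfl, T_self, Category.id_comp, ← Category.assoc] at h
    rw [zero_comp]
    exact zero_of_comp_mono _ h
  · have h := hx q.down.1
    rw [comp_of_lt K s q.down.2, ← Category.assoc] at h
    rw [zero_comp, zero_comp]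
    exact h

instance mono_τ {p p' : ℤ} (h : p ≤ p') : Mono (τ K s h) :=
  Preadditive.mono_of_cancel_zero _ fun {Z} x hx => eq_zero_of_comp K s x fun q => by
    rw [← τ_compo K s h q, reassoc_of% hx, zero_comp]

lemma quasiIso_fst (p : ℤ) : QuasiIso (biprod.fst : J K p ⟶ K p) :=
  (fstEquiv (K p)
    (piContr (fun q : FilKInjRes.Idx.{v} p => C K q.down.1) fun _ => coneContr _)).quasiIso_hom

variable {I : CochainComplex A ℤ} [I.IsKInjective] (hI : ∀ n, Injective (I.X n))
  (α : ∀ p, K p ⟶ I)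
  (hα : ∀ (i j : ℤ) (h : i + 1 = j),
    DerivedCategory.Q.map (s i j h ≫ α i) = DerivedCategory.Q.map (α j))

include hα in
lemma Q_T_α {p q : ℤ} (h : p ≤ q) :
    DerivedCategory.Q.map (T K s h ≫ α p) = DerivedCategory.Q.map (α q) := by
  obtain ⟨k, rfl⟩ := Int.le.dest h
  induction k with
  | zero =>
    have : ∀ (q : ℤ) (e : p = q) (h : p ≤ q),
        DerivedCategory.Q.map (T K s h ≫ α p) = DerivedCategory.Q.map (α q) := by
      rintro q rfl h
      rw [T_self, Category.id_comp]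
    exact this _ (by simp) h
  | succ k ih =>
    have h₁ : p + (k : ℤ) ≤ p + ((k + 1 : ℕ) : ℤ) := by lia
    rw [← T_comp K s (show p ≤ p + (k : ℤ) by lia) h₁, Category.assoc, Functor.map_comp,
      ih (by lia), ← Functor.map_comp, T_succ K s _ _ (by lia) h₁, hα]

include hI hα in
lemma exists_γ (n : ℕ) (v : J K (-(n : ℤ)) ⟶ I)
    (hv : DerivedCategory.Q.map v = DerivedCategory.Q.map (biprod.fst ≫ α (-(n : ℤ)))) :
    ∃ v' : J K (-((n + 1 : ℕ) : ℤ)) ⟶ I,
      τ K s (show -((n + 1 : ℕ) : ℤ) ≤ -(n : ℤ) by lia) ≫ v' = v ∧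
      DerivedCategory.Q.map v' = DerivedCategory.Q.map (biprod.fst ≫ α _) := by
  refine exists_modify hI _ _ v ?_
  rw [← Category.assoc, τ_fst, Category.assoc, Functor.map_comp, Q_T_α K s α hα, hv,
    ← Functor.map_comp]

/-- The strictified maps to `I`, downwards. -/
noncomputable def γ : ∀ n : ℕ, {v : J K (-(n : ℤ)) ⟶ I //
    DerivedCategory.Q.map v = DerivedCategory.Q.map (biprod.fst ≫ α (-(n : ℤ)))}
  | 0 => ⟨biprod.fst ≫ α _, rfl⟩
  | n + 1 => ⟨(exists_γ K s hI α hα n (γ n).1 (γ n).2).choose,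
      (exists_γ K s hI α hα n (γ n).1 (γ n).2).choose_spec.2⟩

lemma τ_γ_succ (n : ℕ) :
    τ K s (show -((n + 1 : ℕ) : ℤ) ≤ -(n : ℤ) by lia) ≫ (γ K s hI α hα (n + 1)).1 =
      (γ K s hI α hα n).1 :=
  (exists_γ K s hI α hα n (γ K s hI α hα n).1 (γ K s hI α hα n).2).choose_spec.1

lemma τ_γ {p : ℤ} (m n : ℕ) (hn : -(n : ℤ) ≤ p) :
    τ K s (show -((n + m : ℕ) : ℤ) ≤ p by lia) ≫ (γ K s hI α hα (n + m)).1 =
      τ K s hn ≫ (γ K s hI α hα n).1 := by
  induction m with
  | zero => rfl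
  | succ m ih =>
    rw [← ih, ← τ_γ_succ K s hI α hα (n + m), ← Category.assoc, τ_τ]
    rfl

/-- The strictified maps to `I`. -/
noncomputable def β (p : ℤ) : J K p ⟶ I :=
  τ K s (show -(((-p).toNat : ℕ) : ℤ) ≤ p by lia) ≫ (γ K s hI α hα (-p).toNat).1

lemma β_eq (p : ℤ) (n : ℕ) (hn : -(n : ℤ) ≤ p) :
    β K s hI α hα p = τ K s hn ≫ (γ K s hI α hα n).1 := by
  obtain ⟨m, rfl⟩ : ∃ m, n = (-p).toNat + m := ⟨n - (-p).toNat, by lia⟩
  exact (τ_γ K s hI α hα m (-p).toNat (by lia)).symm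

lemma τ_β {p p' : ℤ} (h : p ≤ p') : τ K s h ≫ β K s hI α hα p = β K s hI α hα p' := by
  rw [β_eq K s hI α hα p' (-p).toNat (by lia), β, ← Category.assoc, τ_τ]

lemma Q_β (p : ℤ) :
    DerivedCategory.Q.map (β K s hI α hα p) = DerivedCategory.Q.map (biprod.fst ≫ α p) := by
  rw [β, Functor.map_comp, (γ K s hI α hα _).2, ← Functor.map_comp, ← Category.assoc, τ_fst,
    Category.assoc, Functor.map_comp, Q_T_α K s α hα, ← Functor.map_comp]

/-- The inclusion of a step in the total object. -/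
noncomputable def ψ (p : ℤ) : J K p ⟶ I ⊞ Pr' K :=
  biprod.lift (β K s hI α hα p) (Pi.lift fun q => comp K s p q.down)

lemma τ_ψ {p p' : ℤ} (h : p ≤ p') : τ K s h ≫ ψ K s hI α hα p = ψ K s hI α hα p' := by
  refine biprod.hom_ext _ _ ?_ (Pi.hom_ext _ _ fun q => ?_)
  · simp [ψ, τ_β]
  · simp [ψ, τ_compo]

instance mono_ψ (p : ℤ) : Mono (ψ K s hI α hα p) :=
  Preadditive.mono_of_cancel_zero _ fun {Z} x hx => eq_zero_of_comp K s x fun q => by
    simpa [ψ] using hx =≫ (biprod.snd ≫ Pi.π (fun i : ULift.{v} ℤ => C K i.down) ⟨q⟩)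

/-- The filtered complex. -/
noncomputable def fil : SpSeq.FilCx A where
  obj := I ⊞ Pr' K
  fil p := Subobject.mk (ψ K s hI α hα p)
  anti _ _ h := Subobject.mk_le_mk_of_comm (τ K s h) (τ_ψ K s hI α hα h)

include hI hα in
/-- The realization. -/
theorem exists_fil : ∃ (X : SpSeq.FilCx A) (e : DerivedCategory.Q.obj X.obj ≅ DerivedCategory.Q.obj I)
    (ei : ∀ i : ℤ, DerivedCategory.Q.obj (X.step i) ≅ DerivedCategory.Q.obj (K i)),
    (∀ i : ℤ, DerivedCategory.Q.map (X.fil i).arrow ≫ e.hom =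
      (ei i).hom ≫ DerivedCategory.Q.map (α i)) ∧
    (∀ i : ℤ, DerivedCategory.Q.map (X.stepLE (le_of_lt (Int.lt_succ_self i))) ≫ (ei i).hom =
      (ei (i + 1)).hom ≫ DerivedCategory.Q.map (s i (i + 1) rfl)) := by
  let X := fil K s hI α hα
  have : QuasiIso (biprod.fst : I ⊞ Pr' K ⟶ I) :=
    (fstEquiv I (piContr (fun q : ULift.{v} ℤ => C K q.down) fun _ => coneContr _)).quasiIso_hom
  have := quasiIso_fst K
  have : IsIso (DerivedCategory.Q.map (biprod.fst : I ⊞ Pr' K ⟶ I)) :=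
    (DerivedCategory.isIso_Q_map_iff_quasiIso _ _).2 ‹_›
  have : ∀ i, IsIso (DerivedCategory.Q.map (biprod.fst : J K i ⟶ K i)) := fun i =>
    (DerivedCategory.isIso_Q_map_iff_quasiIso _ _).2 (quasiIso_fst K i)
  refine ⟨X, @asIso _ _ _ _ (DerivedCategory.Q.map (biprod.fst : I ⊞ Pr' K ⟶ I))
      ((DerivedCategory.isIso_Q_map_iff_quasiIso _ _).2
        (fstEquiv I (piContr (fun q : ULift.{v} ℤ => C K q.down) fun _ => coneContr _)).quasiIso_hom),
    fun i => DerivedCategory.Q.mapIso (Subobject.underlyingIso (ψ K s hI α hα i)) ≪≫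
      asIso (DerivedCategory.Q.map (biprod.fst : J K i ⟶ K i)), fun i => ?_, fun i => ?_⟩
  · simp only [Iso.trans_hom, Functor.mapIso_hom, asIso_hom, Category.assoc, ← Functor.map_comp]
    rw [Functor.map_comp DerivedCategory.Q _ (biprod.fst ≫ α i), ← Q_β K s hI α hα,
      ← Functor.map_comp]
    refine congrArg DerivedCategory.Q.map ?_
    change (Subobject.mk (ψ K s hI α hα i)).arrow ≫ _ = _
    rw [← Subobject.underlyingIso_hom_comp_eq_mk, Category.assoc]
    exact congrArg (_ ≫ ·) (biprod.lift_fst _ _)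
  · simp only [Iso.trans_hom, Functor.mapIso_hom, asIso_hom, Category.assoc, ← Functor.map_comp]
    refine congrArg DerivedCategory.Q.map ?_
    have h : i ≤ i + 1 := by lia
    rw [← T_succ K s i (i + 1) rfl h, ← τ_fst K s h, ← Category.assoc, ← Category.assoc]
    refine congrArg (· ≫ biprod.fst) ?_
    refine (cancel_mono (ψ K s hI α hα i)).1 ((Category.assoc _ _ _).trans
      ((congrArg (_ ≫ ·) (Subobject.underlyingIso_hom_comp_eq_mk _)).trans
        ((Subobject.ofLE_arrow _).trans (((Category.assoc _ _ _).trans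
          ((congrArg (_ ≫ ·) (τ_ψ K s hI α hα h)).trans
            (Subobject.underlyingIso_hom_comp_eq_mk _))).symm))))

end Groth.Agent.Lib.DerCat.FilRep
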