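import Groth.Agent.Lib.DerCat.FinDimRes

/-!
# Functors of finite cohomological dimension on unbounded complexes
-/

universe w w' v v' u u'

open CategoryTheory CategoryTheory.Limits

namespace Groth.Agent.Lib.DerCat.FinDim

open Termwise RFObj RFAcyclic

variable {A : Type u} [Category.{v} A] [Abelian A] [EnoughInjectives A]
  {B : Type u'} [Category.{v'} B] [Abelian B] (F : A ⥤ B) [F.Additive]

/-- Vanishing of `RⁱF` in degrees `> d`. -/
def VAbove (d : ℕ) : ObjectProperty A := fun X => ∀ i, d < i → IsZero ((F.rightDerived i).obj X)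

/-- Acyclic objects form an additive class. -/
theorem acyc_isAdditiveClass : IsAdditiveClass (Acyc F) where
  zero _ h := acyc_of_isZero F h
  iso e h := acyc_of_iso F e h
  biprod h h' := acyc_biprod F h h'

variable {F}

/-- The relevant exactness of the long sequence. -/
lemma isZero_X₃_of (S : ShortComplex A) (hS : S.ShortExact) (i : ℕ)
    (h₂ : IsZero ((F.rightDerived i).obj S.X₂)) (h₁ : IsZero ((F.rightDerived (i + 1)).obj S.X₁)) :
    IsZero ((F.rightDerived i).obj S.X₃) := by
  letI : HasDerivedCategory A := HasDerivedCategory.standard A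
  letI : HasDerivedCategory B := HasDerivedCategory.standard B
  obtain ⟨δ, w₁, w₂, w₃, -, e, -⟩ := exists_les (F := F) hS (i : ℤ)
  exact (e.isZero_X₂ ((h₂.of_iso ((HRFNatIso F i).app S.X₂)).eq_of_src _ _)
    ((h₁.of_iso ((HRFNatIso F (i + 1)).app S.X₁)).eq_of_tgt _ _)).of_iso
      ((HRFNatIso F i).app S.X₃).symm

lemma isZero_X₁_succ_of (S : ShortComplex A) (hS : S.ShortExact) (i : ℕ)
    (h₃ : IsZero ((F.rightDerived i).obj S.X₃))
    (h₂ : IsZero ((F.rightDerived (i + 1)).obj S.X₂)) :
    IsZero ((F.rightDerived (i + 1)).obj S.X₁) := by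
  letI : HasDerivedCategory A := HasDerivedCategory.standard A
  letI : HasDerivedCategory B := HasDerivedCategory.standard B
  obtain ⟨δ, w₁, w₂, w₃, -, -, e⟩ := exists_les (F := F) hS (i : ℤ)
  exact (e.isZero_X₂ ((h₃.of_iso ((HRFNatIso F i).app S.X₃)).eq_of_src _ _)
    ((h₂.of_iso ((HRFNatIso F (i + 1)).app S.X₂)).eq_of_tgt _ _)).of_iso
      ((HRFNatIso F (i + 1)).app S.X₁).symm

lemma isZero_X₁_zero_of (S : ShortComplex A) (hS : S.ShortExact)
    (h₂ : IsZero ((F.rightDerived 0).obj S.X₂)) : IsZero ((F.rightDerived 0).obj S.X₁) := by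
  letI : HasDerivedCategory A := HasDerivedCategory.standard A
  letI : HasDerivedCategory B := HasDerivedCategory.standard B
  have := preservesFiniteLimits_rightDerived_zero F
  have := hS.mono_f
  exact IsZero.of_mono ((F.rightDerived 0).map S.f) h₂

lemma acyc_injective' (X : A) [Injective X] : Acyc F X := acyc_injective F X

section Right

variable (n : ℕ) (hn : ∀ X : A, IsZero ((F.rightDerived n).obj X))

include hn in
/-- Dimension shifting. -/
lemma isZero_of_le (m : ℕ) (h : n ≤ m) : ∀ X : A, IsZero ((F.rightDerived m).obj X) := by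
  induction m, h using Nat.le_induction with
  | base => exact hn
  | succ m hm ih =>
    intro X
    let S := ShortComplex.mk (Injective.ι X) (cokernel.π (Injective.ι X)) (cokernel.condition _)
    have hS : S.ShortExact := ShortComplex.ShortExact.mk'
      (ShortComplex.exact_of_g_is_cokernel _ (cokernelIsCokernel _)) inferInstance inferInstance
    exact isZero_X₁_succ_of S hS m (ih _) (F.isZero_rightDerived_obj_injective_succ m (Injective.under X))

variable [PreservesFiniteLimits F]

include hn in
/-- `F` is exact on exact complexes of acyclic objects. -/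
theorem acyclic_map (N : CochainComplex A ℤ) (hX : ∀ k, Acyc F (N.X k)) (hN : N.Acyclic) :
    ((F.mapHomologicalComplex (.up ℤ)).obj N).Acyclic := by
  have key : ∀ d (k : ℤ) (i : ℕ), 0 < i → n ≤ i + d →
      IsZero ((F.rightDerived i).obj (N.cycles k)) := by
    intro d
    induction d with
    | zero => exact fun k i _ h => isZero_of_le n hn i (by simpa using h) _
    | succ d ih =>
      intro k i hi h
      obtain ⟨j, rfl⟩ : ∃ j : ℤ, k = j + 1 := ⟨k - 1, by lia⟩
      exact isZero_X₃_of (cycSeq N j) (cycSeq_shortExact N hN j) i (hX _ i hi)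
        (ih j (i + 1) (by lia) (by lia))
  intro k
  refine exactAt_map_of_cycles F N hN (fun i => ?_) k
  letI : HasDerivedCategory A := HasDerivedCategory.standard A
  letI : HasDerivedCategory B := HasDerivedCategory.standard B
  exact shortExact_map_of_acyclic (cycSeq_shortExact N hN i) (key n i 1 one_pos (by lia))

omit [PreservesFiniteLimits F] in
include hn in
/-- Every complex is quasi-isomorphic to one with acyclic terms. -/
theorem exists_res (X : HomotopyCategory A (.up ℤ)) :
    ∃ (R : HomotopyCategory A (.up ℤ)) (s : X ⟶ R),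
      termwise (Acyc F) R ∧ (HomotopyCategory.subcategoryAcyclic A).trW s := by
  rw [← HomotopyCategory.quasiIso_eq_trW_subcategoryAcyclic]
  exact FinDimRes.exists_right_res (Acyc F) (acyc_isAdditiveClass F) (VAbove F)
    (fun X h i hi => h i hi)
    (fun d S hS h₁ h₂ i hi => isZero_X₃_of S hS i (h₂ i (by lia)) (h₁ (i + 1) (by lia)))
    (fun X => ⟨Injective.under X, Injective.ι X, acyc_injective' _, inferInstance⟩)
    n X.as (fun k i hi => isZero_of_le n hn i hi.le _)

end Right

section Left

variable (n : ℕ) (hdim : ∀ (X : A) (i : ℕ), n < i → IsZero ((F.rightDerived i).obj X))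
  (hP : ∀ X : A, ∃ (Y : A) (p : Y ⟶ X), Epi p ∧ ∀ i : ℕ, i ≠ n → IsZero ((F.rightDerived i).obj Y))

/-- Objects with derived functors concentrated in degree `n`. -/
def Conc (F : A ⥤ B) [F.Additive] (n : ℕ) : ObjectProperty A :=
  fun X => ∀ i, i ≠ n → IsZero ((F.rightDerived i).obj X)

/-- Vanishing in degrees far below `n`. -/
def VBelow (F : A ⥤ B) [F.Additive] (n d : ℕ) : ObjectProperty A :=
  fun X => ∀ i, i + d < n → IsZero ((F.rightDerived i).obj X)

theorem conc_isAdditiveClass : IsAdditiveClass (Conc F n) where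
  zero X h i _ := have := additive_rightDerived F i; (F.rightDerived i).map_isZero h
  iso e h i hi := (h i hi).of_iso ((F.rightDerived i).mapIso e.symm)
  biprod {X Y} h h' i hi := by
    have := additive_rightDerived F i
    have : PreservesBinaryBiproduct X Y (F.rightDerived i) :=
      preservesBinaryBiproduct_of_preservesBiproduct _ _ _
    exact ((biprod_isZero_iff _ _).2 ⟨h i hi, h' i hi⟩).of_iso ((F.rightDerived i).mapBiprod X Y)

include hdim hP in
/-- Every complex receives a quasi-isomorphism from one with concentrated terms. -/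
theorem exists_leftRes (X : HomotopyCategory A (.up ℤ)) :
    ∃ (R : HomotopyCategory A (.up ℤ)) (s : R ⟶ X),
      termwise (Conc F n) R ∧ (HomotopyCategory.subcategoryAcyclic A).trW s := by
  rw [← HomotopyCategory.quasiIso_eq_trW_subcategoryAcyclic]
  refine FinDimRes.exists_left_res (Conc F n) (conc_isAdditiveClass n) (VBelow F n)
    (fun X h i hi => ?_) (fun d S hS h₃ h₂ i hi => ?_) (fun X => ?_)
    n X.as (fun k i hi => absurd hi (by lia))
  · rcases lt_or_gt_of_ne hi with hlt | hgt
    · exact h i (by lia)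
    · exact hdim X i hgt
  · cases i with
    | zero => exact isZero_X₁_zero_of S hS (h₂ 0 (by lia))
    | succ j => exact isZero_X₁_succ_of S hS j (h₃ j (by lia)) (h₂ (j + 1) (by lia))
  · obtain ⟨Y, p, hp, hY⟩ := hP X
    exact ⟨Y, p, hY, hp⟩

include hdim in
/-- The cycles of an exact complex with concentrated terms are concentrated. -/
theorem conc_cycles (N : CochainComplex A ℤ) (hX : ∀ k, Conc F n (N.X k)) (hN : N.Acyclic)
    (k : ℤ) : Conc F n (N.cycles k) := by
  have key : ∀ (i : ℕ) (k : ℤ), i < n → IsZero ((F.rightDerived i).obj (N.cycles k)) := by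
    intro i
    induction i with
    | zero =>
      exact fun k h => isZero_X₁_zero_of (cycSeq N k) (cycSeq_shortExact N hN k) (hX k 0 (by lia))
    | succ j ih =>
      exact fun k h => isZero_X₁_succ_of (cycSeq N k) (cycSeq_shortExact N hN k) j
        (ih (k + 1) (by lia)) (hX k (j + 1) (by lia))
  intro i hi
  rcases lt_or_gt_of_ne hi with hlt | hgt
  · exact key i k hlt
  · exact hdim _ i hgt

include hdim in
/-- `RⁿF` is exact on exact complexes with concentrated terms. -/
theorem acyclic_map_top [(F.rightDerived n).Additive] (N : CochainComplex A ℤ)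
    (hX : ∀ k, Conc F n (N.X k)) (hN : N.Acyclic) :
    (((F.rightDerived n).mapHomologicalComplex (.up ℤ)).obj N).Acyclic := fun k => by
  refine exactAt_map_of_cycles (F.rightDerived n) N hN (fun i => ?_) k
  letI : HasDerivedCategory A := HasDerivedCategory.standard A
  letI : HasDerivedCategory B := HasDerivedCategory.standard B
  have hS := cycSeq_shortExact N hN i
  let S := cycSeq N i
  let e : ∀ m : ℕ, HRF F m ≅ F.rightDerived m := fun m => HRFNatIso F m
  obtain ⟨δ, w₁, w₂, w₃, e₁, e₂, -⟩ := exists_les (F := F) hS (n : ℤ)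
  obtain ⟨δ', w₁', w₂', w₃', -, -, e₃⟩ := exists_les (F := F) hS ((n : ℤ) - 1)
  have hzero : IsZero ((HRF F ((n : ℤ) - 1)).obj S.X₃) := by
    by_cases hn : n = 0
    · exact isZero_HRF_of_neg F _ _ (by lia)
    · rw [show (n : ℤ) - 1 = ((n - 1 : ℕ) : ℤ) by lia]
      exact (conc_cycles n hdim N hX hN (i + 1) (n - 1) (by lia)).of_iso ((e (n - 1)).app _)
  have hm : Mono ((HRF F ((n : ℤ) - 1 + 1)).map S.f) := e₃.mono_g (hzero.eq_of_src _ _)
  rw [show (n : ℤ) - 1 + 1 = n by lia] at hm
  have he : Epi ((HRF F (n : ℤ)).map S.g) :=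
    e₂.epi_f (((conc_cycles n hdim N hX hN i (n + 1) (by lia)).of_iso
      ((e (n + 1)).app _)).eq_of_tgt _ _)
  let i₀ := ShortComplex.isoMk (S₁ := ShortComplex.mk _ _ w₁) (S₂ := S.map (F.rightDerived n)) ((e n).app S.X₁) ((e n).app S.X₂) ((e n).app S.X₃)
    ((e n).hom.naturality S.f).symm ((e n).hom.naturality S.g).symm
  exact ShortComplex.shortExact_of_iso
    (S₁ := ShortComplex.mk _ _ w₁) (S₂ := S.map (F.rightDerived n)) i₀
    (ShortComplex.ShortExact.mk' e₁ hm he)

end Left

section Derived

variable [HasDerivedCategory.{w} A] [HasDerivedCategory.{w'} B]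

/-- The localization at complexes with acyclic terms. -/
theorem isLocalization_right (n : ℕ) (hn : ∀ X : A, IsZero ((F.rightDerived n).obj X)) :
    ((termwise (Acyc F)).ι ⋙ DerivedCategory.Qh).IsLocalization
      ((HomotopyCategory.quasiIso A (.up ℤ)).inverseImage (termwise (Acyc F)).ι) := by
  have := isTriangulated_termwise (acyc_isAdditiveClass F)
  have hW := HomotopyCategory.quasiIso_eq_trW_subcategoryAcyclic A
  have : (DerivedCategory.Qh (C := A)).IsLocalization (HomotopyCategory.subcategoryAcyclic A).trW := by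
    rw [← hW]; infer_instance
  rw [hW]
  exact ResolDer.isLocalization_of_resolutions DerivedCategory.Qh _ _ (exists_res n hn)

/-- The localization at complexes with concentrated terms. -/
theorem isLocalization_left (n : ℕ)
    (hdim : ∀ (X : A) (i : ℕ), n < i → IsZero ((F.rightDerived i).obj X))
    (hP : ∀ X : A, ∃ (Y : A) (p : Y ⟶ X), Epi p ∧
      ∀ i : ℕ, i ≠ n → IsZero ((F.rightDerived i).obj Y)) :
    ((termwise (Conc F n)).ι ⋙ DerivedCategory.Qh).IsLocalization
      ((HomotopyCategory.quasiIso A (.up ℤ)).inverseImage (termwise (Conc F n)).ι) := by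
  have := isTriangulated_termwise (conc_isAdditiveClass (F := F) n)
  have hW := HomotopyCategory.quasiIso_eq_trW_subcategoryAcyclic A
  have : (DerivedCategory.Qh (C := A)).IsLocalization (HomotopyCategory.subcategoryAcyclic A).trW := by
    rw [← hW]; infer_instance
  rw [hW]
  exact ResolDer.isLocalization_of_leftResolutions DerivedCategory.Qh _ _ (exists_leftRes n hdim hP)

theorem hasLeftCalculus : (HomotopyCategory.quasiIso A (.up ℤ)).HasLeftCalculusOfFractions := by
  rw [HomotopyCategory.quasiIso_eq_trW_subcategoryAcyclic]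
  infer_instance

theorem hasRightCalculus : (HomotopyCategory.quasiIso A (.up ℤ)).HasRightCalculusOfFractions := by
  rw [HomotopyCategory.quasiIso_eq_trW_subcategoryAcyclic]
  infer_instance

theorem exists_res' (n : ℕ) (hn : ∀ X : A, IsZero ((F.rightDerived n).obj X))
    (X : HomotopyCategory A (.up ℤ)) : ∃ (R : HomotopyCategory A (.up ℤ)) (s : X ⟶ R),
      termwise (Acyc F) R ∧ HomotopyCategory.quasiIso A (.up ℤ) s := by
  rw [HomotopyCategory.quasiIso_eq_trW_subcategoryAcyclic]
  exact exists_res n hn X

variable [PreservesFiniteLimits F]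

theorem inverts_right (n : ℕ) (hn : ∀ X : A, IsZero ((F.rightDerived n).obj X)) :
    ((HomotopyCategory.quasiIso A (.up ℤ)).inverseImage (termwise (Acyc F)).ι).IsInvertedBy
      ((termwise (Acyc F)).ι ⋙ F.mapHomotopyCategory (.up ℤ) ⋙ DerivedCategory.Qh) :=
  Termwise.isInvertedBy F (acyc_isAdditiveClass F) (acyclic_map n hn)

/-- The right derived functor on `D(A)` exists. -/
theorem hasRightDerivedFunctor (n : ℕ) (hn : ∀ X : A, IsZero ((F.rightDerived n).obj X)) :
    (F.mapHomotopyCategory (.up ℤ) ⋙ DerivedCategory.Qh).HasRightDerivedFunctor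
      (HomotopyCategory.quasiIso A (.up ℤ)) :=
  have := isLocalization_right (F := F) n hn
  have := hasLeftCalculus (A := A)
  ResolDer.hasRightDerivedFunctor DerivedCategory.Qh _ (termwise (Acyc F)) _ (inverts_right n hn)
    (exists_res' n hn)

/-- The unit of a right derived functor is invertible on complexes with acyclic terms. -/
theorem isIso_unit (n : ℕ) (hn : ∀ X : A, IsZero ((F.rightDerived n).obj X))
    {RF : DerivedCategory A ⥤ DerivedCategory B}
    (α : F.mapHomotopyCategory (.up ℤ) ⋙ DerivedCategory.Qh ⟶ DerivedCategory.Qh ⋙ RF)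
    [RF.IsRightDerivedFunctor α (HomotopyCategory.quasiIso A (.up ℤ))]
    (X : HomotopyCategory A (.up ℤ)) (hX : termwise (Acyc F) X) : IsIso (α.app X) :=
  have := isLocalization_right (F := F) n hn
  have := hasLeftCalculus (A := A)
  ResolDer.isIso_app DerivedCategory.Qh _ (termwise (Acyc F)) _ (inverts_right n hn)
    (exists_res' n hn) α ⟨X, hX⟩

end Derived

end Groth.Agent.Lib.DerCat.FinDim
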