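import Groth.Agent.Lib.DerCat.Termwise
import Mathlib.Algebra.Homology.HomotopyCategory.ShortExact
import Mathlib.Algebra.Homology.DerivedCategory.ShortExact

/-!
# Resolutions of unbounded complexes by acyclic objects under finite dimension
-/

universe w w' v v' u u'

open CategoryTheory CategoryTheory.Limits CategoryTheory.Pretriangulated CochainComplex
  CochainComplex.HomComplex

namespace Groth.Agent.Lib.DerCat.FinDimRes

open Termwise

variable {A : Type u} [Category.{v} A] [Abelian A]

/-- A complex with zero differential. -/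
noncomputable abbrev zeroD (X : ℤ → A) : CochainComplex A ℤ where
  X := X
  d _ _ := 0

/-- Every complex embeds in a contractible complex built from chosen embeddings of its terms. -/
theorem exists_mono_contractible (K : CochainComplex A ℤ) (I : ℤ → A) (ι : ∀ n, K.X n ⟶ I n)
    [∀ n, Mono (ι n)] :
    ∃ j : K ⟶ mappingCone (𝟙 (zeroD I)), Mono j := by
  let β : Cochain K (zeroD I) 0 := Cochain.ofHoms ι
  let α : Cocycle K (zeroD I) 1 :=
    Cocycle.mk (-δ 0 1 β) 2 rfl (by simp [δ_δ])
  let j := mappingCone.lift (𝟙 (zeroD I)) α β (by simp [α])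
  refine ⟨j, HomologicalComplex.mono_of_mono_f j fun n => ?_⟩
  have hh : j.f n ≫ (mappingCone.snd (𝟙 (zeroD I))).v n n (add_zero n) = ι n := by simp [j, β]
  exact mono_of_mono_fac hh

/-- Every complex is a quotient of a contractible complex built from chosen covers of its
terms. -/
theorem exists_epi_contractible (K : CochainComplex A ℤ) (P : ℤ → A) (p : ∀ n, P n ⟶ K.X (n - 1))
    [∀ n, Epi (p n)] :
    ∃ e : mappingCone (𝟙 (zeroD P)) ⟶ K, Epi e := by
  let α : Cochain (zeroD P) K (-1) :=
    Cochain.mk fun i j hij => p i ≫ eqToHom (by rw [show i - 1 = j by lia])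
  let β : zeroD P ⟶ K := Cocycle.homOf (Cocycle.mk (δ (-1) 0 α) 1 rfl (by simp [δ_δ]))
  let e := mappingCone.desc (𝟙 (zeroD P)) α β (by simp [β])
  refine ⟨e, HomologicalComplex.epi_of_epi_f e fun n => ?_⟩
  have hp : Epi (p (n + 1) ≫ eqToHom (by rw [show n + 1 - 1 = n by lia]) : P (n + 1) ⟶ K.X n) :=
    inferInstance
  refine @epi_of_epi_fac _ _ _ _ _ ((mappingCone.inl (𝟙 (zeroD P))).v (n + 1) n (by lia))
    (e.f n) _ hp ?_
  simp [e, α]

/-- A cone of an identity vanishes in the homotopy category. -/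
theorem isZero_quotient_cone (T : CochainComplex A ℤ) :
    IsZero ((HomotopyCategory.quotient A (.up ℤ)).obj (mappingCone (𝟙 T))) := by
  have h := HomotopyCategory.mappingCone_triangleh_distinguished (𝟙 T)
  refine (Triangle.isZero₃_iff_isIso₁ _ h).2 ?_
  exact inferInstanceAs (IsIso ((HomotopyCategory.quotient A (.up ℤ)).map (𝟙 T)))

variable (P : ObjectProperty A) (hP : IsAdditiveClass P)

include hP in
/-- Inductive step for right resolutions. -/
theorem right_step (K Q : CochainComplex A ℤ) (T : CochainComplex A ℤ)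
    (hT : ∀ n, P (T.X n)) (S : ShortComplex (CochainComplex A ℤ)) (hS : S.ShortExact)
    (hS₁ : S.X₁ = K) (hS₂ : S.X₂ = mappingCone (𝟙 T)) (hS₃ : S.X₃ = Q)
    (res : ∃ (R : HomotopyCategory A (.up ℤ)) (s : (HomotopyCategory.quotient A _).obj Q ⟶ R),
      termwise P R ∧ HomotopyCategory.quasiIso A _ s) :
    ∃ (R : HomotopyCategory A (.up ℤ)) (s : (HomotopyCategory.quotient A _).obj K ⟶ R),
      termwise P R ∧ HomotopyCategory.quasiIso A _ s := by
  subst hS₁ hS₃
  obtain ⟨R, s, hR, hs⟩ := res
  letI : HasDerivedCategory A := HasDerivedCategory.standard A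
  have := mappingCone.quasiIso_descShortComplex hS
  have hd := (HomotopyCategory.quotient_map_mem_quasiIso_iff
    (mappingCone.descShortComplex S)).2 this
  let q := HomotopyCategory.quotient A (.up ℤ)
  let d : q.obj (mappingCone S.f) ⟶ R := q.map (mappingCone.descShortComplex S) ≫ s
  let g : q.obj S.X₂ ⟶ R := q.map (mappingCone.inr S.f) ≫ d
  have := isTriangulated_termwise hP
  have hJ : termwise P (q.obj S.X₂) := fun n => by
    rw [hS₂]
    exact mappingCone_mem hP (𝟙 T) hT hT n
  obtain ⟨L, hL, a, b, hT'⟩ := (termwise P).distinguished_cocone_triangle₁ g hJ hR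
  have hT₀ := HomotopyCategory.mappingCone_triangleh_distinguished S.f
  obtain ⟨c, hc₁, hc₂⟩ := complete_distinguished_triangle_morphism₁ _ _ hT₀ hT' (𝟙 _) d
    (by exact (Category.id_comp _).symm)
  refine ⟨L, c, hL, ?_⟩
  rw [← DerivedCategory.isIso_Qh_map_iff]
  let φ : mappingCone.triangleh S.f ⟶ Triangle.mk a g b :=
    { hom₁ := c, hom₂ := 𝟙 _, hom₃ := d, comm₁ := hc₁,
      comm₂ := (Category.id_comp _).symm, comm₃ := hc₂ }
  let φ' := (DerivedCategory.Qh (C := A)).mapTriangle.map φ
  have h₂ : IsIso φ'.hom₂ := inferInstanceAs (IsIso ((DerivedCategory.Qh (C := A)).map (𝟙 (q.obj S.X₂))))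
  have h₃ : IsIso φ'.hom₃ := by
    change IsIso (DerivedCategory.Qh.map (q.map (mappingCone.descShortComplex S) ≫ s))
    rw [Functor.map_comp]
    exact IsIso.comp_isIso' ((DerivedCategory.isIso_Qh_map_iff _).2 hd)
      ((DerivedCategory.isIso_Qh_map_iff _).2 hs)
  exact isIso₁_of_isIso₂₃ φ' (DerivedCategory.Qh.map_distinguished _ hT₀)
    (DerivedCategory.Qh.map_distinguished _ hT') h₂ h₃

include hP in
/-- Inductive step for left resolutions. -/
theorem left_step (K Q : CochainComplex A ℤ) (T : CochainComplex A ℤ)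
    (hT : ∀ n, P (T.X n)) (S : ShortComplex (CochainComplex A ℤ)) (hS : S.ShortExact)
    (hS₁ : S.X₁ = Q) (hS₂ : S.X₂ = mappingCone (𝟙 T)) (hS₃ : S.X₃ = K)
    (res : ∃ (R : HomotopyCategory A (.up ℤ)) (s : R ⟶ (HomotopyCategory.quotient A _).obj Q),
      termwise P R ∧ HomotopyCategory.quasiIso A _ s) :
    ∃ (R : HomotopyCategory A (.up ℤ)) (s : R ⟶ (HomotopyCategory.quotient A _).obj K),
      termwise P R ∧ HomotopyCategory.quasiIso A _ s := by
  subst hS₁ hS₃
  obtain ⟨R, s, hR, hs⟩ := res
  letI : HasDerivedCategory A := HasDerivedCategory.standard A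
  have := mappingCone.quasiIso_descShortComplex hS
  have hd := (HomotopyCategory.quotient_map_mem_quasiIso_iff
    (mappingCone.descShortComplex S)).2 this
  let q := HomotopyCategory.quotient A (.up ℤ)
  let f : R ⟶ q.obj S.X₂ := s ≫ q.map S.f
  have := isTriangulated_termwise hP
  have hJ : termwise P (q.obj S.X₂) := fun n => by
    rw [hS₂]
    exact mappingCone_mem hP (𝟙 T) hT hT n
  obtain ⟨Z, hZ, a, b, hT'⟩ := (termwise P).distinguished_cocone_triangle f hR hJ
  have hT₀ := HomotopyCategory.mappingCone_triangleh_distinguished S.f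
  obtain ⟨c, hc₁, hc₂⟩ := complete_distinguished_triangle_morphism _ _ hT' hT₀ s (𝟙 _)
    (by exact Category.comp_id _)
  refine ⟨Z, c ≫ q.map (mappingCone.descShortComplex S), hZ, ?_⟩
  rw [← DerivedCategory.isIso_Qh_map_iff, Functor.map_comp]
  refine IsIso.comp_isIso' ?_ ((DerivedCategory.isIso_Qh_map_iff _).2 hd)
  let φ : Triangle.mk f a b ⟶ mappingCone.triangleh S.f :=
    { hom₁ := s, hom₂ := 𝟙 _, hom₃ := c, comm₁ := Category.comp_id _,
      comm₂ := hc₁, comm₃ := hc₂ }
  let φ' := (DerivedCategory.Qh (C := A)).mapTriangle.map φ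
  have h₁ : IsIso φ'.hom₁ := (DerivedCategory.isIso_Qh_map_iff _).2 hs
  have h₂ : IsIso φ'.hom₂ := inferInstanceAs (IsIso ((DerivedCategory.Qh (C := A)).map (𝟙 (q.obj S.X₂))))
  exact isIso₃_of_isIso₁₂ φ' (DerivedCategory.Qh.map_distinguished _ hT')
    (DerivedCategory.Qh.map_distinguished _ hT₀) h₁ h₂

include hP in
/-- Right resolutions, from a filtration of the class of objects. -/
theorem exists_right_res (V : ℕ → ObjectProperty A) (h0 : ∀ X, V 0 X → P X)
    (hstep : ∀ (d : ℕ) (S : ShortComplex A), S.ShortExact → V (d + 1) S.X₁ → P S.X₂ → V d S.X₃)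
    (hemb : ∀ X, ∃ (I : A) (ι : X ⟶ I), P I ∧ Mono ι) :
    ∀ (d : ℕ) (K : CochainComplex A ℤ), (∀ n, V d (K.X n)) →
      ∃ (R : HomotopyCategory A (.up ℤ)) (s : (HomotopyCategory.quotient A _).obj K ⟶ R),
        termwise P R ∧ HomotopyCategory.quasiIso A _ s := by
  intro d
  induction d with
  | zero =>
    intro K hK
    refine ⟨_, 𝟙 _, fun n => h0 _ (hK n), ?_⟩
    rw [← (HomotopyCategory.quotient A _).map_id]
    exact (HomotopyCategory.quotient_map_mem_quasiIso_iff _).2 (inferInstanceAs (QuasiIso (𝟙 K)))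
  | succ d ih =>
    intro K hK
    choose I ι hI hι using fun n => hemb (K.X n)
    obtain ⟨j, hj⟩ := exists_mono_contractible K I ι
    let S := ShortComplex.mk j (cokernel.π j) (cokernel.condition j)
    have hS : S.ShortExact := ShortComplex.ShortExact.mk'
      (ShortComplex.exact_of_g_is_cokernel _ (cokernelIsCokernel j)) hj inferInstance
    exact right_step P hP K _ (zeroD I) hI S hS rfl rfl rfl (ih _ fun n =>
      hstep d (S.map (HomologicalComplex.eval A _ n)) (hS.map_of_exact _) (hK n)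
        (mappingCone_mem hP (𝟙 (zeroD I)) hI hI n))

include hP in
/-- Left resolutions, from a filtration of the class of objects. -/
theorem exists_left_res (V : ℕ → ObjectProperty A) (h0 : ∀ X, V 0 X → P X)
    (hstep : ∀ (d : ℕ) (S : ShortComplex A), S.ShortExact → V (d + 1) S.X₃ → P S.X₂ → V d S.X₁)
    (hcov : ∀ X, ∃ (Y : A) (p : Y ⟶ X), P Y ∧ Epi p) :
    ∀ (d : ℕ) (K : CochainComplex A ℤ), (∀ n, V d (K.X n)) →
      ∃ (R : HomotopyCategory A (.up ℤ)) (s : R ⟶ (HomotopyCategory.quotient A _).obj K),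
        termwise P R ∧ HomotopyCategory.quasiIso A _ s := by
  intro d
  induction d with
  | zero =>
    intro K hK
    refine ⟨_, 𝟙 _, fun n => h0 _ (hK n), ?_⟩
    rw [← (HomotopyCategory.quotient A _).map_id]
    exact (HomotopyCategory.quotient_map_mem_quasiIso_iff _).2 (inferInstanceAs (QuasiIso (𝟙 K)))
  | succ d ih =>
    intro K hK
    choose Y p hY hp using fun n : ℤ => hcov (K.X (n - 1))
    obtain ⟨e, he⟩ := exists_epi_contractible K Y p
    let S := ShortComplex.mk (kernel.ι e) e (kernel.condition e)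
    have hS : S.ShortExact := ShortComplex.ShortExact.mk'
      (ShortComplex.exact_of_f_is_kernel _ (kernelIsKernel e)) inferInstance he
    exact left_step P hP K _ (zeroD Y) hY S hS rfl rfl rfl (ih _ fun n =>
      hstep d (S.map (HomologicalComplex.eval A _ n)) (hS.map_of_exact _) (hK n)
        (mappingCone_mem hP (𝟙 (zeroD Y)) hY hY n))

end Groth.Agent.Lib.DerCat.FinDimRes
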