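import Groth.Agent.Lib.DerCat.TStruct
import Mathlib.Algebra.Homology.DerivedCategory.ShortExact
import Mathlib.Algebra.Homology.Embedding.CochainComplex

/-!
# Composites of maps vanishing in cohomology
-/

universe w v u

open CategoryTheory CategoryTheory.Limits CategoryTheory.Pretriangulated DerivedCategory
open DerivedCategory.TStructure

namespace Groth.Agent.Lib.DerCat.Ghost

variable {A : Type u} [Category.{v} A] [Abelian A] [HasDerivedCategory.{w} A]

lemma isLE_truncGE {X : DerivedCategory A} (m : ℤ) [X.IsLE m] :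
    DerivedCategory.IsLE ((t.truncGE m).obj X) m := by
  refine (isLE_iff _ _).2 fun i hi => ?_
  have h : IsIso ((homologyFunctor A i).map ((t.truncGEπ m).app X)) :=
    @TStruct.isIso_homologyMap_mor₂ _ _ _ _ _ (t.triangleLTGE_distinguished m X) (m - 1)
      (inferInstance : t.IsLE ((t.truncLT m).obj X) (m - 1)) i (by omega)
  exact (isZero_of_isLE X m i hi).of_iso
    (asIso ((homologyFunctor A i).map ((t.truncGEπ m).app X))).symm

lemma isGE_truncLT {X : DerivedCategory A} (m n : ℤ) [X.IsGE m] :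
    DerivedCategory.IsGE ((t.truncLT n).obj X) m := by
  refine (isGE_iff _ _).2 fun i hi => ?_
  by_cases hn : i < n
  · have h : IsIso ((homologyFunctor A i).map ((t.truncLTι n).app X)) :=
      @TStruct.isIso_homologyMap_mor₁ _ _ _ _ _ (t.triangleLTGE_distinguished n X) n
        (inferInstance : t.IsGE ((t.truncGE n).obj X) n) i hn
    exact (isZero_of_isGE X m i hi).of_iso
      (asIso ((homologyFunctor A i).map ((t.truncLTι n).app X)))
  · exact isZero_of_isLE ((t.truncLT n).obj X) (n - 1) i (by omega)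

/-- A map from an object `≤ m` killing `H^m` lifts to `τ_{<m}`. -/
lemma exists_lift_step {T Y : DerivedCategory A} (g : T ⟶ Y) (m : ℤ) [T.IsLE m]
    (hg : (homologyFunctor A m).map g = 0) :
    ∃ g' : T ⟶ (t.truncLT m).obj Y, g' ≫ (t.truncLTι m).app Y = g := by
  have := isLE_truncGE (X := T) m
  let c := (t.truncGE m).map g
  let c' := t.liftTruncLT c m (m + 1) rfl
  have := isGE_truncLT (X := (t.truncGE m).obj Y) m (m + 1)
  have h : IsIso ((homologyFunctor A m).map ((t.truncLTι (m + 1)).app ((t.truncGE m).obj Y))) :=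
    @TStruct.isIso_homologyMap_mor₁ _ _ _ _ _ (t.triangleLTGE_distinguished (m + 1) _) (m + 1)
      (inferInstance : t.IsGE ((t.truncGE (m + 1)).obj ((t.truncGE m).obj Y)) (m + 1)) m (by omega)
  have h' : (homologyFunctor A m).map c' = 0 := by
    rw [← cancel_mono ((homologyFunctor A m).map ((t.truncLTι (m + 1)).app ((t.truncGE m).obj Y))),
      zero_comp, ← Functor.map_comp, t.liftTruncLT_ι]
    exact TStruct.homologyMap_truncGE_map_eq_zero g m m (fun _ => hg)
  have hc : c = 0 := by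
    rw [← t.liftTruncLT_ι c m (m + 1) rfl]
    exact (congrArg (· ≫ _) (TStruct.eq_zero_of_homologyMap_eq_zero m c' h')).trans zero_comp
  obtain ⟨g', hg'⟩ := Triangle.coyoneda_exact₂ _ (t.triangleLTGE_distinguished m Y) g (by
    change g ≫ (t.truncGEπ m).app Y = 0
    rw [← t.truncGEπ_naturality m g]
    exact (congrArg (_ ≫ ·) hc).trans comp_zero)
  exact ⟨g', hg'.symm⟩

/-- A map to an object `≥ m` killing `H^m` factors through `τ_{≥ m+1}`. -/
lemma exists_desc_step {Y T : DerivedCategory A} (g : Y ⟶ T) (m : ℤ) [T.IsGE m]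
    (hg : (homologyFunctor A m).map g = 0) :
    ∃ g' : (t.truncGE (m + 1)).obj Y ⟶ T, (t.truncGEπ (m + 1)).app Y ≫ g' = g := by
  have := isGE_truncLT (X := T) m (m + 1)
  let c := (t.truncLT (m + 1)).map g
  let c' := t.descTruncGE c m
  have := isLE_truncGE (X := (t.truncLT (m + 1)).obj Y) m
  have h : IsIso ((homologyFunctor A m).map ((t.truncGEπ m).app ((t.truncLT (m + 1)).obj Y))) :=
    @TStruct.isIso_homologyMap_mor₂ _ _ _ _ _ (t.triangleLTGE_distinguished m _) (m - 1)
      (inferInstance : t.IsLE ((t.truncLT m).obj ((t.truncLT (m + 1)).obj Y)) (m - 1)) m (by omega)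
  have h' : (homologyFunctor A m).map c' = 0 := by
    rw [← cancel_epi ((homologyFunctor A m).map ((t.truncGEπ m).app ((t.truncLT (m + 1)).obj Y))),
      comp_zero, ← Functor.map_comp, t.π_descTruncGE]
    exact TStruct.homologyMap_truncLT_map_eq_zero g (m + 1) m (fun _ => hg)
  have hc : c = 0 := by
    rw [← t.π_descTruncGE c m]
    exact (congrArg (_ ≫ ·) (TStruct.eq_zero_of_homologyMap_eq_zero m c' h')).trans comp_zero
  obtain ⟨g', hg'⟩ := Triangle.yoneda_exact₂ _ (t.triangleLTGE_distinguished (m + 1) Y) g (by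
    change (t.truncLTι (m + 1)).app Y ≫ g = 0
    rw [show (t.truncLTι (m + 1)).app Y ≫ g = c ≫ (t.truncLTι (m + 1)).app T from
      ((t.truncLTι (m + 1)).naturality g).symm, hc, zero_comp])
  exact ⟨g', hg'.symm⟩

/-- Lifting to the canonical truncation of a complex. -/
lemma exists_lift_truncLE {X : DerivedCategory A} (K : CochainComplex A ℤ) (n : ℤ) [X.IsLE n]
    (f : X ⟶ Q.obj K) : ∃ φ : X ⟶ Q.obj (K.truncLE n), φ ≫ Q.map (K.ιTruncLE n) = f := by
  have h := K.shortComplexTruncLE_shortExact n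
  have h3 : (Q.obj (K.shortComplexTruncLE n).X₃).IsGE (n + 1) :=
    t.isGE_of_iso (asIso (Q.map (K.shortComplexTruncLEX₃ToTruncGE n (n + 1) rfl))).symm (n + 1)
  obtain ⟨φ, hφ⟩ := Triangle.coyoneda_exact₂ _ (triangleOfSES_distinguished h) f
    (t.zero_of_isLE_of_isGE _ n (n + 1) (by omega) inferInstance h3)
  exact ⟨φ, hφ.symm⟩

/-- Descending to the canonical truncation of a complex. -/
lemma exists_desc_truncGE {X : DerivedCategory A} (K : CochainComplex A ℤ) (n : ℤ) [X.IsGE n]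
    (f : Q.obj K ⟶ X) : ∃ φ : Q.obj (K.truncGE n) ⟶ X, Q.map (K.πTruncGE n) ≫ φ = f := by
  have h := K.shortComplexTruncLE_shortExact (n - 1)
  obtain ⟨φ, hφ⟩ := Triangle.yoneda_exact₂ _ (triangleOfSES_distinguished h) f
    (t.zero_of_isLE_of_isGE _ (n - 1) n (by omega)
      (inferInstance : (Q.obj (K.truncLE (n - 1))).IsLE (n - 1)) inferInstance)
  refine ⟨inv (Q.map (K.shortComplexTruncLEX₃ToTruncGE (n - 1) n (by omega))) ≫ φ, ?_⟩
  rw [← K.g_shortComplexTruncLEX₃ToTruncGE (n - 1) n (by omega)]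
  refine Eq.trans ?_ hφ.symm
  erw [Q.map_comp]
  rw [Category.assoc, IsIso.hom_inv_id_assoc]
  rfl

lemma homologyMap_Q {K L : CochainComplex A ℤ} (f : K ⟶ L) (i : ℤ)
    (h : HomologicalComplex.homologyMap f i = 0) :
    (homologyFunctor A i).map (Q.map f) = 0 := by
  have := (homologyFunctorFactors A i).hom.naturality f
  dsimp at this
  rw [show (HomologicalComplex.homologyFunctor A (ComplexShape.up ℤ) i).map f = 0 from h,
    comp_zero] at this
  exact (cancel_mono ((homologyFunctorFactors A i).hom.app L)).1 (this.trans zero_comp.symm)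

/-- Covariant version. -/
theorem exists_factor_truncLE (K : ℕ ⥤ CochainComplex A ℤ) (n : ℕ)
    (h0 : ∀ i : ℤ, 0 < i → IsZero ((K.obj 0).homology i))
    (hz : ∀ j : ℕ, j < n →
      HomologicalComplex.homologyMap (K.map (homOfLE (Nat.le_succ j))) (-(j : ℤ)) = 0) :
    ∃ φ : Q.obj (K.obj 0) ⟶ Q.obj ((K.obj n).truncLE (-(n : ℤ))),
      φ ≫ Q.map ((K.obj n).ιTruncLE (-(n : ℤ))) = Q.map (K.map (homOfLE (Nat.zero_le n))) := by
  have h0' : (Q.obj (K.obj 0)).IsLE 0 := (isLE_Q_obj_iff _ _).2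
    ((CochainComplex.isLE_iff _ _).2 fun i hi =>
      (HomologicalComplex.exactAt_iff_isZero_homology _ _).2 (h0 i hi))
  suffices key : ∀ j, j ≤ n → ∃ (T : DerivedCategory A) (_ : T.IsLE (-(j : ℤ)))
      (a : Q.obj (K.obj 0) ⟶ T) (b : T ⟶ Q.obj (K.obj j)),
      a ≫ b = Q.map (K.map (homOfLE (Nat.zero_le j))) by
    obtain ⟨T, hT, a, b, hab⟩ := key n le_rfl
    obtain ⟨φ, hφ⟩ := exists_lift_truncLE (K.obj n) (-(n : ℤ)) b
    exact ⟨a ≫ φ, by rw [Category.assoc, hφ, hab]⟩
  intro j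
  induction j with
  | zero =>
    intro _
    refine ⟨_, ?_, 𝟙 _, Q.map (K.map (homOfLE (Nat.zero_le 0))), Category.id_comp _⟩
    simpa using h0'
  | succ j ih =>
    intro hj
    obtain ⟨T, hT, a, b, hab⟩ := ih (by omega)
    have := hT
    obtain ⟨g', hg'⟩ := exists_lift_step (b ≫ Q.map (K.map (homOfLE (Nat.le_succ j)))) (-(j : ℤ))
      (by rw [Functor.map_comp, homologyMap_Q _ _ (hz j (by omega)), comp_zero])
    refine ⟨_, ?_, a ≫ g', (t.truncLTι (-(j : ℤ))).app _, ?_⟩
    · exact t.isLE_truncLT_obj _ _ _ (by omega)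
    · rw [Category.assoc, hg', reassoc_of% hab, ← Functor.map_comp, ← Functor.map_comp,
        homOfLE_comp]

/-- Contravariant version. -/
theorem exists_factor_truncGE (K : ℕᵒᵖ ⥤ CochainComplex A ℤ) (n : ℕ)
    (h0 : ∀ i : ℤ, i < 0 → IsZero ((K.obj (Opposite.op 0)).homology i))
    (hz : ∀ j : ℕ, j < n →
      HomologicalComplex.homologyMap (K.map (homOfLE (Nat.le_succ j)).op) (j : ℤ) = 0) :
    ∃ φ : Q.obj ((K.obj (Opposite.op n)).truncGE (n : ℤ)) ⟶ Q.obj (K.obj (Opposite.op 0)),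
      Q.map ((K.obj (Opposite.op n)).πTruncGE (n : ℤ)) ≫ φ =
        Q.map (K.map (homOfLE (Nat.zero_le n)).op) := by
  have h0' : (Q.obj (K.obj (Opposite.op 0))).IsGE 0 := (isGE_Q_obj_iff _ _).2
    ((CochainComplex.isGE_iff _ _).2 fun i hi =>
      (HomologicalComplex.exactAt_iff_isZero_homology _ _).2 (h0 i hi))
  suffices key : ∀ j, j ≤ n → ∃ (T : DerivedCategory A) (_ : T.IsGE (j : ℤ))
      (b : Q.obj (K.obj (Opposite.op j)) ⟶ T) (a : T ⟶ Q.obj (K.obj (Opposite.op 0))),
      b ≫ a = Q.map (K.map (homOfLE (Nat.zero_le j)).op) by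
    obtain ⟨T, hT, b, a, hab⟩ := key n le_rfl
    obtain ⟨φ, hφ⟩ := exists_desc_truncGE (K.obj (Opposite.op n)) (n : ℤ) b
    exact ⟨φ ≫ a, by rw [← Category.assoc, hφ, hab]⟩
  intro j
  induction j with
  | zero =>
    intro _
    refine ⟨_, ?_, Q.map (K.map (homOfLE (Nat.zero_le 0)).op), 𝟙 _, Category.comp_id _⟩
    simpa using h0'
  | succ j ih =>
    intro hj
    obtain ⟨T, hT, b, a, hab⟩ := ih (by omega)
    have := hT
    obtain ⟨g', hg'⟩ := exists_desc_step (Q.map (K.map (homOfLE (Nat.le_succ j)).op) ≫ b) (j : ℤ)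
      (by rw [Functor.map_comp, homologyMap_Q _ _ (hz j (by omega)), zero_comp])
    refine ⟨_, ?_, (t.truncGEπ ((j : ℤ) + 1)).app _, g' ≫ a, ?_⟩
    · exact t.isGE_truncGE_obj _ _ _ (by omega)
    · rw [reassoc_of% hg', hab, ← Functor.map_comp, ← Functor.map_comp, ← op_comp,
        homOfLE_comp]

end Groth.Agent.Lib.DerCat.Ghost
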