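import Groth.Agent.Lib.DerCat.SubRes
import Mathlib.CategoryTheory.Abelian.FunctorCategory
import Mathlib.CategoryTheory.ComposableArrows.Basic
import Mathlib.CategoryTheory.Preadditive.Injective.Basic
import Mathlib.CategoryTheory.Preadditive.Projective.Basic
import Mathlib.Algebra.Homology.DerivedCategory.ShortExact
import Mathlib.CategoryTheory.Preadditive.Projective.Preserves
import Mathlib.CategoryTheory.Limits.FunctorCategory.EpiMono
import Mathlib.CategoryTheory.Limits.Shapes.ZeroObjects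

/-!
# Resolutions of short exact sequences of bounded complexes
-/

universe v u

open CategoryTheory CategoryTheory.Limits CategoryTheory.Pretriangulated ZeroObject

namespace Groth.Agent.Lib.DerCat.HorseRes

variable {A : Type u} [Category.{v} A] [Abelian A]

/-- Evaluation of arrows. -/
abbrev E (i : Fin 2) : ComposableArrows A 1 ⥤ A := (evaluation (Fin 2) A).obj i

/-- The arrow, as a natural transformation between evaluations. -/
abbrev η : E (A := A) 0 ⟶ E 1 := (evaluation (Fin 2) A).map (homOfLE (by decide))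

lemma isZero_arrow (G : ComposableArrows A 1) (h0 : IsZero (G.obj 0)) (h1 : IsZero (G.obj 1)) :
    IsZero G :=
  Functor.isZero _ fun i => by fin_cases i <;> assumption

/-- A complex of arrows from a morphism of complexes. -/
def arrowCx {K L : CochainComplex A ℤ} (g : K ⟶ L) : CochainComplex (ComposableArrows A 1) ℤ where
  X i := ComposableArrows.mk₁ (g.f i)
  d i j := ComposableArrows.homMk₁ (K.d i j) (L.d i j) (g.comm i j)
  shape i j h := ComposableArrows.hom_ext₁ (K.shape i j h) (L.shape i j h)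
  d_comp_d' i j k _ _ := ComposableArrows.hom_ext₁ (K.d_comp_d i j k) (L.d_comp_d i j k)

/-- The source of an arrow complex. -/
def arrowCxIso₀ {K L : CochainComplex A ℤ} (g : K ⟶ L) :
    K ≅ ((E 0).mapHomologicalComplex _).obj (arrowCx g) :=
  HomologicalComplex.Hom.isoOfComponents (fun _ => Iso.refl _)
    (fun i j _ => (Category.id_comp _).trans (Category.comp_id _).symm)

/-- The target of an arrow complex. -/
def arrowCxIso₁ {K L : CochainComplex A ℤ} (g : K ⟶ L) :
    L ≅ ((E 1).mapHomologicalComplex _).obj (arrowCx g) :=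
  HomologicalComplex.Hom.isoOfComponents (fun _ => Iso.refl _)
    (fun i j _ => (Category.id_comp _).trans (Category.comp_id _).symm)

lemma arrowCx_η {K L : CochainComplex A ℤ} (g : K ⟶ L) :
    (arrowCxIso₀ g).hom ≫ (NatTrans.mapHomologicalComplex η _).app (arrowCx g) =
      g ≫ (arrowCxIso₁ g).hom := by
  ext i
  exact (Category.id_comp _).trans (Category.comp_id _).symm

lemma quasiIso_E (i : Fin 2) {K L : CochainComplex (ComposableArrows A 1) ℤ} (α : K ⟶ L)
    [QuasiIso α] : QuasiIso (((E i).mapHomologicalComplex _).map α) := by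
  have : (E (A := A) i).PreservesHomology := by infer_instance
  infer_instance

/-- Horseshoe for right resolutions. -/
theorem exists_injective [EnoughInjectives A]
    (S : ShortComplex (CochainComplex A ℤ)) (hS : S.ShortExact) (n : ℤ)
    [S.X₁.IsStrictlyGE n] [S.X₂.IsStrictlyGE n] [S.X₃.IsStrictlyGE n] :
    ∃ (T : ShortComplex (CochainComplex A ℤ)) (φ : S ⟶ T), T.ShortExact ∧
      T.X₁.IsStrictlyGE n ∧ T.X₂.IsStrictlyGE n ∧ T.X₃.IsStrictlyGE n ∧
      (∀ k : ℤ, Injective (T.X₁.X k) ∧ Injective (T.X₂.X k) ∧ Injective (T.X₃.X k)) ∧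
      QuasiIso φ.τ₁ ∧ QuasiIso φ.τ₂ ∧ QuasiIso φ.τ₃ := by
  let P : ComposableArrows A 1 → Prop := fun G =>
    Injective (G.obj 0) ∧ Injective (G.obj 1) ∧ ∃ s, s ≫ G.map' 0 1 = 𝟙 _
  let K := arrowCx S.g
  have : K.IsStrictlyGE n := (CochainComplex.isStrictlyGE_iff _ _).2 fun i hi =>
    isZero_arrow _ (S.X₂.isZero_of_isStrictlyGE n i hi) (S.X₃.isZero_of_isStrictlyGE n i hi)
  obtain ⟨L, α, hL, hP, -, hα⟩ := SubRes.exists_res (P := P)
    (fun X => ⟨ComposableArrows.mk₁ (biprod.snd : Injective.under (X.obj 0) ⊞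
        Injective.under (X.obj 1) ⟶ Injective.under (X.obj 1)),
      ComposableArrows.homMk₁
        (biprod.lift (Injective.ι (X.obj 0)) (X.map' 0 1 ≫ Injective.ι (X.obj 1)))
        (Injective.ι (X.obj 1)) (biprod.lift_snd _ _).symm,
      ⟨(inferInstance : Injective (Injective.under (X.obj 0) ⊞ Injective.under (X.obj 1))),
        (inferInstance : Injective (Injective.under (X.obj 1))), biprod.inr, biprod.inr_snd⟩, by
      have : ∀ i : Fin 2, Mono ((ComposableArrows.homMk₁ (F := X)
          (G := ComposableArrows.mk₁ (biprod.snd : Injective.under (X.obj 0) ⊞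
            Injective.under (X.obj 1) ⟶ Injective.under (X.obj 1)))
          (biprod.lift (Injective.ι (X.obj 0)) (X.map' 0 1 ≫ Injective.ι (X.obj 1)))
          (Injective.ι (X.obj 1)) (biprod.lift_snd _ _).symm).app i) := fun i => by
        fin_cases i
        · have : Mono (Injective.ι (X.obj 0)) := Injective.ι_mono _
          exact mono_of_mono_fac (biprod.lift_fst (Injective.ι (X.obj 0))
            (X.map' 0 1 ≫ Injective.ι (X.obj 1)))
        · exact Injective.ι_mono (X.obj 1)
      exact NatTrans.mono_of_mono_app _⟩)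
    ⟨0, isZero_zero _, ((isZero_zero (ComposableArrows A 1)).obj 0).injective,
      ((isZero_zero (ComposableArrows A 1)).obj 1).injective, 0,
      ((isZero_zero (ComposableArrows A 1)).obj 1).eq_of_src _ _⟩ K n
  let T₂ : CochainComplex A ℤ := ((E 0).mapHomologicalComplex _).obj L
  let T₃ : CochainComplex A ℤ := ((E 1).mapHomologicalComplex _).obj L
  let Tg : T₂ ⟶ T₃ := (NatTrans.mapHomologicalComplex η _).app L
  have hTg : ∀ i, ∃ s, s ≫ Tg.f i = 𝟙 _ := fun i => (hP i).2.2
  have : Epi Tg := by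
    have : ∀ i, Epi (Tg.f i) := fun i => by
      obtain ⟨s, hs⟩ := hTg i
      exact (SplitEpi.mk s hs).epi
    exact HomologicalComplex.epi_of_epi_f _ this
  let T := ShortComplex.mk (kernel.ι Tg) Tg (kernel.condition Tg)
  have hT : T.ShortExact :=
    { exact := ShortComplex.exact_of_f_is_kernel _ (kernelIsKernel Tg) }
  let τ₂ : S.X₂ ⟶ T₂ := (arrowCxIso₀ S.g).hom ≫ ((E 0).mapHomologicalComplex _).map α
  let τ₃ : S.X₃ ⟶ T₃ := (arrowCxIso₁ S.g).hom ≫ ((E 1).mapHomologicalComplex _).map α
  have h23 : τ₂ ≫ Tg = S.g ≫ τ₃ := by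
    simp only [τ₂, τ₃, Tg, Category.assoc]
    rw [(NatTrans.mapHomologicalComplex η _).naturality α, reassoc_of% (arrowCx_η S.g)]
  let τ₁ : S.X₁ ⟶ kernel Tg := kernel.lift Tg (S.f ≫ τ₂) (by
    rw [Category.assoc, h23, S.zero_assoc, zero_comp])
  let φ : S ⟶ T :=
    { τ₁ := τ₁, τ₂ := τ₂, τ₃ := τ₃, comm₁₂ := kernel.lift_ι _ _ _, comm₂₃ := h23 }
  have hL0 : ∀ (i : Fin 2), CochainComplex.IsStrictlyGE
      (((E i).mapHomologicalComplex (ComplexShape.up ℤ)).obj L) n := fun i =>
    (CochainComplex.isStrictlyGE_iff _ _).2 fun j hj =>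
      (Functor.map_isZero (E i) (L.isZero_of_isStrictlyGE n j hj))
  have hTX : ∀ k, (T.map (HomologicalComplex.eval A _ k)).ShortExact := fun k =>
    hT.map_of_exact _
  have h1 : CochainComplex.IsStrictlyGE T.X₁ n := (CochainComplex.isStrictlyGE_iff _ _).2 fun j hj => by
    have := (hTX j).mono_f
    have := hL0 0
    exact @IsZero.of_mono _ _ _ _ _ (T.map (HomologicalComplex.eval A _ j)).f (hTX j).mono_f
      (CochainComplex.isZero_of_isStrictlyGE T₂ n j hj)
  have hq₂ : QuasiIso τ₂ := by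
    have := quasiIso_E 0 α
    infer_instance
  have hq₃ : QuasiIso τ₃ := by
    have := quasiIso_E 1 α
    infer_instance
  refine ⟨T, φ, hT, h1, hL0 0, hL0 1, fun k => ⟨?_, (hP k).1, (hP k).2.1⟩, ?_, hq₂, hq₃⟩
  · have := (hP k).1
    obtain ⟨s, hs⟩ := hTg k
    let sp := ShortComplex.Splitting.ofExactOfSection _ (hTX k).exact s hs (hTX k).mono_f
    have := (hP k).1
    exact @Retract.injective _ _ _ (T.map (HomologicalComplex.eval A _ k)).X₂
      { i := (T.map (HomologicalComplex.eval A _ k)).f, r := sp.r, retract := sp.f_r } this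
  · letI := HasDerivedCategory.standard A
    rw [← DerivedCategory.isIso_Q_map_iff_quasiIso]
    exact Pretriangulated.isIso₁_of_isIso₂₃ (DerivedCategory.triangleOfSES.map hS hT φ)
      (DerivedCategory.triangleOfSES_distinguished hS) (DerivedCategory.triangleOfSES_distinguished hT)
      ((DerivedCategory.isIso_Q_map_iff_quasiIso _ τ₂).2 hq₂)
      ((DerivedCategory.isIso_Q_map_iff_quasiIso _ τ₃).2 hq₃)

/-- Horseshoe for left resolutions. -/
theorem exists_projective [EnoughProjectives A]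
    (S : ShortComplex (CochainComplex A ℤ)) (hS : S.ShortExact) (n : ℤ)
    [S.X₁.IsStrictlyLE n] [S.X₂.IsStrictlyLE n] [S.X₃.IsStrictlyLE n] :
    ∃ (T : ShortComplex (CochainComplex A ℤ)) (φ : T ⟶ S), T.ShortExact ∧
      T.X₁.IsStrictlyLE n ∧ T.X₂.IsStrictlyLE n ∧ T.X₃.IsStrictlyLE n ∧
      (∀ k : ℤ, Projective (T.X₁.X k) ∧ Projective (T.X₂.X k) ∧ Projective (T.X₃.X k)) ∧
      QuasiIso φ.τ₁ ∧ QuasiIso φ.τ₂ ∧ QuasiIso φ.τ₃ := by
  let P : ComposableArrows A 1 → Prop := fun G =>
    Projective (G.obj 0) ∧ Projective (G.obj 1) ∧ ∃ r : G.obj 1 ⟶ G.obj 0, G.map' 0 1 ≫ r = 𝟙 _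
  let K := arrowCx S.f
  have : K.IsStrictlyLE n := (CochainComplex.isStrictlyLE_iff _ _).2 fun i hi =>
    isZero_arrow _ (S.X₁.isZero_of_isStrictlyLE n i hi) (S.X₂.isZero_of_isStrictlyLE n i hi)
  obtain ⟨L, α, hL, hP, -, hα⟩ := SubRes.exists_coverRes (Q := P)
    (fun X => ⟨ComposableArrows.mk₁ (biprod.inl : Projective.over (X.obj 0) ⟶
        Projective.over (X.obj 0) ⊞ Projective.over (X.obj 1)),
      ComposableArrows.homMk₁ (Projective.π (X.obj 0))
        (biprod.desc (Projective.π (X.obj 0) ≫ X.map' 0 1) (Projective.π (X.obj 1)))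
        (biprod.inl_desc _ _),
      ⟨(inferInstance : Projective (Projective.over (X.obj 0))),
        (inferInstance : Projective (Projective.over (X.obj 0) ⊞ Projective.over (X.obj 1))),
        biprod.fst, biprod.inl_fst⟩, by
      have : ∀ i : Fin 2, Epi ((ComposableArrows.homMk₁ (G := X)
          (F := ComposableArrows.mk₁ (biprod.inl : Projective.over (X.obj 0) ⟶
            Projective.over (X.obj 0) ⊞ Projective.over (X.obj 1)))
          (Projective.π (X.obj 0))
          (biprod.desc (Projective.π (X.obj 0) ≫ X.map' 0 1) (Projective.π (X.obj 1)))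
          (biprod.inl_desc _ _)).app i) := fun i => by
        fin_cases i
        · exact Projective.π_epi (X.obj 0)
        · have : Epi (Projective.π (X.obj 1)) := Projective.π_epi _
          exact epi_of_epi_fac (biprod.inr_desc (Projective.π (X.obj 0) ≫ X.map' 0 1)
            (Projective.π (X.obj 1)))
      exact NatTrans.epi_of_epi_app _⟩)
    ⟨0, isZero_zero _, ((isZero_zero (ComposableArrows A 1)).obj 0).projective,
      ((isZero_zero (ComposableArrows A 1)).obj 1).projective, 0,
      ((isZero_zero (ComposableArrows A 1)).obj 0).eq_of_src _ _⟩ K n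
  let T₁ : CochainComplex A ℤ := ((E 0).mapHomologicalComplex _).obj L
  let T₂ : CochainComplex A ℤ := ((E 1).mapHomologicalComplex _).obj L
  let Tf : T₁ ⟶ T₂ := (NatTrans.mapHomologicalComplex η _).app L
  have hTf : ∀ i, ∃ r, Tf.f i ≫ r = 𝟙 _ := fun i => (hP i).2.2
  have : Mono Tf := by
    have : ∀ i, Mono (Tf.f i) := fun i => by
      obtain ⟨r, hr⟩ := hTf i
      exact (SplitMono.mk r hr).mono
    exact HomologicalComplex.mono_of_mono_f _ this
  let T := ShortComplex.mk Tf (cokernel.π Tf) (cokernel.condition Tf)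
  have hT : T.ShortExact :=
    { exact := ShortComplex.exact_of_g_is_cokernel _ (cokernelIsCokernel Tf) }
  let τ₁ : T₁ ⟶ S.X₁ := ((E 0).mapHomologicalComplex _).map α ≫ (arrowCxIso₀ S.f).inv
  let τ₂ : T₂ ⟶ S.X₂ := ((E 1).mapHomologicalComplex _).map α ≫ (arrowCxIso₁ S.f).inv
  have h12 : τ₁ ≫ S.f = Tf ≫ τ₂ := by
    simp only [τ₁, τ₂, Tf]
    rw [← cancel_mono (arrowCxIso₁ S.f).hom]
    simp only [Category.assoc, Iso.inv_hom_id]
    rw [← arrowCx_η, Iso.inv_hom_id_assoc, (NatTrans.mapHomologicalComplex η _).naturality α]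
    erw [Category.comp_id]
  let τ₃ : cokernel Tf ⟶ S.X₃ := cokernel.desc Tf (τ₂ ≫ S.g) (by
    rw [← reassoc_of% h12, S.zero, comp_zero])
  let φ : T ⟶ S :=
    { τ₁ := τ₁, τ₂ := τ₂, τ₃ := τ₃, comm₁₂ := h12, comm₂₃ := (cokernel.π_desc _ _ _).symm }
  have hL0 : ∀ (i : Fin 2), CochainComplex.IsStrictlyLE
      (((E i).mapHomologicalComplex (ComplexShape.up ℤ)).obj L) n := fun i =>
    (CochainComplex.isStrictlyLE_iff _ _).2 fun j hj =>
      (Functor.map_isZero (E i) (L.isZero_of_isStrictlyLE n j hj))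
  have hTX : ∀ k, (T.map (HomologicalComplex.eval A _ k)).ShortExact := fun k =>
    hT.map_of_exact _
  have h3 : CochainComplex.IsStrictlyLE T.X₃ n := (CochainComplex.isStrictlyLE_iff _ _).2
    fun j hj => by
      have := hL0 1
      exact @IsZero.of_epi _ _ _ _ _ (T.map (HomologicalComplex.eval A _ j)).g (hTX j).epi_g
        (CochainComplex.isZero_of_isStrictlyLE T₂ n j hj)
  have hq₁ : QuasiIso τ₁ := by
    have := quasiIso_E 0 α
    infer_instance
  have hq₂ : QuasiIso τ₂ := by
    have := quasiIso_E 1 α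
    infer_instance
  refine ⟨T, φ, hT, hL0 0, hL0 1, h3, fun k => ⟨(hP k).1, (hP k).2.1, ?_⟩, hq₁, hq₂, ?_⟩
  · have := (hP k).2.1
    obtain ⟨r, hr⟩ := hTf k
    let sp := ShortComplex.Splitting.ofExactOfRetraction _ (hTX k).exact r hr (hTX k).epi_g
    exact @Retract.projective _ _ _ (T.map (HomologicalComplex.eval A _ k)).X₂
      { i := sp.s, r := (T.map (HomologicalComplex.eval A _ k)).g, retract := sp.s_g } this
  · letI := HasDerivedCategory.standard A
    rw [← DerivedCategory.isIso_Q_map_iff_quasiIso]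
    exact Pretriangulated.isIso₃_of_isIso₁₂ (DerivedCategory.triangleOfSES.map hT hS φ)
      (DerivedCategory.triangleOfSES_distinguished hT) (DerivedCategory.triangleOfSES_distinguished hS)
      ((DerivedCategory.isIso_Q_map_iff_quasiIso _ τ₁).2 hq₁)
      ((DerivedCategory.isIso_Q_map_iff_quasiIso _ τ₂).2 hq₂)

end Groth.Agent.Lib.DerCat.HorseRes
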