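import Groth.Agent.Lib.DerCat.SubRes
import Mathlib.Algebra.Homology.DerivedCategory.KInjective
import Mathlib.Algebra.Homology.DerivedCategory.TStructure
import Mathlib.Algebra.Homology.HomotopyCategory.KInjective
import Mathlib.CategoryTheory.Triangulated.TStructure.TruncLTGE
import Mathlib.CategoryTheory.Preadditive.Injective.Basic

/-!
# Injective amplitude
-/

universe w v u

open CategoryTheory CategoryTheory.Limits CategoryTheory.Pretriangulated DerivedCategory

namespace Groth.Agent.Lib.DerCat.InjAmp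

variable {A : Type u} [Category.{v} A] [Abelian A] [HasDerivedCategory.{w} A]

/-- The degree `0` term of a shifted complex. -/
noncomputable abbrev I₀ (K : CochainComplex A ℤ) (i : ℤ) : (K⟦i⟧).X 0 ≅ K.X i :=
  K.shiftFunctorObjXIso i 0 i (by simp)

/-- All morphisms from objects placed in degree `0` to `X⟦i⟧` vanish. -/
def Van (X : DerivedCategory A) (i : ℤ) : Prop :=
  ∀ (Y : A) (φ : (singleFunctor A 0).obj Y ⟶ X⟦i⟧), φ = 0

lemma van_of_iso {X X' : DerivedCategory A} (e : X ≅ X') {i : ℤ} (h : Van X i) : Van X' i :=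
  fun Y φ => by rw [← cancel_mono (e.inv⟦i⟧'), zero_comp]; exact h Y _

lemma exists_hom_of_iso {K J : CochainComplex A ℤ} [J.IsKInjective] (e : Q.obj K ≅ Q.obj J) :
    ∃ f : K ⟶ J, QuasiIso f := by
  obtain ⟨g, hg⟩ := (CochainComplex.IsKInjective.Qh_map_bijective
    ((HomotopyCategory.quotient A (.up ℤ)).obj K) J).surjective
    ((quotientCompQhIso A).hom.app K ≫ e.hom ≫ (quotientCompQhIso A).inv.app J)
  obtain ⟨f, rfl⟩ := (HomotopyCategory.quotient A (.up ℤ)).map_surjective g
  refine ⟨f, (isIso_Q_map_iff_quasiIso A f).1 ?_⟩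
  have : Q.map f = e.hom := by
    rw [← cancel_epi ((quotientCompQhIso A).hom.app K), ← quotientCompQhIso_hom_naturality, hg]
    simp
  rw [this]
  infer_instance

lemma eq_zero_of_isZero_X {I : CochainComplex A ℤ} [I.IsKInjective] {i : ℤ} (h : IsZero (I.X i)) :
    Van (Q.obj I) i := fun Y φ => by
  let J := I⟦i⟧
  let S := (CochainComplex.singleFunctor A 0).obj Y
  let e : Q.obj S ≅ (singleFunctor A 0).obj Y := ((singleFunctorIsoCompQ A 0).app Y).symm
  let e' : Q.obj J ≅ (Q.obj I)⟦i⟧ := (Q.commShiftIso i).app I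
  obtain ⟨g, hg⟩ := (CochainComplex.IsKInjective.Qh_map_bijective
    ((HomotopyCategory.quotient A (.up ℤ)).obj S) J).surjective
    ((quotientCompQhIso A).hom.app S ≫ (e.hom ≫ φ ≫ e'.inv) ≫ (quotientCompQhIso A).inv.app J)
  obtain ⟨f, rfl⟩ := (HomotopyCategory.quotient A (.up ℤ)).map_surjective g
  have hf : f = 0 := HomologicalComplex.from_single_hom_ext
    ((show IsZero (J.X 0) from h.of_iso (I.shiftFunctorObjXIso i 0 i (by simp))).eq_of_tgt _ _)
  subst hf
  rw [Functor.map_zero, Functor.map_zero] at hg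
  rw [← cancel_mono e'.inv, ← cancel_epi e.hom, zero_comp, comp_zero]
  rw [← cancel_epi ((quotientCompQhIso A).hom.app S),
    ← cancel_mono ((quotientCompQhIso A).inv.app J), comp_zero, zero_comp]
  simpa using hg.symm

lemma exists_section {I : CochainComplex A ℤ} [I.IsKInjective] {i : ℤ} (h : Van (Q.obj I) i) :
    ∃ s : I.cycles i ⟶ I.X (i - 1), s ≫ I.d (i - 1) i = I.iCycles i := by
  let J := I⟦i⟧
  let S := (CochainComplex.singleFunctor A 0).obj (I.cycles i)
  let f : S ⟶ J := HomologicalComplex.mkHomFromSingle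
    (I.iCycles i ≫ (I.shiftFunctorObjXIso i 0 i (by simp)).inv) (fun k hk => by simp [J]; rfl)
  have hQ : Q.map f = 0 := by
    have := h (I.cycles i)
      (((singleFunctorIsoCompQ A 0).app (I.cycles i)).hom ≫ Q.map f ≫
        ((Q.commShiftIso i).app I).hom)
    rw [Preadditive.IsIso.comp_left_eq_zero, Preadditive.IsIso.comp_right_eq_zero] at this
    exact this
  have hq : (HomotopyCategory.quotient A (.up ℤ)).map f =
      (HomotopyCategory.quotient A (.up ℤ)).map 0 := by
    refine (CochainComplex.IsKInjective.Qh_map_bijective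
      ((HomotopyCategory.quotient A (.up ℤ)).obj S) J).injective ?_
    rw [← cancel_mono ((quotientCompQhIso A).hom.app J), quotientCompQhIso_hom_naturality,
      quotientCompQhIso_hom_naturality, hQ, Functor.map_zero]
  let H := HomotopyCategory.homotopyOfEq _ _ hq
  have h0 := H.comm 0
  rw [dNext_eq H.hom (i' := 1) (show (ComplexShape.up ℤ).Rel 0 1 from rfl),
    prevD_eq H.hom (j' := -1) (show (ComplexShape.up ℤ).Rel (-1) 0 from rfl)] at h0
  refine ⟨i.negOnePow • ((HomologicalComplex.singleObjXSelf (.up ℤ) 0 (I.cycles i)).inv ≫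
    H.hom 0 (-1) ≫ (I.shiftFunctorObjXIso i (-1) (i - 1) (by lia)).hom), ?_⟩
  simp [f, J, S, CochainComplex.singleFunctor, CochainComplex.singleFunctors] at h0
  have h1 := (HomologicalComplex.singleObjXSelf (.up ℤ) 0 (I.cycles i)).inv ≫= h0
  simp at h1
  rw [← cancel_mono (I.shiftFunctorObjXIso i 0 i (by simp)).inv]
  have key : ∀ (p q : ℤ) (hp : p = i - 1) (hq' : q = i), I.d p q =
      (I.XIsoOfEq hp).hom ≫ I.d (i - 1) i ≫ (I.XIsoOfEq hq').inv := by
    intro p q hp hq'
    subst hp hq'
    simp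
  rw [key (-1 + i) (0 + i) (by lia) (by lia)] at h1
  refine Eq.trans ?_ (h1.trans (congrArg (fun z =>
    (HomologicalComplex.singleObjXSelf (.up ℤ) 0 (I.cycles i)).inv ≫ z)
    ((add_zero _).trans (zero_add _)))).symm
  simp [CochainComplex.shiftFunctorObjXIso, HomologicalComplex.XIsoOfEq]
  exact congrArg (fun z => i.negOnePow •
    ((HomologicalComplex.singleObjXSelf (.up ℤ) 0 (I.cycles i)).inv ≫ H.hom 0 (-1) ≫ z))
    (key (-1 + i) (0 + i) (by lia) (by lia)).symm

lemma exactAt_of_van {I : CochainComplex A ℤ} [I.IsKInjective] {i : ℤ} (h : Van (Q.obj I) i) :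
    I.ExactAt i := by
  obtain ⟨s, hs⟩ := exists_section h
  have hs' : s ≫ I.toCycles (i - 1) i = 𝟙 _ := by
    rw [← cancel_mono (I.iCycles i), Category.assoc, I.toCycles_i, hs, Category.id_comp]
  rw [HomologicalComplex.exactAt_iff_isZero_homology]
  refine IsZero.of_epi_eq_zero (I.homologyπ i) ?_
  rw [← Category.id_comp (I.homologyπ i), ← hs', Category.assoc,
    I.toCycles_comp_homologyπ, comp_zero]

theorem isGE_of_van {I : CochainComplex A ℤ} [I.IsKInjective] (a : ℤ)
    (h : ∀ i < a, Van (Q.obj I) i) : I.IsGE a :=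
  (CochainComplex.isGE_iff _ _).2 fun i hi => exactAt_of_van (h i hi)

omit [HasDerivedCategory.{w} A] in
lemma injective_cycles {I : CochainComplex A ℤ} (b : ℤ) [Injective (I.X b)]
    (s : I.cycles (b + 1) ⟶ I.X b) (hs : s ≫ I.d b (b + 1) = I.iCycles (b + 1)) :
    Injective (I.cycles b) := by
  have hr : (𝟙 (I.X b) - I.toCycles b (b + 1) ≫ s) ≫ I.d b (b + 1) = 0 := by
    simp [Preadditive.sub_comp, hs]
  have : Retract (I.cycles b) (I.X b) :=
    { i := I.iCycles b
      r := I.liftCycles (𝟙 (I.X b) - I.toCycles b (b + 1) ≫ s) (b + 1) (by simp) hr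
      retract := by
        rw [← cancel_mono (I.iCycles b)]
        have : I.iCycles b ≫ I.toCycles b (b + 1) = 0 := by
          rw [← cancel_mono (I.iCycles (b + 1))]; simp
        simp [Preadditive.comp_sub, reassoc_of% this] }
  exact this.injective

/-- Vanishing below `a` forces the cohomology to vanish below `a`. -/
theorem isZero_homology_of_van (K : CochainComplex A ℤ) {i : ℤ} (h : Van (Q.obj K) i) :
    IsZero ((homologyFunctor A i).obj (Q.obj K)) := by
  let J := K⟦i⟧
  let S := (CochainComplex.singleFunctor A 0).obj (K.cycles i)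
  let e0 := I₀ K i
  let f : S ⟶ J := HomologicalComplex.mkHomFromSingle (K.iCycles i ≫ e0.inv)
    (fun k hk => by simp [J, e0, I₀]; rfl)
  have hQ : Q.map f = 0 := by
    have := h (K.cycles i)
      (((singleFunctorIsoCompQ A 0).app (K.cycles i)).hom ≫ Q.map f ≫
        ((Q.commShiftIso i).app K).hom)
    rw [Preadditive.IsIso.comp_left_eq_zero, Preadditive.IsIso.comp_right_eq_zero] at this
    exact this
  have hd : (J.iCycles 0 ≫ e0.hom) ≫ K.d i (i + 1) = 0 := by
    have key : ∀ (p q : ℤ) (hp : p = i) (hq' : q = i + 1), K.d p q =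
        (K.XIsoOfEq hp).hom ≫ K.d i (i + 1) ≫ (K.XIsoOfEq hq').inv := by
      intro p q hp hq'
      subst hp hq'
      simp
    let ic : J.cycles 0 ⟶ K.X (0 + i) := J.iCycles 0
    have h1 : ic ≫ (i.negOnePow • K.d (0 + i) (1 + i)) = 0 := J.iCycles_d 0 1
    rw [Linear.comp_units_smul, smul_eq_zero_iff_eq, key (0 + i) (1 + i) (zero_add i) (add_comm 1 i),
      ← Category.assoc, ← Category.assoc, Category.assoc] at h1
    exact (cancel_mono (K.XIsoOfEq (add_comm 1 i)).inv).1
      (((Category.assoc _ _ _).trans h1).trans zero_comp.symm)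
  let z := K.liftCycles (J.iCycles 0 ≫ e0.hom) (i + 1) (by simp) hd
  let s := S.liftCycles (z ≫ (HomologicalComplex.singleObjXSelf (.up ℤ) 0 (K.cycles i)).inv) 1
    (by simp) ((HomologicalComplex.isZero_single_obj_X (.up ℤ) 0 (K.cycles i) 1
      (by decide)).eq_of_tgt _ _)
  have hs : s ≫ HomologicalComplex.cyclesMap f 0 = 𝟙 _ := by
    rw [← cancel_mono (J.iCycles 0), Category.assoc, HomologicalComplex.cyclesMap_i,
      HomologicalComplex.liftCycles_i_assoc, HomologicalComplex.mkHomFromSingle_f, Category.id_comp]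
    simp only [z, Category.assoc, Iso.inv_hom_id_assoc]
    erw [Iso.inv_hom_id_assoc, HomologicalComplex.liftCycles_i_assoc]
    rw [Category.assoc, Iso.hom_inv_id, Category.comp_id]
  have : IsSplitEpi (HomologicalComplex.cyclesMap f 0) := ⟨⟨⟨s, hs⟩⟩⟩
  have : Epi (HomologicalComplex.homologyMap f 0) :=
    epi_of_epi_fac (HomologicalComplex.homologyπ_naturality f 0)
  have hf0 : HomologicalComplex.homologyMap f 0 = 0 := by
    have := (homologyFunctorFactors A 0).hom.naturality f
    dsimp at this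
    rw [hQ, Functor.map_zero, zero_comp] at this
    exact (cancel_epi ((homologyFunctorFactors A 0).hom.app S)).1 (this.symm.trans comp_zero.symm)
  have hz : IsZero (J.homology 0) :=
    IsZero.of_epi_eq_zero (HomologicalComplex.homologyMap f 0) hf0
  refine hz.of_iso (Iso.symm ?_)
  exact ((homologyFunctorFactors A 0).app J).symm ≪≫
    (homologyFunctor A 0).mapIso ((Q.commShiftIso i).app K) ≪≫
    ((homologyFunctor A 0).shiftIso i 0 i (by simp)).app (Q.obj K)

/-- Vanishing below `a` gives `≥ a`. -/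
theorem isGE_of_van_below (X : DerivedCategory A) (a : ℤ) (h : ∀ i < a, Van X i) : X.IsGE a := by
  have e := Q.objObjPreimageIso X
  exact (isGE_iff _ _).2 fun i hi =>
    (isZero_homology_of_van (Q.objPreimage X) (van_of_iso e.symm (h i hi))).of_iso
      ((homologyFunctor A i).mapIso e.symm)

variable [EnoughInjectives A]

/-- The main criterion. -/
theorem exists_of_van (K : CochainComplex A ℤ) (a b : ℤ) [K.IsStrictlyGE a]
    (h : ∀ i, b < i → Van (Q.obj K) i) :
    ∃ J : CochainComplex A ℤ, J.IsStrictlyGE a ∧ J.IsStrictlyLE b ∧ (∀ n, Injective (J.X n)) ∧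
      Nonempty (Q.obj K ≅ Q.obj J) := by
  obtain ⟨I, α, hI, hP, -, hq⟩ := SubRes.exists_res (P := fun X : A => Injective X)
    (fun X => ⟨Injective.under X, Injective.ι X, inferInstance, inferInstance⟩)
    ⟨_, isZero_zero A, (isZero_zero A).injective⟩ K a
  have : I.IsKInjective := CochainComplex.isKInjective_of_injective I a
  have h' : ∀ i, b < i → Van (Q.obj I) i := fun i hi => van_of_iso (asIso (Q.map α)) (h i hi)
  have hLE : I.IsLE b := (CochainComplex.isLE_iff _ _).2 fun i hi => exactAt_of_van (h' i hi)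
  have : QuasiIso (I.ιTruncLE b) := (I.quasiIso_ιTruncLE_iff b).2 hLE
  have hcyc : Injective (I.cycles b) := by
    obtain ⟨s, hs⟩ := exists_section (h' (b + 1) (by lia))
    obtain ⟨c, hc, hc'⟩ : ∃ c, c = b ∧ b + 1 - 1 = c := ⟨b, rfl, by lia⟩
    subst hc
    revert s
    rw [hc']
    intro s hs
    exact injective_cycles c s hs
  refine ⟨I.truncLE b, ?_, inferInstance, fun n => ?_,
    ⟨asIso (Q.map α) ≪≫ (asIso (Q.map (I.ιTruncLE b))).symm⟩⟩
  · refine (CochainComplex.isStrictlyGE_iff _ _).2 fun i hi => ?_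
    rcases lt_trichotomy i b with hn | rfl | hn
    · exact (I.isZero_of_isStrictlyGE a i hi).of_iso (I.truncLEXIso b i hn)
    · exact (IsZero.of_mono (I.iCycles i) (I.isZero_of_isStrictlyGE a i hi)).of_iso
        (I.truncLEXIsoCycles i)
    · exact (I.truncLE b).isZero_of_isStrictlyLE b i hn
  · rcases lt_trichotomy n b with hn | rfl | hn
    · exact Injective.of_iso (I.truncLEXIso b n hn).symm (hP n)
    · exact Injective.of_iso (I.truncLEXIsoCycles n).symm hcyc
    · exact ((I.truncLE b).isZero_of_isStrictlyLE b n hn).injective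

end Groth.Agent.Lib.DerCat.InjAmp
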