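import Groth.Agent.Lib.DerCat.KInjExists

/-!
# Functorial K-injective resolutions by injective terms
-/

universe v u

open CategoryTheory CategoryTheory.Limits ZeroObject

namespace Groth.Agent.Lib.DerCat.KInjFunctor

open Groth.Agent.Lib.DerivedOX.TrivCof (acycMono quasiIso_of_acycMono)
open KInjExists

variable (A : Type u) [Category.{v} A] [Abelian A] [IsGrothendieckAbelian.{v} A]

/-- The functorial factorization of the small object argument. -/
noncomputable def data : MorphismProperty.FunctorialFactorizationData
    (genAcyc (separator A)).rlp.llp (genAcyc (separator A)).rlp :=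
  MorphismProperty.functorialFactorizationData _ _

/-- `M ↦ (M ⟶ 0)`. -/
noncomputable def toZero : CochainComplex A ℤ ⥤ Arrow (CochainComplex A ℤ) where
  obj M := Arrow.mk (0 : M ⟶ (0 : CochainComplex A ℤ))
  map f := Arrow.homMk f (𝟙 _) ((isZero_zero _).eq_of_tgt _ _)

/-- The resolution functor. -/
noncomputable def R : CochainComplex A ℤ ⥤ CochainComplex A ℤ := toZero A ⋙ (data A).Z

/-- The augmentation. -/
noncomputable def j : 𝟭 (CochainComplex A ℤ) ⟶ R A where
  app M := (data A).i.app ((toZero A).obj M)
  naturality _ _ f := (data A).i.naturality ((toZero A).map f)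

variable {A}

lemma acycMono_j (M : CochainComplex A ℤ) : acycMono A ((j A).app M) :=
  llp_rlp_genAcyc_le _ _ ((data A).hi _)

lemma quasiIso_j (M : CochainComplex A ℤ) : QuasiIso ((j A).app M) :=
  quasiIso_of_acycMono (acycMono_j M)

lemma mono_j (M : CochainComplex A ℤ) : Mono ((j A).app M) := (acycMono_j M).1

lemma mono_j_f (M : CochainComplex A ℤ) (n : ℤ) : Mono (((j A).app M).f n) :=
  have := mono_j M
  inferInstance

lemma kinj_R (M : CochainComplex A ℤ) :
    ((R A).obj M).IsKInjective ∧ ∀ n : ℤ, Injective (((R A).obj M).X n) := by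
  have hp : (acycMono A).rlp ((data A).p.app ((toZero A).obj M)) :=
    MorphismProperty.antitone_rlp (acycMono_le_llp_rlp (isSeparator_separator A)) _
      (by rw [MorphismProperty.rlp_llp_rlp]; exact (data A).hp _)
  refine isKInjective_of_lift _ fun S hS h₃ φ => ?_
  have := hS.mono_f
  have hS' : acycMono A S.f := ⟨inferInstance, fun n => by
    rw [HomologicalComplex.exactAt_iff_isZero_homology]
    exact ((h₃ n).isZero_homology).of_iso ((HomologicalComplex.homologyFunctor A _ n).mapIso
      ((cokernelIsCokernel S.f).coconePointUniqueUpToIso hS.gIsCokernel))⟩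
  have hl := hp _ hS'
  have sq : CommSq φ S.f ((data A).p.app ((toZero A).obj M)) 0 := ⟨(isZero_zero _).eq_of_tgt _ _⟩
  have : sq.HasLift := hl.sq_hasLift sq
  exact ⟨sq.lift, sq.fac_left⟩

end Groth.Agent.Lib.DerCat.KInjFunctor
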