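import Groth.Agent.Lib.DerCat.HProd
import Mathlib.Algebra.Homology.HomotopyCategory.DegreewiseSplit
import Mathlib.Algebra.Homology.HomotopyCategory.KInjective
import Mathlib.CategoryTheory.Functor.OfSequence

/-!
# Products and split sequential limits of K-injective complexes
-/

universe v u t

open CategoryTheory CategoryTheory.Limits CategoryTheory.Pretriangulated Opposite

namespace Groth.Agent.Lib.DerCat.KInjLim

variable {A : Type u} [Category.{v} A] [Abelian A]

/-- A product of K-injective complexes is K-injective, if products exist in `A`. -/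
theorem isKInjective_prod {T : Type t} [HasLimitsOfShape (Discrete T) A]
    (I : T → CochainComplex A ℤ) (h : ∀ t, (I t).IsKInjective) : (∏ᶜ I).IsKInjective :=
  ⟨fun {K} f hK => ⟨HProd.homotopyLift I f 0 fun j =>
    have := h j
    (CochainComplex.IsKInjective.homotopyZero (f ≫ Pi.π I j) hK).trans
      (Homotopy.ofEq zero_comp.symm)⟩⟩

/-- In a degreewise split short exact sequence, the kernel of K-injective complexes is
K-injective. -/
theorem isKInjective_of_split (S : ShortComplex (CochainComplex A ℤ))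
    (σ : ∀ n, (S.map (HomologicalComplex.eval A (ComplexShape.up ℤ) n)).Splitting)
    [S.X₂.IsKInjective] [S.X₃.IsKInjective] : S.X₁.IsKInjective := by
  rw [CochainComplex.isKInjective_iff_rightOrthogonal]
  intro K f hK
  let T := CochainComplex.trianglehOfDegreewiseSplit S σ
  have hT : T ∈ distTriang _ :=
    (HomotopyCategory.distinguished_iff_iso_trianglehOfDegreewiseSplit _).2 ⟨S, σ, ⟨Iso.refl _⟩⟩
  have h₂ : f ≫ T.mor₁ = 0 := CochainComplex.IsKInjective.rightOrthogonal S.X₂ _ hK
  obtain ⟨g, hg⟩ := Triangle.coyoneda_exact₂ _ (inv_rot_of_distTriang _ hT) f h₂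
  let e := ((HomotopyCategory.quotient A (ComplexShape.up ℤ)).commShiftIso (-1 : ℤ)).app S.X₃
  have hg0 : g ≫ e.inv = 0 := CochainComplex.IsKInjective.rightOrthogonal _ _ hK
  have : g = 0 := (cancel_mono e.inv).1 (hg0.trans zero_comp.symm)
  rw [hg, this]
  exact zero_comp

open CochainComplex CochainComplex.HomComplex in
/-- A product of K-injective complexes is K-injective, whenever it exists. -/
theorem isKInjective_pi {T : Type t} (I : T → CochainComplex A ℤ) [HasProduct I]
    (h : ∀ t, (I t).IsKInjective) : (∏ᶜ I).IsKInjective := by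
  refine ⟨fun {K} f hK => ?_⟩
  have := h
  let ho : ∀ j, Homotopy (f ≫ Pi.π I j) 0 := fun j => IsKInjective.homotopyZero _ hK
  let g : mappingCone (𝟙 K) ⟶ ∏ᶜ I := Pi.lift fun j =>
    mappingCone.desc (𝟙 K) (Cochain.ofHomotopy (ho j)) (f ≫ Pi.π I j) (by simp)
  have hg : mappingCone.inr (𝟙 K) ≫ g = f := Pi.hom_ext _ _ fun j => by simp [g]
  let c : Homotopy (𝟙 (mappingCone (𝟙 K))) 0 :=
    mappingCone.descHomotopy (𝟙 K) _ _ 0 (mappingCone.inl (𝟙 K)) (by simp) (by simp)
  exact ⟨(Homotopy.ofEq (by simp [hg])).trans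
    (((c.compRight g).compLeft (mappingCone.inr (𝟙 K))).trans (Homotopy.ofEq (by simp)))⟩

/-- The partial products `F 0 ⊞ ⋯ ⊞ F n`. -/
noncomputable def partialProd (F : ℕ → A) : ℕ → A
  | 0 => F 0
  | k + 1 => biprod (partialProd F k) (F (k + 1))

/-- The last projection from a partial product. -/
noncomputable def partialProj (F : ℕ → A) : ∀ n, partialProd F n ⟶ F n
  | 0 => 𝟙 (F 0)
  | k + 1 => (biprod.snd : biprod (partialProd F k) (F (k + 1)) ⟶ F (k + 1))

/-- The map into a partial product. -/
noncomputable def partialLift (F : ℕ → A) {W : A} (s : ∀ n, W ⟶ F n) :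
    ∀ n, W ⟶ partialProd F n
  | 0 => s 0
  | k + 1 => biprod.lift (partialLift F s k) (s (k + 1))

/-- An abelian category with sequential limits has countable products. -/
theorem hasLimitsOfShape_nat [HasLimitsOfShape ℕᵒᵖ A] : HasLimitsOfShape (Discrete ℕ) A := by
  suffices key : ∀ F : ℕ → A, HasProduct F from
    ⟨fun F => have := key fun n => F.obj ⟨n⟩; hasLimit_of_iso Discrete.natIsoFunctor.symm⟩
  intro F
  let f : ∀ n : ℕ, partialProd F (n + 1) ⟶ partialProd F n := fun n =>
    (biprod.fst : biprod (partialProd F n) (F (n + 1)) ⟶ partialProd F n)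
  let D := Functor.ofOpSequence f
  have hD : ∀ n, limit.π D (op (n + 1)) ≫ f n = limit.π D (op n) := fun n => by
    have := limit.w D (homOfLE (Nat.le_succ n)).op
    rwa [Functor.ofOpSequence_map_homOfLE_succ] at this
  refine ⟨⟨⟨Fan.mk (limit D) fun n => limit.π D (op n) ≫ partialProj F n, Fan.IsLimit.mk _
    (fun s => limit.lift D ⟨s.pt, NatTrans.ofOpSequence (fun n => partialLift F s.proj n) fun n => by
      simp [D, f, partialLift]; exact (biprod.lift_fst _ _).symm⟩) (fun s n => ?_) (fun s m hm => ?_)⟩⟩⟩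
  · cases n
    · simp [D, partialLift, partialProj]
      exact Category.comp_id _
    · simp [D, partialLift, partialProj]
      exact biprod.lift_snd _ _
  · refine limit.hom_ext (F := D) fun j => ?_
    obtain ⟨n⟩ := j
    rw [show ∀ c : Cone D, limit.lift D c ≫ limit.π D (op n) = c.π.app (op n) from fun c => limit.lift_π c _]
    simp only [NatTrans.ofOpSequence_app]
    induction n with
    | zero => exact (congrArg (m ≫ ·) (Category.comp_id _).symm).trans (hm 0)
    | succ k ih =>
      refine biprod.hom_ext (X := partialProd F k) (Y := F (k + 1)) _ _ ?_ ?_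
      · exact (Category.assoc _ _ _).trans ((congrArg (m ≫ ·) (hD k)).trans
          (ih.trans (biprod.lift_fst _ _).symm))
      · exact (Category.assoc _ _ _).trans ((hm (k + 1)).trans (biprod.lift_snd _ _).symm)

variable [HasLimitsOfShape ℕᵒᵖ A] [HasLimitsOfShape (Discrete ℕ) A]
  (I : ℕᵒᵖ ⥤ CochainComplex A ℤ)

/-- `1 - shift` on the product. -/
noncomputable abbrev diff : (∏ᶜ fun n : ℕ => I.obj (op n)) ⟶ ∏ᶜ fun n : ℕ => I.obj (op n) :=
  Pi.lift fun n => Pi.π _ n - Pi.π _ (n + 1) ≫ I.map (homOfLE (Nat.le_succ n)).op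

/-- The inclusion of the limit. -/
noncomputable abbrev incl : limit I ⟶ ∏ᶜ fun n : ℕ => I.obj (op n) :=
  Pi.lift fun n => limit.π I (op n)

lemma incl_diff : incl I ≫ diff I = 0 := Pi.hom_ext _ _ fun n => by simp

/-- The cone attached to an element killed by `1 - shift`. -/
noncomputable def coneOf {W : CochainComplex A ℤ} (k : W ⟶ ∏ᶜ fun n : ℕ => I.obj (op n))
    (hk : k ≫ diff I = 0) : Cone I :=
  ⟨W, NatTrans.ofOpSequence (fun n => k ≫ Pi.π _ n) (fun n => by
    have h := hk =≫ Pi.π (fun n : ℕ => I.obj (op n)) n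
    simp only [diff, Category.assoc, Pi.lift_π, Preadditive.comp_sub, zero_comp, sub_eq_zero] at h
    simpa using h)⟩

theorem exact_incl_diff : (ShortComplex.mk _ _ (incl_diff I)).Exact :=
  ShortComplex.exact_of_f_is_kernel _ (KernelFork.IsLimit.ofι _ _
    (fun k hk => limit.lift I (coneOf I k hk))
    (fun k hk => Pi.hom_ext _ _ fun n => by simp [coneOf])
    (fun k hk m hm => limit.hom_ext fun ⟨n⟩ => by
      refine Eq.trans ?_ (limit.lift_π (coneOf I k hk) (op n)).symm
      exact (congrArg (m ≫ ·) (Pi.lift_π (fun n => limit.π I (op n)) n).symm).trans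
        ((Category.assoc _ _ _).symm.trans (congrArg (· ≫ Pi.π _ n) hm))))

instance mono_incl : Mono (incl I) :=
  ⟨fun g h e => limit.hom_ext fun ⟨n⟩ => by
    simpa using e =≫ Pi.π (fun n : ℕ => I.obj (op n)) n⟩

/-- Splitting of `1 - shift` in each degree when the transition maps split. -/
noncomputable def splitting
    (h2 : ∀ (n : ℕ) (m : ℤ), IsSplitEpi ((I.map (homOfLE (Nat.le_succ n)).op).f m)) (m : ℤ) :
    ((ShortComplex.mk _ _ (incl_diff I)).map
      (HomologicalComplex.eval A (ComplexShape.up ℤ) m)).Splitting :=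
  let P : ℕ → CochainComplex A ℤ := fun n => I.obj (op n)
  let x : ∀ n : ℕ, (∏ᶜ P).X m ⟶ (P n).X m := fun n =>
    Nat.rec 0 (fun k xk => (xk - (Pi.π P k).f m) ≫
      @section_ _ _ _ _ ((I.map (homOfLE (Nat.le_succ k)).op).f m) (h2 k m)) n
  have : Mono ((ShortComplex.mk _ _ (incl_diff I)).map
      (HomologicalComplex.eval A (ComplexShape.up ℤ) m)).f :=
    inferInstanceAs (Mono ((HomologicalComplex.eval A (ComplexShape.up ℤ) m).map (incl I)))
  ShortComplex.Splitting.ofExactOfSection _
    ((exact_incl_diff I).map (HomologicalComplex.eval A (ComplexShape.up ℤ) m))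
    (HProd.liftX P x)
    (HProd.hom_ext_f' P fun n => by
      have := h2 n m
      have e : (diff I).f m ≫ (Pi.π P n).f m = (Pi.π P n).f m -
          (Pi.π P (n + 1)).f m ≫ (I.map (homOfLE (Nat.le_succ n)).op).f m := by
        rw [← HomologicalComplex.comp_f, Pi.lift_π]
        simp [P]
      change (HProd.liftX P x ≫ (diff I).f m) ≫ (Pi.π P n).f m = 𝟙 _ ≫ (Pi.π P n).f m
      rw [Category.assoc, e, Preadditive.comp_sub, ← Category.assoc, HProd.liftX_π, HProd.liftX_π,
        Category.id_comp]
      have hx : x (n + 1) = (x n - (Pi.π P n).f m) ≫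
          section_ ((I.map (homOfLE (Nat.le_succ n)).op).f m) := rfl
      erw [hx]
      simp)
    this

/-- A limit of K-injective complexes along degreewise split epimorphisms is K-injective. -/
theorem isKInjective_limit (h1 : ∀ n : ℕ, (I.obj (op n)).IsKInjective)
    (h2 : ∀ (n : ℕ) (m : ℤ), IsSplitEpi ((I.map (homOfLE (Nat.le_succ n)).op).f m)) :
    (limit I).IsKInjective := by
  have := isKInjective_prod (fun n : ℕ => I.obj (op n)) h1
  exact isKInjective_of_split (ShortComplex.mk _ _ (incl_diff I)) (splitting I h2)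

end Groth.Agent.Lib.DerCat.KInjLim
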