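import Groth.Agent.Lib.DerCat.KInjLim
import Mathlib.Algebra.Homology.Factorizations.CM5a
import Mathlib.Algebra.Homology.Refinements
import Mathlib.Algebra.Homology.Embedding.CochainComplex
import Mathlib.CategoryTheory.Abelian.GrothendieckAxioms.Basic

/-!
# K-injective resolutions as limits of towers, if countable products are exact
-/

universe v u

open CategoryTheory CategoryTheory.Limits

namespace Groth.Agent.Lib.DerCat.LimRes

variable {A : Type u} [Category.{v} A] [Abelian A] [HasLimitsOfShape (Discrete ℕ) A]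

/-- Countably many epimorphisms onto an object have a common refinement. -/
lemma exists_common_refinement [HasExactLimitsOfShape (Discrete ℕ) A] {T : A} {T' : ℕ → A}
    (π : ∀ n, T' n ⟶ T) (hπ : ∀ n, Epi (π n)) :
    ∃ (U : A) (ρ : U ⟶ T) (σ : ∀ n, U ⟶ T' n), Epi ρ ∧ ∀ n, σ n ≫ π n = ρ := by
  let τ : Discrete.functor T' ⟶ Discrete.functor (fun _ : ℕ => T) :=
    Discrete.natTrans fun j => π j.as
  have : ∀ j, Epi (τ.app j) := fun j => hπ j.as
  have : Epi τ := NatTrans.epi_of_epi_app τ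
  have he : Epi (Limits.Pi.map π) := by
    change Epi (lim.map τ)
    infer_instance
  let diag : T ⟶ ∏ᶜ (fun _ : ℕ => T) := Pi.lift fun _ => 𝟙 T
  refine ⟨pullback diag (Limits.Pi.map π), pullback.fst _ _,
    fun n => pullback.snd _ _ ≫ Pi.π T' n, inferInstance, fun n => ?_⟩
  have := pullback.condition (f := diag) (g := Limits.Pi.map π) =≫ Pi.π (fun _ : ℕ => T) n
  simpa [diag] using this.symm

variable (X : ℕ → CochainComplex A ℤ) (t : ∀ n, X (n + 1) ⟶ X n)

/-- `1 - shift`. -/
noncomputable abbrev diff : (∏ᶜ X) ⟶ ∏ᶜ X :=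
  Pi.lift fun n => Pi.π X n - Pi.π X (n + 1) ≫ t n

/-- The limit of the tower. -/
noncomputable abbrev Lim : CochainComplex A ℤ := kernel (diff X t)

/-- The projections. -/
noncomputable def proj (n : ℕ) : Lim X t ⟶ X n := kernel.ι (diff X t) ≫ Pi.π X n

lemma proj_comp (n : ℕ) : proj X t (n + 1) ≫ t n = proj X t n := by
  have := kernel.condition (diff X t) =≫ Pi.π X n
  simp only [diff, Category.assoc, Pi.lift_π, Preadditive.comp_sub, zero_comp, sub_eq_zero] at this
  simpa [proj] using this.symm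

lemma diff_f (n : ℕ) (m : ℤ) : (diff X t).f m ≫ (Pi.π X n).f m =
    (Pi.π X n).f m - (Pi.π X (n + 1)).f m ≫ (t n).f m := by
  rw [← HomologicalComplex.comp_f, Pi.lift_π]
  simp

lemma hom_ext {W : A} {m : ℤ} {a b : W ⟶ (Lim X t).X m}
    (h : ∀ n, a ≫ (proj X t n).f m = b ≫ (proj X t n).f m) : a = b := by
  have : Mono ((HomologicalComplex.eval A _ m).map (kernel.ι (diff X t))) := inferInstance
  have : Mono ((kernel.ι (diff X t)).f m) := this
  rw [← cancel_mono ((kernel.ι (diff X t)).f m)]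
  refine HProd.hom_ext_f' X fun n => ?_
  simpa [proj] using h n

lemma hom_ext_ge {W : A} {m : ℤ} {a b : W ⟶ (Lim X t).X m} (N : ℕ)
    (h : ∀ n, N ≤ n → a ≫ (proj X t n).f m = b ≫ (proj X t n).f m) : a = b := by
  induction N with
  | zero => exact hom_ext X t fun n => h n (Nat.zero_le n)
  | succ N ih =>
    refine ih fun n hn => ?_
    obtain rfl | hn := eq_or_lt_of_le hn
    · rw [← proj_comp X t, HomologicalComplex.comp_f, ← Category.assoc, ← Category.assoc,
        h _ le_rfl]
    · exact h n hn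

lemma exists_elem {W : A} {m : ℤ} (w : ∀ n, W ⟶ (X n).X m) (N : ℕ)
    (hw : ∀ n, N ≤ n → w (n + 1) ≫ (t n).f m = w n) :
    ∃ a : W ⟶ (Lim X t).X m, ∀ n, N ≤ n → a ≫ (proj X t n).f m = w n := by
  induction N generalizing w with
  | zero =>
    let S := ShortComplex.mk (kernel.ι (diff X t)) (diff X t) (kernel.condition _)
    have hS : (S.map (HomologicalComplex.eval A (ComplexShape.up ℤ) m)).Exact :=
      (ShortComplex.exact_of_f_is_kernel S (kernelIsKernel (diff X t))).map _
    have : Mono ((HomologicalComplex.eval A _ m).map (kernel.ι (diff X t))) := inferInstance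
    have : Mono (S.map (HomologicalComplex.eval A (ComplexShape.up ℤ) m)).f := this
    have h0 : HProd.liftX X w ≫ (diff X t).f m = 0 := HProd.hom_ext_f' X fun n => by
      rw [Category.assoc, diff_f, Preadditive.comp_sub, ← Category.assoc, HProd.liftX_π,
        HProd.liftX_π, hw n (Nat.zero_le n), sub_self, zero_comp]
    refine ⟨hS.lift (HProd.liftX X w) h0, fun n _ => ?_⟩
    have e := hS.lift_f (HProd.liftX X w) h0
    change hS.lift (HProd.liftX X w) h0 ≫ ((kernel.ι (diff X t)) ≫ Pi.π X n).f m = _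
    rw [HomologicalComplex.comp_f]
    exact (Category.assoc _ _ _).symm.trans
      ((congrArg (· ≫ (Pi.π X n).f m) e).trans (HProd.liftX_π X w n))
  | succ N ih =>
    obtain ⟨a, ha⟩ := ih (Function.update w N (w (N + 1) ≫ (t N).f m)) fun n hn => by
      obtain rfl | hn' := eq_or_lt_of_le hn
      · simp
      · rw [Function.update_of_ne (by omega), Function.update_of_ne (by omega)]
        exact hw n hn'
    exact ⟨a, fun n hn => by rw [ha n (by omega), Function.update_of_ne (by omega)]⟩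

variable {K : CochainComplex A ℤ} (φ : K ⟶ Lim X t)

lemma mono_homologyMap (m : ℤ) (n : ℕ)
    (h : Mono (HomologicalComplex.homologyMap (φ ≫ proj X t n) m)) :
    Mono (HomologicalComplex.homologyMap φ m) := by
  rw [HomologicalComplex.homologyMap_comp] at h
  exact mono_of_mono _ (HomologicalComplex.homologyMap (proj X t n) m)

variable [HasExactLimitsOfShape (Discrete ℕ) A]

lemma epi_homologyMap (ht : ∀ n m, IsSplitEpi ((t n).f m)) (m : ℤ) (N : ℕ)
    (hf : ∀ n, N ≤ n → IsIso (HomologicalComplex.homologyMap (φ ≫ proj X t n) m) ∧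
      Epi (HomologicalComplex.homologyMap (φ ≫ proj X t n) (m - 1))) :
    Epi (HomologicalComplex.homologyMap φ m) := by
  rw [HomologicalComplex.epi_homologyMap_iff_up_to_refinements φ (m - 1) m (m + 1) (by simp)
    (by simp)]
  intro T z hz
  have := (hf N le_rfl).1
  obtain ⟨T₁, π₁, _, x, hx, y, hxy⟩ := (HomologicalComplex.epi_homologyMap_iff_up_to_refinements
    (φ ≫ proj X t N) (m - 1) m (m + 1) (by simp) (by simp)).1 inferInstance
    (z ≫ (proj X t N).f m) (by
      rw [Category.assoc, (proj X t N).comm, ← Category.assoc, hz, zero_comp])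
  let z' := π₁ ≫ z - x ≫ φ.f m
  have hz' : z' ≫ (Lim X t).d m (m + 1) = 0 := by
    simp [z', hz, φ.comm, reassoc_of% hx]
  have inj : ∀ n, N ≤ n → ∀ {U : A} (u : U ⟶ (X (n + 1)).homology m),
      u ≫ HomologicalComplex.homologyMap (t n) m = 0 → u = 0 := fun n hn U u hu => by
    have h1 := (hf n hn).1
    have h2 := (hf (n + 1) (by omega)).1
    have e : HomologicalComplex.homologyMap (φ ≫ proj X t (n + 1)) m ≫
        HomologicalComplex.homologyMap (t n) m =
        HomologicalComplex.homologyMap (φ ≫ proj X t n) m := by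
      rw [← HomologicalComplex.homologyMap_comp, Category.assoc, proj_comp]
    have : IsIso (HomologicalComplex.homologyMap (t n) m) := by
      have : IsIso (HomologicalComplex.homologyMap (φ ≫ proj X t (n + 1)) m ≫
          HomologicalComplex.homologyMap (t n) m) := by rw [e]; exact h1
      exact IsIso.of_isIso_comp_left (HomologicalComplex.homologyMap (φ ≫ proj X t (n + 1)) m) _
    rw [← cancel_mono (HomologicalComplex.homologyMap (t n) m), hu, zero_comp]
  let c := (Lim X t).liftCycles z' (m + 1) (by simp) hz'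
  have hc : ∀ n, N ≤ n →
      c ≫ (Lim X t).homologyπ m ≫ HomologicalComplex.homologyMap (proj X t n) m = 0 := by
    refine Nat.le_induction ?_ fun n hn ih => ?_
    · rw [HomologicalComplex.homologyπ_naturality, HomologicalComplex.liftCycles_comp_cyclesMap_assoc]
      refine (X N).liftCycles_homologyπ_eq_zero_of_boundary _ _ _ y ?_
      have := hxy
      simp only [z', Preadditive.sub_comp, Category.assoc]
      rw [this]
      simp
    · apply inj n hn
      rw [Category.assoc, Category.assoc, ← HomologicalComplex.homologyMap_comp, proj_comp]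
      exact ih
  have hb : ∀ n, ∃ (U : A) (π : U ⟶ T₁) (_ : Epi π) (w : U ⟶ (X n).X (m - 1)),
      N ≤ n → π ≫ z' ≫ (proj X t n).f m = w ≫ (X n).d (m - 1) m := by
    intro n
    by_cases hn : N ≤ n
    · obtain ⟨U, π, hπ, w, hw⟩ :=
        ((X n).liftCycles_comp_homologyπ_eq_zero_iff_up_to_refinements (m - 1) m (m + 1) (by simp)
          (by simp) (z' ≫ (proj X t n).f m) (by
            rw [Category.assoc, (proj X t n).comm, ← Category.assoc, hz', zero_comp])).1 (by
          have := hc n hn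
          rw [HomologicalComplex.homologyπ_naturality,
            HomologicalComplex.liftCycles_comp_cyclesMap_assoc] at this
          exact this)
      exact ⟨U, π, hπ, w, fun _ => by simpa using hw⟩
    · exact ⟨T₁, 𝟙 _, inferInstance, 0, fun h => absurd h hn⟩
  choose U π hπ w hw using hb
  obtain ⟨T₂, ρ, σ, hρ, hσ⟩ := exists_common_refinement π hπ
  let Y : ∀ n, T₂ ⟶ (X n).X (m - 1) := fun n => σ n ≫ w n
  have hY : ∀ n, N ≤ n → ρ ≫ z' ≫ (proj X t n).f m = Y n ≫ (X n).d (m - 1) m := fun n hn => by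
    simp only [Y, Category.assoc, ← hσ n]
    rw [← hw n hn]
  let err : ∀ n, T₂ ⟶ (X n).X (m - 1) := fun n => Y (n + 1) ≫ (t n).f (m - 1) - Y n
  have herr : ∀ n, N ≤ n → err n ≫ (X n).d (m - 1) m = 0 := fun n hn => by
    rw [Preadditive.sub_comp, Category.assoc, (t n).comm, ← Category.assoc, ← hY _ (by omega),
      ← hY n hn, Category.assoc, Category.assoc, ← HomologicalComplex.comp_f, proj_comp, sub_self]
  have hd : ∀ n, ∃ (U : A) (π : U ⟶ T₂) (_ : Epi π) (a : U ⟶ K.X (m - 1))
      (b : U ⟶ (X n).X (m - 2)), N ≤ n → a ≫ K.d (m - 1) m = 0 ∧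
        π ≫ err n = a ≫ (φ ≫ proj X t n).f (m - 1) + b ≫ (X n).d (m - 2) (m - 1) := by
    intro n
    by_cases hn : N ≤ n
    · obtain ⟨U, π, hπ, a, ha, b, hab⟩ :=
        (HomologicalComplex.epi_homologyMap_iff_up_to_refinements (φ ≫ proj X t n) (m - 2) (m - 1) m
          (by simp; omega) (by simp)).1 (hf n hn).2 (err n) (herr n hn)
      exact ⟨U, π, hπ, a, b, fun _ => ⟨ha, hab⟩⟩
    · exact ⟨T₂, 𝟙 _, inferInstance, 0, 0, fun h => absurd h hn⟩
  choose U' π' hπ' a b hab using hd
  obtain ⟨T₃, ρ', σ', hρ', hσ'⟩ := exists_common_refinement π' hπ'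
  let α : ℕ → (T₃ ⟶ K.X (m - 1)) := fun n =>
    Nat.rec 0 (fun k r => if N ≤ k then r - σ' k ≫ a k else 0) n
  have hα : ∀ n, α n ≫ K.d (m - 1) m = 0 := fun n => by
    induction n with
    | zero => exact zero_comp
    | succ k ih =>
      change (if N ≤ k then α k - σ' k ≫ a k else 0) ≫ _ = 0
      split
      · next h => simp [ih, (hab k h).1]
      · exact zero_comp
  let β : ∀ n, T₃ ⟶ (X n).X (m - 2) := fun n =>
    Nat.rec 0 (fun k r => (r - σ' k ≫ b k) ≫ @section_ _ _ _ _ ((t k).f (m - 2)) (ht k (m - 2))) n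
  have hβ : ∀ k, β (k + 1) ≫ (t k).f (m - 2) = β k - σ' k ≫ b k := fun k => by
    have := ht k (m - 2)
    change ((β k - σ' k ≫ b k) ≫ section_ ((t k).f (m - 2))) ≫ _ = _
    rw [Category.assoc, IsSplitEpi.id, Category.comp_id]
  let Y' : ∀ n, T₃ ⟶ (X n).X (m - 1) := fun n =>
    ρ' ≫ Y n + α n ≫ (φ ≫ proj X t n).f (m - 1) + β n ≫ (X n).d (m - 2) (m - 1)
  have hY' : ∀ n, N ≤ n → Y' (n + 1) ≫ (t n).f (m - 1) = Y' n := fun n hn => by
    have e : ρ' ≫ Y (n + 1) ≫ (t n).f (m - 1) = ρ' ≫ Y n +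
        (σ' n ≫ a n) ≫ (φ ≫ proj X t n).f (m - 1) +
        (σ' n ≫ b n) ≫ (X n).d (m - 2) (m - 1) := by
      rw [add_assoc, Category.assoc (σ' n) (a n), Category.assoc (σ' n) (b n),
        ← Preadditive.comp_add, ← (hab n hn).2,
        ← Category.assoc (σ' n), hσ', ← Preadditive.comp_add, add_sub_cancel]
    have e1 : (α (n + 1) ≫ (φ ≫ proj X t (n + 1)).f (m - 1)) ≫ (t n).f (m - 1) =
        (α n - σ' n ≫ a n) ≫ (φ ≫ proj X t n).f (m - 1) := by
      rw [Category.assoc, ← HomologicalComplex.comp_f, Category.assoc, proj_comp]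
      simp [α, hn]
    have e2 : (β (n + 1) ≫ (X (n + 1)).d (m - 2) (m - 1)) ≫ (t n).f (m - 1) =
        (β n - σ' n ≫ b n) ≫ (X n).d (m - 2) (m - 1) := by
      rw [Category.assoc, ← (t n).comm, ← Category.assoc, hβ]
    simp only [Y', Preadditive.add_comp, Category.assoc] at e e1 e2 ⊢
    rw [e, e1, e2]
    simp only [Preadditive.sub_comp, Category.assoc]
    abel
  obtain ⟨g, hg⟩ := exists_elem X t Y' N hY'
  refine ⟨T₃, ρ' ≫ ρ ≫ π₁, inferInstance, ρ' ≫ ρ ≫ x, by simp [hx], g, ?_⟩
  refine hom_ext_ge X t N fun n hn => ?_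
  have e : g ≫ (Lim X t).d (m - 1) m ≫ (proj X t n).f m = ρ' ≫ ρ ≫ z' ≫ (proj X t n).f m := by
    rw [← (proj X t n).comm, ← Category.assoc, hg n hn, hY n hn]
    simp [Y', reassoc_of% (hα n), φ.comm_assoc]
  simp only [Preadditive.add_comp, Category.assoc, e]
  simp [z']

/-- The map to the limit of a tower is a quasi-isomorphism if it is so eventually in each degree. -/
theorem quasiIso (ht : ∀ n m, IsSplitEpi ((t n).f m))
    (hf : ∀ m : ℤ, ∃ N : ℕ, ∀ n, N ≤ n →
      IsIso (HomologicalComplex.homologyMap (φ ≫ proj X t n) m)) : QuasiIso φ := by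
  refine ⟨fun m => ?_⟩
  rw [quasiIsoAt_iff_isIso_homologyMap]
  obtain ⟨N, hN⟩ := hf m
  obtain ⟨N', hN'⟩ := hf (m - 1)
  have := hN N le_rfl
  have := mono_homologyMap X t φ m N inferInstance
  have := epi_homologyMap X t φ ht m (max N N') fun n hn =>
    ⟨hN n (le_trans (le_max_left _ _) hn),
      have := hN' n (le_trans (le_max_right _ _) hn); inferInstance⟩
  exact isIso_of_mono_of_epi _

omit [HasExactLimitsOfShape (Discrete ℕ) A] in
theorem isKInjective (ht : ∀ n m, IsSplitEpi ((t n).f m)) (h : ∀ n, (X n).IsKInjective) :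
    (Lim X t).IsKInjective := by
  have := KInjLim.isKInjective_prod X h
  let S := ShortComplex.mk (kernel.ι (diff X t)) (diff X t) (kernel.condition _)
  refine KInjLim.isKInjective_of_split S fun m => ?_
  have : Mono (S.map (HomologicalComplex.eval A (ComplexShape.up ℤ) m)).f :=
    inferInstanceAs (Mono ((HomologicalComplex.eval A _ m).map (kernel.ι (diff X t))))
  let x : ∀ n : ℕ, (∏ᶜ X).X m ⟶ (X n).X m := fun n =>
    Nat.rec 0 (fun k xk => (xk - (Pi.π X k).f m) ≫
      @section_ _ _ _ _ ((t k).f m) (ht k m)) n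
  refine ShortComplex.Splitting.ofExactOfSection _
    ((ShortComplex.exact_of_f_is_kernel S (kernelIsKernel (diff X t))).map _) (HProd.liftX X x)
    (HProd.hom_ext_f' X fun n => ?_) this
  have := ht n m
  change (HProd.liftX X x ≫ (diff X t).f m) ≫ (Pi.π X n).f m = 𝟙 _ ≫ (Pi.π X n).f m
  rw [Category.assoc, diff_f, Preadditive.comp_sub, ← Category.assoc, HProd.liftX_π,
    HProd.liftX_π, Category.id_comp]
  change _ - ((x n - (Pi.π X n).f m) ≫ section_ ((t n).f m)) ≫ (t n).f m = _
  simp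

omit [HasLimitsOfShape (Discrete ℕ) A] [HasExactLimitsOfShape (Discrete ℕ) A] in
open CochainComplex.Plus.modelCategoryQuillen in
lemma exists_next [EnoughInjectives A] (J : CochainComplex A ℤ) (f : K ⟶ J)
    (hJ : ∀ i, Injective (J.X i)) (a : ℤ) [J.IsStrictlyGE a] (c : ℤ) :
    ∃ (J' : CochainComplex A ℤ) (a' : ℤ) (_ : J'.IsStrictlyGE a') (f' : K ⟶ J') (t : J' ⟶ J),
      (∀ i, Injective (J'.X i)) ∧ f' ≫ t = f ∧ (∀ i, IsSplitEpi (t.f i)) ∧
      ∀ i, c ≤ i → IsIso (HomologicalComplex.homologyMap f' i) := by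
  let b := min a c
  have hb1 : b ≤ a := min_le_left _ _
  have hb2 : b ≤ c := min_le_right _ _
  have : J.IsStrictlyGE b := J.isStrictlyGE_of_ge b a hb1
  have : J.IsStrictlyGE (b - 1) := J.isStrictlyGE_of_ge (b - 1) a (by omega)
  have : (K.truncGE b).IsStrictlyGE (b - 1 + 1) := by
    rw [sub_add_cancel]
    infer_instance
  let g : K.truncGE b ⟶ J := CochainComplex.truncGEMap f b ≫ inv (J.πTruncGE b)
  have hg : K.πTruncGE b ≫ g = f := by
    rw [← Category.assoc, CochainComplex.πTruncGE_naturality, Category.assoc, IsIso.hom_inv_id,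
      Category.comp_id]
  obtain ⟨J', hJ', ι, p, -, hι, hp, hip⟩ := cm5a g (b - 1)
  refine ⟨J', b - 1, hJ', K.πTruncGE b ≫ ι, p, fun i => ?_, by rw [Category.assoc, hip, hg],
    fun i => ?_, fun i hi => ?_⟩
  · obtain ⟨I, _, j, w, ⟨σ⟩⟩ := (Abelian.epiWithInjectiveKernel_iff _).1 (hp i)
    have := hJ i
    exact Injective.of_iso (ShortComplex.Splitting.isoBinaryBiproduct σ).symm inferInstance
  · obtain ⟨I, _, j, w, ⟨σ⟩⟩ := (Abelian.epiWithInjectiveKernel_iff _).1 (hp i)
    exact ⟨⟨σ.s, σ.s_g⟩⟩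
  · rw [← quasiIsoAt_iff_isIso_homologyMap]
    have := CochainComplex.quasiIsoAt_πTruncGE K b i (by omega)
    infer_instance

/-- A stage of the tower. -/
structure Stage (K : CochainComplex A ℤ) where
  obj : CochainComplex A ℤ
  bd : ℤ
  ge : obj.IsStrictlyGE bd
  inj : ∀ i, Injective (obj.X i)
  map : K ⟶ obj

open ZeroObject in
theorem exists_resolution [EnoughInjectives A] (K : CochainComplex A ℤ) :
    ∃ (I : CochainComplex A ℤ) (f : K ⟶ I), I.IsKInjective ∧ QuasiIso f := by
  choose J' a' ha' f' t hinj hft hsplit hiso using fun (s : Stage K) (c : ℤ) =>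
    @exists_next A _ _ K _ s.obj s.map s.inj s.bd s.ge c
  let S : ℕ → Stage K := fun n => Nat.rec
    ⟨0, 0, inferInstance, fun i => ((HomologicalComplex.eval A _ i).map_isZero
      (isZero_zero _)).injective, 0⟩
    (fun k s => ⟨J' s (-(k : ℤ)), a' _ _, ha' _ _, hinj _ _, f' _ _⟩) n
  let X : ℕ → CochainComplex A ℤ := fun n => (S n).obj
  let tt : ∀ n, X (n + 1) ⟶ X n := fun n => t (S n) (-(n : ℤ))
  have hlift : (Pi.lift fun n => (S n).map) ≫ diff X tt = 0 := Pi.hom_ext _ _ fun n => by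
    rw [Category.assoc, Pi.lift_π, Preadditive.comp_sub, zero_comp, Pi.lift_π, ← Category.assoc,
      Pi.lift_π]
    exact sub_eq_zero.2 (hft (S n) _).symm
  let φ : K ⟶ Lim X tt := kernel.lift _ _ hlift
  have hφ : ∀ n, φ ≫ proj X tt n = (S n).map := fun n => by simp [φ, proj, X]
  refine ⟨Lim X tt, φ, isKInjective X tt (fun n m => hsplit _ _ m) fun n => ?_,
    quasiIso X tt φ (fun n m => hsplit _ _ m) fun m => ⟨(-m).toNat + 1, fun n hn => ?_⟩⟩
  · have := (S n).ge
    have : ∀ i, Injective ((X n).X i) := (S n).inj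
    exact CochainComplex.isKInjective_of_injective (X n) (S n).bd
  · obtain ⟨k, rfl⟩ : ∃ k, n = k + 1 := ⟨n - 1, by omega⟩
    rw [hφ]
    exact hiso (S k) _ m (by omega)

end Groth.Agent.Lib.DerCat.LimRes
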