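import Groth.Agent.Lib.DerCat.Tri
import Mathlib.CategoryTheory.Adjunction.FullyFaithful
import Mathlib.CategoryTheory.ObjectProperty.FullSubcategory

/-!
# Orthogonal decompositions in pretriangulated categories
-/

universe v u

open CategoryTheory CategoryTheory.Limits CategoryTheory.Pretriangulated

namespace Groth.Agent.Lib.DerCat.Orth

variable {D : Type u} [Category.{v} D] [Preadditive D] [HasShift D ℤ] [HasZeroObject D]
  [∀ n : ℤ, (shiftFunctor D n).Additive] [Pretriangulated D]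
  (P : ObjectProperty D) [P.IsStableUnderShift ℤ]

/-- Composition with `f` is bijective on maps out of objects in `P`. -/
def IsLocalIsoR {X Y : D} (f : X ⟶ Y) : Prop :=
  ∀ A : D, P A → Function.Bijective (fun u : A ⟶ X => u ≫ f)

/-- Composition with `f` is bijective on maps into objects in `P`. -/
def IsLocalIsoL {X Y : D} (f : X ⟶ Y) : Prop :=
  ∀ B : D, P B → Function.Bijective (fun u : Y ⟶ B => f ≫ u)

variable {P}

/-- The morphism `T.obj₃⟦-1⟧ ⟶ T.obj₁` of a triangle. -/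
noncomputable def δ' (T : Triangle D) : (shiftFunctor D (-1 : ℤ)).obj T.obj₃ ⟶ T.obj₁ :=
  T.invRotate.mor₁

omit [P.IsStableUnderShift ℤ] [Pretriangulated D] [HasZeroObject D] in
lemma δ'_natural {T T' : Triangle D} (φ : T ⟶ T') :
    δ' T ≫ φ.hom₁ = φ.hom₃⟦(-1 : ℤ)⟧' ≫ δ' T' :=
  ((invRotate D).map φ).comm₁

lemma δ'_comp (T : Triangle D) (hT : T ∈ distinguishedTriangles) : δ' T ≫ T.mor₁ = 0 :=
  comp_distTriang_mor_zero₁₂ _ (inv_rot_of_distTriang _ hT)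

lemma coyoneda_exact_δ' (T : Triangle D) (hT : T ∈ distinguishedTriangles) {A : D}
    (f : A ⟶ T.obj₁) (hf : f ≫ T.mor₁ = 0) : ∃ g, f = g ≫ δ' T :=
  Triangle.coyoneda_exact₂ _ (inv_rot_of_distTriang _ hT) f hf

lemma yoneda_exact_δ' (T : Triangle D) (hT : T ∈ distinguishedTriangles) {B : D}
    (f : T.obj₁ ⟶ B) (hf : δ' T ≫ f = 0) : ∃ g : T.obj₂ ⟶ B, f = T.mor₁ ≫ g :=
  Triangle.yoneda_exact₂ _ (inv_rot_of_distTriang _ hT) f hf

lemma map_mor₂_δ' (T : Triangle D) (hT : T ∈ distinguishedTriangles) :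
    T.mor₂⟦(-1 : ℤ)⟧' ≫ δ' T = 0 := by
  change _ ≫ (-(T.mor₃⟦(-1 : ℤ)⟧' ≫ (shiftEquiv D (1 : ℤ)).unitIso.inv.app T.obj₁)) = 0
  rw [Preadditive.comp_neg, ← Category.assoc, ← Functor.map_comp,
    comp_distTriang_mor_zero₂₃ _ hT, Functor.map_zero, zero_comp, neg_zero]

omit [HasZeroObject D] [Pretriangulated D] in
lemma IsLocalIsoR.shift {X Y : D} {f : X ⟶ Y} (h : IsLocalIsoR P f) (n : ℤ) :
    IsLocalIsoR P ((shiftFunctor D n).map f) := fun A hA => by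
  let adj : shiftFunctor D (-n) ⊣ shiftFunctor D n := (shiftEquiv D n).symm.toAdjunction
  have e : (fun u : A ⟶ (shiftFunctor D n).obj X => u ≫ (shiftFunctor D n).map f) =
      adj.homEquiv A Y ∘ (fun v => v ≫ f) ∘ (adj.homEquiv A X).symm := by
    funext u
    simp only [Function.comp_apply]
    rw [adj.homEquiv_naturality_right, Equiv.apply_symm_apply]
  rw [e]
  exact (adj.homEquiv A Y).bijective.comp
    ((h _ (P.le_shift (-n) _ hA)).comp (adj.homEquiv A X).symm.bijective)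

omit [HasZeroObject D] [Pretriangulated D] in
lemma IsLocalIsoL.shift {X Y : D} {f : X ⟶ Y} (h : IsLocalIsoL P f) (n : ℤ) :
    IsLocalIsoL P ((shiftFunctor D n).map f) := fun B hB => by
  let adj : shiftFunctor D n ⊣ shiftFunctor D (-n) := (shiftEquiv D n).toAdjunction
  have e : (fun u : (shiftFunctor D n).obj Y ⟶ B => (shiftFunctor D n).map f ≫ u) =
      (adj.homEquiv X B).symm ∘ (fun v => f ≫ v) ∘ adj.homEquiv Y B := by
    funext u
    simp only [Function.comp_apply]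
    rw [adj.homEquiv_naturality_left_symm, Equiv.symm_apply_apply]
  rw [e]
  exact (adj.homEquiv X B).symm.bijective.comp
    ((h _ (P.le_shift (-n) _ hB)).comp (adj.homEquiv Y B).bijective)

lemma rightOrthogonal₃_iff (T : Triangle D) (hT : T ∈ distinguishedTriangles) :
    P.rightOrthogonal T.obj₃ ↔ IsLocalIsoR P T.mor₁ := by
  constructor
  · intro h A hA
    refine ⟨fun u u' he => ?_, fun v => ?_⟩
    · obtain ⟨g, hg⟩ := Triangle.coyoneda_exact₂ _ (inv_rot_of_distTriang _ hT) (u - u') (by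
        change (u - u') ≫ T.mor₁ = 0
        rw [Preadditive.sub_comp, sub_eq_zero]; exact he)
      have h' : P.rightOrthogonal (T.obj₃⟦(-1 : ℤ)⟧) := P.rightOrthogonal.le_shift _ _ h
      have hg0 : g = 0 := h' g hA
      rw [hg0, zero_comp] at hg
      exact sub_eq_zero.1 hg
    · obtain ⟨g, hg⟩ := Triangle.coyoneda_exact₂ _ hT v (h _ hA)
      exact ⟨g, hg.symm⟩
  · intro h A f hA
    have h3 : f ≫ T.mor₃ = 0 := by
      apply (h.shift 1 A hA).1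
      change (f ≫ T.mor₃) ≫ T.mor₁⟦(1 : ℤ)⟧' = 0 ≫ T.mor₁⟦(1 : ℤ)⟧'
      rw [Category.assoc, comp_distTriang_mor_zero₃₁ _ hT, comp_zero, zero_comp]
    obtain ⟨g, rfl⟩ := Triangle.coyoneda_exact₃ _ hT f h3
    obtain ⟨u, hu⟩ := (h A hA).2 g
    rw [← hu, Category.assoc, comp_distTriang_mor_zero₁₂ _ hT, comp_zero]

lemma leftOrthogonal₁_iff (T : Triangle D) (hT : T ∈ distinguishedTriangles) :
    P.leftOrthogonal T.obj₁ ↔ IsLocalIsoL P T.mor₂ := by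
  constructor
  · intro h B hB
    refine ⟨fun w w' he => ?_, fun v => ?_⟩
    · obtain ⟨g, hg⟩ := Triangle.yoneda_exact₃ _ hT (w - w') (by
        rw [Preadditive.comp_sub, sub_eq_zero]; exact he)
      have h' : P.leftOrthogonal (T.obj₁⟦(1 : ℤ)⟧) := P.leftOrthogonal.le_shift _ _ h
      have hg0 : g = 0 := h' g hB
      rw [hg0, comp_zero] at hg
      exact sub_eq_zero.1 hg
    · obtain ⟨g, hg⟩ := Triangle.yoneda_exact₂ _ hT v (h _ hB)
      exact ⟨g, hg.symm⟩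
  · intro h B f hB
    have h3 : δ' T ≫ f = 0 := by
      apply (h.shift (-1) B hB).1
      change T.mor₂⟦(-1 : ℤ)⟧' ≫ δ' T ≫ f = T.mor₂⟦(-1 : ℤ)⟧' ≫ 0
      rw [← Category.assoc, map_mor₂_δ' T hT, zero_comp, comp_zero]
    obtain ⟨g, hg⟩ := yoneda_exact_δ' T hT f h3
    obtain ⟨w, hw⟩ := (h B hB).2 g
    rw [hg, ← hw, comp_distTriang_mor_zero₁₂_assoc _ hT, zero_comp]

/-- Five lemma for `IsLocalIsoR`. -/
lemma isLocalIsoR₂ {T T' : Triangle D} (φ : T ⟶ T') (hT : T ∈ distinguishedTriangles)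
    (hT' : T' ∈ distinguishedTriangles) (h₁ : IsLocalIsoR P φ.hom₁) (h₃ : IsLocalIsoR P φ.hom₃) :
    IsLocalIsoR P φ.hom₂ := fun A hA => by
  have c₁ := φ.comm₁
  have c₂ := φ.comm₂
  have c₃ := φ.comm₃
  have key : ∀ f : A ⟶ T.obj₂, f ≫ φ.hom₂ = 0 → f = 0 := by
    intro f hf
    have hfm : f ≫ T.mor₂ = 0 := by
      apply (h₃ A hA).1
      change (f ≫ T.mor₂) ≫ φ.hom₃ = 0 ≫ φ.hom₃
      rw [Category.assoc, c₂, reassoc_of% hf, zero_comp, zero_comp]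
    obtain ⟨g, rfl⟩ := T.coyoneda_exact₂ hT f hfm
    obtain ⟨k, hk⟩ := coyoneda_exact_δ' T' hT' (g ≫ φ.hom₁) (by
      rw [Category.assoc, ← c₁, ← Category.assoc, hf])
    obtain ⟨k', hk'⟩ := (h₃.shift (-1) A hA).2 k
    change k' ≫ φ.hom₃⟦(-1 : ℤ)⟧' = k at hk'
    have hg : g = k' ≫ δ' T := by
      apply (h₁ A hA).1
      change g ≫ φ.hom₁ = (k' ≫ δ' T) ≫ φ.hom₁
      rw [Category.assoc, δ'_natural, ← Category.assoc, hk']
      exact hk
    rw [hg, Category.assoc, δ'_comp T hT, comp_zero]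
  refine ⟨fun a b hab => sub_eq_zero.1 (key _ ?_), fun y => ?_⟩
  · rw [Preadditive.sub_comp, sub_eq_zero]; exact hab
  · obtain ⟨x₃, hx₃⟩ := (h₃ A hA).2 (y ≫ T'.mor₂)
    change x₃ ≫ φ.hom₃ = y ≫ T'.mor₂ at hx₃
    obtain ⟨x₂, hx₂⟩ := T.coyoneda_exact₃ hT x₃ (by
      apply (h₁.shift 1 A hA).1
      change (x₃ ≫ T.mor₃) ≫ φ.hom₁⟦(1 : ℤ)⟧' = 0 ≫ φ.hom₁⟦(1 : ℤ)⟧'
      rw [Category.assoc, c₃, reassoc_of% hx₃, comp_distTriang_mor_zero₂₃ _ hT', comp_zero,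
        zero_comp])
    obtain ⟨z, hz⟩ := T'.coyoneda_exact₂ hT' (y - x₂ ≫ φ.hom₂) (by
      rw [Preadditive.sub_comp, Category.assoc, ← c₂, ← reassoc_of% hx₂, hx₃, sub_self])
    obtain ⟨x₁, hx₁⟩ := (h₁ A hA).2 z
    change x₁ ≫ φ.hom₁ = z at hx₁
    refine ⟨x₂ + x₁ ≫ T.mor₁, ?_⟩
    change (x₂ + x₁ ≫ T.mor₁) ≫ φ.hom₂ = y
    rw [Preadditive.add_comp, Category.assoc, c₁, reassoc_of% hx₁, ← hz, add_sub_cancel]

/-- Five lemma for `IsLocalIsoL`. -/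
lemma isLocalIsoL₂ {T T' : Triangle D} (φ : T ⟶ T') (hT : T ∈ distinguishedTriangles)
    (hT' : T' ∈ distinguishedTriangles) (h₁ : IsLocalIsoL P φ.hom₁) (h₃ : IsLocalIsoL P φ.hom₃) :
    IsLocalIsoL P φ.hom₂ := fun B hB => by
  have c₁ := φ.comm₁
  have c₂ := φ.comm₂
  have c₃ := φ.comm₃
  have key : ∀ f : T'.obj₂ ⟶ B, φ.hom₂ ≫ f = 0 → f = 0 := by
    intro f hf
    have hfm : T'.mor₁ ≫ f = 0 := by
      apply (h₁ B hB).1
      change φ.hom₁ ≫ T'.mor₁ ≫ f = φ.hom₁ ≫ 0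
      rw [← reassoc_of% c₁, hf, comp_zero, comp_zero]
    obtain ⟨g, rfl⟩ := T'.yoneda_exact₂ hT' f hfm
    obtain ⟨k, hk⟩ := T.yoneda_exact₃ hT (φ.hom₃ ≫ g) (by
      rw [reassoc_of% c₂, hf])
    obtain ⟨k', hk'⟩ := (h₁.shift 1 B hB).2 k
    change φ.hom₁⟦(1 : ℤ)⟧' ≫ k' = k at hk'
    have hg : g = T'.mor₃ ≫ k' := by
      apply (h₃ B hB).1
      change φ.hom₃ ≫ g = φ.hom₃ ≫ T'.mor₃ ≫ k'
      rw [← reassoc_of% c₃, hk', hk]
    rw [hg, comp_distTriang_mor_zero₂₃_assoc _ hT', zero_comp]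
  refine ⟨fun a b hab => sub_eq_zero.1 (key _ ?_), fun y => ?_⟩
  · rw [Preadditive.comp_sub, sub_eq_zero]; exact hab
  · obtain ⟨x₁, hx₁⟩ := (h₁ B hB).2 (T.mor₁ ≫ y)
    change φ.hom₁ ≫ x₁ = T.mor₁ ≫ y at hx₁
    obtain ⟨x₂, hx₂⟩ := yoneda_exact_δ' T' hT' x₁ (by
      apply (h₃.shift (-1) B hB).1
      change φ.hom₃⟦(-1 : ℤ)⟧' ≫ δ' T' ≫ x₁ = φ.hom₃⟦(-1 : ℤ)⟧' ≫ 0
      rw [← Category.assoc, ← δ'_natural, comp_zero, Category.assoc, hx₁, ← Category.assoc,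
        δ'_comp T hT, zero_comp])
    obtain ⟨z, hz⟩ := T.yoneda_exact₂ hT (y - φ.hom₂ ≫ x₂) (by
      rw [Preadditive.comp_sub, reassoc_of% c₁, ← hx₂, hx₁, sub_self])
    obtain ⟨x₃, hx₃⟩ := (h₃ B hB).2 z
    change φ.hom₃ ≫ x₃ = z at hx₃
    refine ⟨x₂ + T'.mor₂ ≫ x₃, ?_⟩
    change φ.hom₂ ≫ (x₂ + T'.mor₂ ≫ x₃) = y
    rw [Preadditive.comp_add, ← reassoc_of% c₂, hx₃, ← hz, add_sub_cancel]

end Groth.Agent.Lib.DerCat.Orth
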