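import Groth.Agent.Lib.DerCat.KInjFunctor
import Mathlib.Algebra.Homology.DerivedCategory.KInjective
import Mathlib.Algebra.Homology.HomotopyCategory.Pretriangulated
import Mathlib.CategoryTheory.Adjunction.PartialAdjoint

/-!
# Localisation at the right orthogonal of a small family of complexes

For a small family of complexes `T i` in a Grothendieck abelian category, the inclusion of the
objects `d` of the derived category with `Hom(T i, d⟦n⟧) = 0` has a left adjoint.
-/

set_option linter.style.haveILetI false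

universe w v u

open CategoryTheory CategoryTheory.Limits
open ZeroObject

namespace Groth.Agent.Lib.DerCat.OrthLocal

open Groth.Agent.Lib.DerivedOX.TrivCof (acycMono)
open KInjExists

variable {A : Type u} [Category.{v} A] [Abelian A]

section Homotopy

variable {X Y E L : CochainComplex A ℤ}

/-- A null homotopic map is the null homotopic map of its homotopy. -/
lemma eq_nullHomotopicMap' {u : X ⟶ E} (h : Homotopy u 0) :
    u = Homotopy.nullHomotopicMap' (fun p q _ => h.hom p q) := by
  ext n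
  have h' := h.comm n
  rw [dNext_eq _ (show (ComplexShape.up ℤ).Rel n (n + 1) from rfl),
    prevD_eq _ (show (ComplexShape.up ℤ).Rel (n - 1) n from sub_add_cancel n 1)] at h'
  rw [Homotopy.nullHomotopicMap'_f (show (ComplexShape.up ℤ).Rel (n - 1) n from sub_add_cancel n 1)
    (show (ComplexShape.up ℤ).Rel n (n + 1) from rfl)]
  simpa using h'

/-- Null homotopic maps into complexes of injectives extend along termwise monomorphisms. -/
lemma exists_extension (j : X ⟶ Y) (hj : ∀ n, Mono (j.f n)) (hE : ∀ n : ℤ, Injective (E.X n))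
    (u : X ⟶ E) (h : Homotopy u 0) : ∃ w : Y ⟶ E, j ≫ w = u := by
  haveI := hj
  haveI := hE
  refine ⟨Homotopy.nullHomotopicMap' (fun p q _ => Injective.factorThru (h.hom p q) (j.f p)), ?_⟩
  rw [Homotopy.comp_nullHomotopicMap']
  refine Eq.trans ?_ (eq_nullHomotopicMap' h).symm
  congr 1
  funext p q _
  exact Injective.comp_factorThru _ _

/-- Null homotopic maps factor through termwise split epimorphisms. -/
lemma exists_factor (p : E ⟶ L) (t : ∀ n, L.X n ⟶ E.X n) (ht : ∀ n, t n ≫ p.f n = 𝟙 _)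
    (e : X ⟶ L) (h : Homotopy e 0) : ∃ e' : X ⟶ E, e' ≫ p = e := by
  refine ⟨Homotopy.nullHomotopicMap' (fun a b _ => h.hom a b ≫ t b), ?_⟩
  rw [Homotopy.nullHomotopicMap'_comp]
  refine Eq.trans ?_ (eq_nullHomotopicMap' h).symm
  congr 1
  funext a b _
  rw [Category.assoc, ht, Category.comp_id]

/-- The lifting property against a termwise split epimorphism with contractible source. -/
lemma hasLiftingProperty (j : X ⟶ Y) [Mono j] (hE : ∀ n : ℤ, Injective (E.X n))
    (hE0 : Homotopy (𝟙 E) 0) (p : E ⟶ L) (t : ∀ n, L.X n ⟶ E.X n) (ht : ∀ n, t n ≫ p.f n = 𝟙 _)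
    (hj : ∀ e : cokernel j ⟶ L, Nonempty (Homotopy e 0)) : HasLiftingProperty j p := by
  refine ⟨fun {u v} sq => ?_⟩
  obtain ⟨w₀, hw₀⟩ := exists_extension j (fun n => inferInstance) hE u
    (((Homotopy.ofEq (Category.comp_id u).symm).trans (hE0.compLeft u)).trans (Homotopy.ofEq comp_zero))
  let e : cokernel j ⟶ L := cokernel.desc j (v - w₀ ≫ p) (by
    rw [Preadditive.comp_sub, ← Category.assoc, hw₀, sq.w, sub_self])
  obtain ⟨e', he'⟩ := exists_factor p t ht e (hj e).some
  exact ⟨⟨{ l := w₀ + cokernel.π j ≫ e'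
            fac_left := by
              rw [Preadditive.comp_add, hw₀, cokernel.condition_assoc, zero_comp, add_zero]
            fac_right := by
              rw [Preadditive.add_comp, Category.assoc, he', cokernel.π_desc, add_sub_cancel] }⟩⟩

end Homotopy

section Cone

/-- The contractible complex over `L`. -/
noncomputable abbrev Path (L : CochainComplex A ℤ) : CochainComplex A ℤ :=
  CochainComplex.mappingCone (𝟙 (L⟦(-1 : ℤ)⟧))

/-- The projection. -/
noncomputable def pathπ (L : CochainComplex A ℤ) : Path L ⟶ L :=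
  (CochainComplex.mappingCone.triangleRotateShortComplex (𝟙 (L⟦(-1 : ℤ)⟧))).g ≫
    (shiftFunctorCompIsoId (CochainComplex A ℤ) (-1 : ℤ) 1 (by omega)).hom.app L

/-- A termwise section of the projection. -/
noncomputable def pathS (L : CochainComplex A ℤ) (n : ℤ) : L.X n ⟶ (Path L).X n :=
  ((shiftFunctorCompIsoId (CochainComplex A ℤ) (-1 : ℤ) 1 (by omega)).inv.app L).f n ≫
    (CochainComplex.mappingCone.triangleRotateShortComplexSplitting (𝟙 (L⟦(-1 : ℤ)⟧)) n).s

lemma pathS_π (L : CochainComplex A ℤ) (n : ℤ) : pathS L n ≫ (pathπ L).f n = 𝟙 _ := by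
  rw [pathS, pathπ, HomologicalComplex.comp_f, Category.assoc]
  have h := (CochainComplex.mappingCone.triangleRotateShortComplexSplitting (𝟙 (L⟦(-1 : ℤ)⟧)) n).s_g
  erw [reassoc_of% h]
  rw [← HomologicalComplex.comp_f, Iso.inv_hom_id_app]
  rfl

lemma injective_path (L : CochainComplex A ℤ) (hL : ∀ n : ℤ, Injective (L.X n)) (n : ℤ) :
    Injective ((Path L).X n) := by
  haveI := hL
  let s := CochainComplex.mappingCone.triangleRotateShortComplexSplitting (𝟙 (L⟦(-1 : ℤ)⟧)) n
  haveI h₁ : Injective ((L⟦(-1 : ℤ)⟧).X n) := hL _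
  haveI h₃ : Injective ((((L⟦(-1 : ℤ)⟧))⟦(1 : ℤ)⟧).X n) := hL _
  exact Injective.of_iso s.isoBinaryBiproduct.symm
    (inferInstanceAs (Injective ((L⟦(-1 : ℤ)⟧).X n ⊞ ((L⟦(-1 : ℤ)⟧)⟦(1 : ℤ)⟧).X n)))

end Cone

variable [IsGrothendieckAbelian.{v} A] {ι : Type v} (T : ι → CochainComplex A ℤ)

/-- The indices of the generators. -/
abbrev Gen : Type _ :=
  {S : Subobject (Qobj (separator A)) // acycMono A S.arrow} ⊕ (ι × ULift.{v} ℤ)

/-- The generators. -/
noncomputable def genArrow : Gen (A := A) (ι := ι) → Arrow (CochainComplex A ℤ)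
  | .inl S => Arrow.mk S.1.arrow
  | .inr x => Arrow.mk (CochainComplex.mappingCone.inr (𝟙 ((T x.1)⟦x.2.down⟧)))

/-- The generating morphisms. -/
abbrev gens : MorphismProperty (CochainComplex A ℤ) :=
  MorphismProperty.ofHoms fun x => (genArrow T x).hom

instance : MorphismProperty.IsSmall.{v} (gens T) := by
  dsimp [gens]
  infer_instance

lemma mono_gen (x : Gen (A := A) (ι := ι)) : Mono (genArrow T x).hom := by
  cases x with
  | inl S => exact inferInstanceAs (Mono S.1.arrow)
  | inr x =>
    exact ((HomologicalComplex.shortExact_iff_degreewise_shortExact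
      (CochainComplex.mappingCone.triangleRotateShortComplex (𝟙 ((T x.1)⟦x.2.down⟧)))).2
      fun n => (CochainComplex.mappingCone.triangleRotateShortComplexSplitting
        (𝟙 ((T x.1)⟦x.2.down⟧)) n).shortExact).mono_f

open Classical in
instance : MorphismProperty.HasSmallObjectArgument.{v} (gens T) := by
  haveI : Small.{v} (Gen (A := A) (ι := ι)) := inferInstance
  let Big : CochainComplex A ℤ :=
    ∐ fun x : Shrink.{v} (Gen (A := A) (ι := ι)) => (genArrow T ((equivShrink _).symm x)).left
  obtain ⟨κ, hκ', hκ⟩ := HasCardinalLT.exists_regular_cardinal.{v} (Subobject Big)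
  have : Fact κ.IsRegular := ⟨hκ'⟩
  have : Nonempty κ.ord.ToType := by simpa using hκ'.ne_zero
  have := WellFoundedLT.toOrderBot κ.ord.ToType
  exact ⟨κ, inferInstance, inferInstance,
    { preservesColimit {S B X Y} i hi f hf := by
        let hf' : (MorphismProperty.monomorphisms (CochainComplex A ℤ)).TransfiniteCompositionOfShape
            κ.ord.ToType f :=
          { toTransfiniteCompositionOfShape := hf.toTransfiniteCompositionOfShape
            map_mem j hj := by
              have := (hf.attachCells j hj).pushouts_coproducts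
              simp only [MorphismProperty.ofHoms_homFamily] at this
              refine (?_ : _ ≤ MorphismProperty.monomorphisms _) _ this
              simp only [MorphismProperty.pushouts_le_iff, MorphismProperty.coproducts_le_iff]
              rintro _ _ _ ⟨x⟩
              exact mono_gen T x }
        have (j j' : κ.ord.ToType) (φ : j ⟶ j') : Mono (hf'.F.map φ) := hf'.mem_map φ
        apply IsGrothendieckAbelian.preservesColimit_coyoneda_obj_of_mono (Y := hf'.F) (κ := κ)
        obtain ⟨x⟩ := hi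
        obtain ⟨y, rfl⟩ : ∃ y, (equivShrink _).symm y = x := ⟨equivShrink _ x, by simp⟩
        exact Subobject.hasCardinalLT_of_mono hκ
          (Sigma.ι (fun x : Shrink.{v} (Gen (A := A) (ι := ι)) =>
            (genArrow T ((equivShrink _).symm x)).left) y) }⟩

lemma genAcyc_le_gens : genAcyc (separator A) ≤ gens T := by
  rintro _ _ _ ⟨S⟩
  exact MorphismProperty.ofHoms.mk (f := fun x => (genArrow T x).hom) (Sum.inl S)

variable [HasDerivedCategory.{w} A]

/-- The orthogonality condition. -/
def Orth (d : DerivedCategory A) : Prop :=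
  ∀ i (n : ℤ), Subsingleton (DerivedCategory.Q.obj (T i) ⟶ d⟦n⟧)

lemma exists_Q_map {X I : CochainComplex A ℤ} [I.IsKInjective]
    (φ : DerivedCategory.Q.obj X ⟶ DerivedCategory.Q.obj I) :
    ∃ f : X ⟶ I, DerivedCategory.Q.map f = φ := by
  obtain ⟨g, hg⟩ := (CochainComplex.IsKInjective.Qh_map_bijective
    ((HomotopyCategory.quotient A (.up ℤ)).obj X) I).2
      ((DerivedCategory.quotientCompQhIso A).hom.app X ≫ φ ≫
        (DerivedCategory.quotientCompQhIso A).inv.app I)
  obtain ⟨f, rfl⟩ := (HomotopyCategory.quotient A (.up ℤ)).map_surjective g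
  refine ⟨f, ?_⟩
  have h := (DerivedCategory.quotientCompQhIso A).hom.naturality f
  dsimp at h hg
  rw [hg, Category.assoc, Category.assoc, Iso.inv_hom_id_app] at h
  simpa [cancel_epi] using h.symm

lemma homotopy_of_Q_map_eq {X I : CochainComplex A ℤ} [I.IsKInjective] (f g : X ⟶ I)
    (h : DerivedCategory.Q.map f = DerivedCategory.Q.map g) : Nonempty (Homotopy f g) := by
  refine ⟨HomotopyCategory.homotopyOfEq _ _ ((CochainComplex.IsKInjective.Qh_map_bijective
    ((HomotopyCategory.quotient A (.up ℤ)).obj X) I).1 ?_)⟩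
  have hf := (DerivedCategory.quotientCompQhIso A).hom.naturality f
  have hg := (DerivedCategory.quotientCompQhIso A).hom.naturality g
  dsimp at hf hg
  rw [← cancel_mono ((DerivedCategory.quotientCompQhIso A).hom.app I), hf, hg, h]

variable {T}

lemma subsingleton_shift {d : DerivedCategory A} (hd : Orth T d) (i : ι) (m : ℤ) :
    Subsingleton (DerivedCategory.Q.obj ((T i)⟦m⟧) ⟶ d) := by
  haveI : Subsingleton (DerivedCategory.Q.obj (T i) ⟶ (shiftEquiv (DerivedCategory A) m).inverse.obj d) :=
    hd i (-m)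
  let e : (DerivedCategory.Q.obj (T i))⟦m⟧ ≅ DerivedCategory.Q.obj ((T i)⟦m⟧) :=
    ((DerivedCategory.Q.commShiftIso m).app (T i)).symm
  haveI : Subsingleton ((DerivedCategory.Q.obj (T i))⟦m⟧ ⟶ d) :=
    ((shiftEquiv (DerivedCategory A) m).toAdjunction.homEquiv _ _).subsingleton
  exact ⟨fun a b => (cancel_epi e.hom).1 (Subsingleton.elim _ _)⟩

lemma orth_of_shift {d : DerivedCategory A}
    (hd : ∀ i (m : ℤ), Subsingleton (DerivedCategory.Q.obj ((T i)⟦m⟧) ⟶ d)) : Orth T d := by
  intro i n
  haveI := hd i (-n)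
  let e : (DerivedCategory.Q.obj (T i))⟦-n⟧ ≅ DerivedCategory.Q.obj ((T i)⟦-n⟧) :=
    ((DerivedCategory.Q.commShiftIso (-n)).app (T i)).symm
  haveI h₀ : Subsingleton ((DerivedCategory.Q.obj (T i))⟦-n⟧ ⟶ d) :=
    ⟨fun a b => (cancel_epi e.inv).1 (Subsingleton.elim _ _)⟩
  haveI : Subsingleton ((shiftEquiv (DerivedCategory A) n).symm.functor.obj
      (DerivedCategory.Q.obj (T i)) ⟶ d) := h₀
  exact ((shiftEquiv (DerivedCategory A) n).symm.toAdjunction.homEquiv _ _).symm.subsingleton

lemma homotopy_zero {I : CochainComplex A ℤ} [I.IsKInjective]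
    (hI : Orth T (DerivedCategory.Q.obj I)) (i : ι) (m : ℤ) (e : (T i)⟦m⟧ ⟶ I) :
    Nonempty (Homotopy e 0) :=
  haveI := subsingleton_shift hI i m
  homotopy_of_Q_map_eq e 0 (Subsingleton.elim _ _)

lemma homotopy_zero' {I : CochainComplex A ℤ} [I.IsKInjective]
    (hI : Orth T (DerivedCategory.Q.obj I)) (i : ι) (m : ℤ) (e : ((T i)⟦m⟧)⟦(1 : ℤ)⟧ ⟶ I) :
    Nonempty (Homotopy e 0) := by
  let a := (shiftFunctorAdd (CochainComplex A ℤ) m 1).app (T i)
  obtain ⟨h⟩ := homotopy_zero hI i (m + 1) (a.hom ≫ e)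
  exact ⟨(Homotopy.ofEq (a.inv_hom_id_assoc e).symm).trans
    ((h.compLeft a.inv).trans (Homotopy.ofEq comp_zero))⟩

lemma rlp_zero {I : CochainComplex A ℤ} [I.IsKInjective] (hinj : ∀ n : ℤ, Injective (I.X n))
    (hI : Orth T (DerivedCategory.Q.obj I)) : (gens T).rlp (0 : I ⟶ (0 : CochainComplex A ℤ)) := by
  rintro _ _ _ ⟨x⟩
  haveI := mono_gen T x
  refine ⟨fun {u v} sq => ?_⟩
  obtain ⟨w, hw⟩ : ∃ w, (genArrow T x).hom ≫ w = u := by
    cases x with
    | inl S =>
      have hS := S.2
      haveI := hS.1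
      exact KInjLift.exists_lift (ShortComplex.mk S.1.arrow (cokernel.π _) (cokernel.condition _))
        { exact := ShortComplex.exact_of_g_is_cokernel _ (cokernelIsCokernel _) } hS.2 I hinj u
    | inr x =>
      exact exists_extension _ (fun n => inferInstance) hinj u (homotopy_zero hI x.1 x.2.down u).some
  exact ⟨⟨{ l := w, fac_left := hw, fac_right := (isZero_zero _).eq_of_tgt _ _ }⟩⟩

lemma rlp_path {I : CochainComplex A ℤ} [I.IsKInjective] (hinj : ∀ n : ℤ, Injective (I.X n))
    (hI : Orth T (DerivedCategory.Q.obj I)) : (gens T).rlp (pathπ I) := by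
  rintro _ _ _ ⟨x⟩
  haveI := mono_gen T x
  refine hasLiftingProperty _ (injective_path I hinj)
    (CochainComplex.mappingCone.homotopyToZeroOfId _) _ (pathS I) (pathS_π I) (fun e => ?_)
  cases x with
  | inl S =>
    exact CochainComplex.IsKInjective.nonempty_homotopy_zero e S.2.2
  | inr x =>
    let Sc := CochainComplex.mappingCone.triangleRotateShortComplex (𝟙 ((T x.1)⟦x.2.down⟧))
    have hSc : Sc.ShortExact := (HomologicalComplex.shortExact_iff_degreewise_shortExact Sc).2
      fun n => (CochainComplex.mappingCone.triangleRotateShortComplexSplitting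
        (𝟙 ((T x.1)⟦x.2.down⟧)) n).shortExact
    let φ : cokernel Sc.f ≅ Sc.X₃ := (cokernelIsCokernel Sc.f).coconePointUniqueUpToIso hSc.gIsCokernel
    obtain ⟨h⟩ := homotopy_zero' hI x.1 x.2.down (φ.inv ≫ e)
    exact ⟨(Homotopy.ofEq (φ.hom_inv_id_assoc e).symm).trans
      ((h.compLeft φ.hom).trans (Homotopy.ofEq comp_zero))⟩

/-- The localisation of one complex. -/
theorem exists_local (K : CochainComplex A ℤ) :
    ∃ (L : CochainComplex A ℤ) (i : K ⟶ L), Orth T (DerivedCategory.Q.obj L) ∧
      ∀ (I : CochainComplex A ℤ), I.IsKInjective → (∀ n : ℤ, Injective (I.X n)) →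
        Orth T (DerivedCategory.Q.obj I) →
        Function.Bijective (fun ψ : DerivedCategory.Q.obj L ⟶ DerivedCategory.Q.obj I =>
          DerivedCategory.Q.map i ≫ ψ) := by
  let F := MorphismProperty.factorizationData (gens T).rlp.llp (gens T).rlp
    (0 : K ⟶ (0 : CochainComplex A ℤ))
  have hp : (acycMono A).rlp F.p :=
    MorphismProperty.antitone_rlp (acycMono_le_llp_rlp (isSeparator_separator A)) _
      (by rw [MorphismProperty.rlp_llp_rlp]
          exact MorphismProperty.antitone_rlp (genAcyc_le_gens T) _ F.hp)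
  obtain ⟨hK, -⟩ := isKInjective_of_lift F.Z fun S hS h₃ φ => by
    have := hS.mono_f
    have hS' : acycMono A S.f := ⟨inferInstance, fun n => by
      rw [HomologicalComplex.exactAt_iff_isZero_homology]
      exact ((h₃ n).isZero_homology).of_iso ((HomologicalComplex.homologyFunctor A _ n).mapIso
        ((cokernelIsCokernel S.f).coconePointUniqueUpToIso hS.gIsCokernel))⟩
    have := hp _ hS'
    have sq : CommSq φ S.f F.p 0 := ⟨(isZero_zero _).eq_of_tgt _ _⟩
    exact ⟨sq.lift, sq.fac_left⟩
  haveI := hK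
  refine ⟨F.Z, F.i, orth_of_shift fun i m => ⟨fun a b => ?_⟩, fun I hI hinj hIo => ⟨fun a b hab => ?_, fun φ => ?_⟩⟩
  · suffices h : ∀ c : DerivedCategory.Q.obj ((T i)⟦m⟧) ⟶ DerivedCategory.Q.obj F.Z, c = 0 from
      (h a).trans (h b).symm
    intro c
    obtain ⟨f, rfl⟩ := exists_Q_map c
    have hg : gens T (CochainComplex.mappingCone.inr (𝟙 ((T i)⟦m⟧))) :=
      MorphismProperty.ofHoms.mk (f := fun x => (genArrow T x).hom) (Sum.inr (i, ⟨m⟩))
    have := F.hp _ hg
    have sq : CommSq f (CochainComplex.mappingCone.inr (𝟙 ((T i)⟦m⟧))) F.p 0 :=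
      ⟨(isZero_zero _).eq_of_tgt _ _⟩
    rw [← sq.fac_left, Functor.map_comp, DerivedCategory.Q_map_eq_of_homotopy _
      ((Homotopy.ofEq (Category.id_comp sq.lift).symm).trans
        (((CochainComplex.mappingCone.homotopyToZeroOfId _).compRight sq.lift).trans
          (Homotopy.ofEq zero_comp))), Functor.map_zero, comp_zero]
  · obtain ⟨g, hg⟩ := exists_Q_map (a - b)
    rw [← sub_eq_zero, ← hg]
    have h0 : DerivedCategory.Q.map (F.i ≫ g) = DerivedCategory.Q.map 0 := by
      rw [Functor.map_comp, hg, Functor.map_zero, Preadditive.comp_sub, sub_eq_zero]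
      exact hab
    obtain ⟨h⟩ := homotopy_of_Q_map_eq _ _ h0
    obtain ⟨u, hu⟩ := exists_factor (pathπ I) (pathS I) (pathS_π I) _ h
    have := F.hi _ (rlp_path hinj hIo)
    have sq : CommSq u F.i (pathπ I) g := ⟨hu⟩
    rw [← sq.fac_right, DerivedCategory.Q_map_eq_of_homotopy _
      ((Homotopy.ofEq (by rw [Category.comp_id])).trans
        (((CochainComplex.mappingCone.homotopyToZeroOfId (I⟦(-1 : ℤ)⟧)).compLeft sq.lift).compRight
          (pathπ I) |>.trans (Homotopy.ofEq (by rw [comp_zero, zero_comp])))), Functor.map_zero]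
  · obtain ⟨f, rfl⟩ := exists_Q_map φ
    have := F.hi _ (rlp_zero hinj hIo)
    have sq : CommSq f F.i (0 : I ⟶ (0 : CochainComplex A ℤ)) 0 := ⟨(isZero_zero _).eq_of_tgt _ _⟩
    exact ⟨DerivedCategory.Q.map sq.lift, by dsimp only; rw [← Functor.map_comp, sq.fac_left]⟩

variable (T) in
/-- The inclusion of the orthogonal has a left adjoint. -/
theorem isRightAdjoint (P : ObjectProperty (DerivedCategory A)) (hP : ∀ d, P d ↔ Orth T d) :
    P.ι.IsRightAdjoint := by
  have orth_iso : ∀ {d d' : DerivedCategory A}, (d ≅ d') → Orth T d → Orth T d' := fun e h i n =>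
    haveI := h i n
    ⟨fun a b => (cancel_mono ((shiftFunctor _ n).map e.inv)).1 (Subsingleton.elim _ _)⟩
  apply Functor.isRightAdjoint_of_leftAdjointObjIsDefined_eq_top
  ext d
  simp only [Pi.top_apply, Prop.top_eq_true, iff_true]
  obtain ⟨K, ⟨e⟩⟩ : ∃ K : CochainComplex A ℤ, Nonempty (DerivedCategory.Q.obj K ≅ d) :=
    ⟨_, ⟨DerivedCategory.Q.objObjPreimageIso d⟩⟩
  obtain ⟨L, i, hL, huniv⟩ := exists_local (T := T) K
  have key : ∀ Z : P.FullSubcategory, Function.Bijective
      (fun g : DerivedCategory.Q.obj L ⟶ Z.obj => e.inv ≫ DerivedCategory.Q.map i ≫ g) := by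
    intro Z
    let M := DerivedCategory.Q.objPreimage Z.obj
    obtain ⟨hI, hinj⟩ := KInjFunctor.kinj_R M
    haveI := KInjFunctor.quasiIso_j M
    let a : Z.obj ≅ DerivedCategory.Q.obj ((KInjFunctor.R A).obj M) :=
      (DerivedCategory.Q.objObjPreimageIso Z.obj).symm ≪≫
        asIso (DerivedCategory.Q.map ((KInjFunctor.j A).app M))
    have hb := huniv _ hI hinj (orth_iso a ((hP _).1 Z.property))
    refine ⟨fun g g' h => ?_, fun φ => ?_⟩
    · rw [← cancel_mono a.hom]
      refine hb.1 ?_
      have := congrArg (e.hom ≫ · ≫ a.hom) h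
      simpa using this
    · obtain ⟨g, hg⟩ := hb.2 (e.hom ≫ φ ≫ a.hom)
      refine ⟨g ≫ a.inv, ?_⟩
      dsimp at hg ⊢
      rw [reassoc_of% hg]
      simp
  let r : (P.ι ⋙ coyoneda.obj (Opposite.op d)).CorepresentableBy ⟨DerivedCategory.Q.obj L, (hP _).2 hL⟩ :=
    { homEquiv := fun {Z} =>
        ⟨fun g => e.inv ≫ DerivedCategory.Q.map i ≫ g.hom,
          fun φ => ObjectProperty.homMk ((key Z).2 φ).choose,
          fun g => ObjectProperty.hom_ext _ ((key Z).1 ((key Z).2 _).choose_spec),
          fun φ => ((key Z).2 φ).choose_spec⟩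
      homEquiv_comp := fun g f => by simp }
  exact r.isCorepresentable

end Groth.Agent.Lib.DerCat.OrthLocal
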