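import Mathlib.Algebra.Homology.DerivedCategory.KProjective
import Mathlib.Algebra.Homology.DerivedCategory.HomologySequence
import Mathlib.Algebra.Homology.Embedding.CochainComplex

/-!
# Morphisms from bounded complexes of projectives
-/

universe w v u

open CategoryTheory Limits HomologicalComplex Pretriangulated

namespace Groth.Agent.Lib.DerCat.ProjOrth

set_option backward.isDefEq.respectTransparency false

variable {A : Type u} [Category.{v} A] [Abelian A]

theorem hom_eq_zero [HasDerivedCategory.{w} A]
    (P K : CochainComplex A ℤ) (n b : ℤ) [P.IsStrictlyGE n] [P.IsStrictlyLE b]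
    (hP : ∀ i : ℤ, Projective (P.X i)) (hK : ∀ i : ℤ, n ≤ i → IsZero (K.homology i)) :
    (∀ φ : (HomotopyCategory.quotient A (ComplexShape.up ℤ)).obj P ⟶
      (HomotopyCategory.quotient A (ComplexShape.up ℤ)).obj K, φ = 0) ∧
    (∀ φ : DerivedCategory.Q.obj P ⟶ DerivedCategory.Q.obj K, φ = 0) := by
  have : P.IsKProjective := CochainComplex.isKProjective_of_projective P b
  have hLE : K.IsLE (n - 1) := (K.isLE_iff (n - 1)).2 fun i hi => by
    rw [HomologicalComplex.exactAt_iff_isZero_homology]
    exact hK i (by omega)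
  have hq : QuasiIso (K.ιTruncLE (n - 1)) := (K.quasiIso_ιTruncLE_iff (n - 1)).2 hLE
  have hz : ∀ ψ : (HomotopyCategory.quotient A (ComplexShape.up ℤ)).obj P ⟶
      (HomotopyCategory.quotient A (ComplexShape.up ℤ)).obj (K.truncLE (n - 1)), ψ = 0 := by
    intro ψ
    obtain ⟨f, rfl⟩ := (HomotopyCategory.quotient A _).map_surjective ψ
    have : f = 0 := by
      ext i
      by_cases h : i < n
      · exact (P.isZero_of_isStrictlyGE n i h).eq_of_src _ _
      · exact ((K.truncLE (n - 1)).isZero_of_isStrictlyLE (n - 1) i (by omega)).eq_of_tgt _ _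
    rw [this, Functor.map_zero]
  have hD : ∀ φ : DerivedCategory.Q.obj P ⟶ DerivedCategory.Q.obj K, φ = 0 := by
    intro φ
    let e := DerivedCategory.quotientCompQhIso A
    obtain ⟨ψ, hψ⟩ := (CochainComplex.IsKProjective.Qh_map_bijective P
      ((HomotopyCategory.quotient A _).obj (K.truncLE (n - 1)))).2
      (e.hom.app P ≫ φ ≫ inv (DerivedCategory.Q.map (K.ιTruncLE (n - 1))) ≫ e.inv.app _)
    rw [hz ψ, Functor.map_zero] at hψ
    rw [← cancel_epi (e.hom.app P), ← cancel_mono (inv (DerivedCategory.Q.map (K.ιTruncLE (n - 1)))),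
      ← cancel_mono (e.inv.app _), Category.assoc, Category.assoc, ← hψ]
    simp
  refine ⟨fun φ => (CochainComplex.IsKProjective.Qh_map_bijective P _).1 ?_, hD⟩
  rw [Functor.map_zero, ← cancel_epi ((DerivedCategory.quotientCompQhIso A).inv.app P),
    ← cancel_mono ((DerivedCategory.quotientCompQhIso A).hom.app K), comp_zero, zero_comp]
  exact hD _

theorem exists_lift (P E L : CochainComplex A ℤ) (β : P ⟶ L) (α : E ⟶ L) (n b : ℤ)
    [P.IsStrictlyGE n] [P.IsStrictlyLE b] (hP : ∀ i : ℤ, Projective (P.X i))
    (hiso : ∀ i : ℤ, n < i → IsIso (HomologicalComplex.homologyMap α i))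
    (hepi : Epi (HomologicalComplex.homologyMap α n)) :
    ∃ γ : P ⟶ E, Nonempty (Homotopy (γ ≫ α) β) := by
  letI := HasDerivedCategory.standard A
  let C := CochainComplex.mappingCone α
  let T := DerivedCategory.Q.mapTriangle.obj (CochainComplex.mappingCone.triangle α)
  have hT : T ∈ distTriang _ := DerivedCategory.mappingCone_triangle_distinguished α
  have hnat : ∀ i, Arrow.mk ((DerivedCategory.homologyFunctor A i).map T.mor₁) ≅
      Arrow.mk (HomologicalComplex.homologyMap α i) := fun i =>
    Arrow.isoMk ((DerivedCategory.homologyFunctorFactors A i).app E)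
      ((DerivedCategory.homologyFunctorFactors A i).app L)
      ((DerivedCategory.homologyFunctorFactors A i).hom.naturality α).symm
  have hepi' : ∀ i, n ≤ i → Epi ((DerivedCategory.homologyFunctor A i).map T.mor₁) := fun i hi => by
    refine ((MorphismProperty.epimorphisms A).arrow_mk_iso_iff (hnat i)).2 ?_
    rcases hi.lt_or_eq with h | rfl
    · have := hiso i h
      exact inferInstanceAs (Epi (homologyMap α i))
    · exact hepi
  have hmono : ∀ i, n < i → Mono ((DerivedCategory.homologyFunctor A i).map T.mor₁) := fun i hi => by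
    refine ((MorphismProperty.monomorphisms A).arrow_mk_iso_iff (hnat i)).2 ?_
    have := hiso i hi
    exact inferInstanceAs (Mono (homologyMap α i))
  have hC : ∀ i, n ≤ i → IsZero (C.homology i) := fun i hi => by
    have hz : IsZero ((DerivedCategory.homologyFunctor A i).obj T.obj₃) := by
      have h2 : (DerivedCategory.homologyFunctor A i).map T.mor₂ = 0 :=
        (DerivedCategory.HomologySequence.epi_homologyMap_mor₁_iff T hT i).1 (hepi' i hi)
      have hδ : DerivedCategory.HomologySequence.δ T i (i + 1) rfl = 0 :=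
        (DerivedCategory.HomologySequence.mono_homologyMap_mor₁_iff T hT i (i + 1) rfl).1
          (hmono (i + 1) (by omega))
      exact (DerivedCategory.HomologySequence.exact₃ T hT i (i + 1) rfl).isZero_of_both_zeros h2 hδ
    exact hz.of_iso ((DerivedCategory.homologyFunctorFactors A i).app C).symm
  have hzero := (hom_eq_zero P C n b hP hC).1
    ((HomotopyCategory.quotient A _).map (β ≫ CochainComplex.mappingCone.inr α))
  obtain ⟨g, hg⟩ := Triangle.coyoneda_exact₂ _
    (HomotopyCategory.mappingCone_triangleh_distinguished α)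
    ((HomotopyCategory.quotient A _).map β) (by rw [← hzero, Functor.map_comp]; rfl)
  obtain ⟨γ, rfl⟩ := (HomotopyCategory.quotient A _).map_surjective g
  refine ⟨γ, ⟨HomotopyCategory.homotopyOfEq _ _ ?_⟩⟩
  rw [Functor.map_comp]
  exact hg.symm

end Groth.Agent.Lib.DerCat.ProjOrth
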