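import Groth.Agent.Lib.WayOut.AcyclicCx
import Groth.Agent.Lib.DerCat.SeqColim
import Groth.Agent.Lib.DerCat.RFAcyclic
import Groth.Agent.Lib.DerCat.KInjSmall
import Groth.Agent.Lib.DerCat.KInjExists
import Groth.Agent.Lib.DerCat.HProd
import Groth.Agent.Lib.DerivedOX.RightDerived
import Mathlib.Algebra.Homology.HomotopyCategory.DegreewiseSplit
import Mathlib.CategoryTheory.Limits.Constructions.EventuallyConstant
import Mathlib.Algebra.Homology.GrothendieckAbelian

/-!
# Complexes of acyclic objects compute `RF` if `RF` preserves countable sums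
-/

universe w w' v v' u u'

open CategoryTheory CategoryTheory.Limits CategoryTheory.Pretriangulated

namespace Groth.Agent.Lib.DerCat.RFAcycColim

open Groth.Agent.Lib.WayOut.AcyclicCx Groth.Agent.Lib.DerivedOX.RightDerived
open RFAcyclic

variable {A : Type u} [Category.{v} A] [Abelian A]

section Stupid

variable (K : CochainComplex A ℤ)

lemma incl_comp_π {m m' : ℤ} (h : m' ≤ m) : incl K m ≫ cokernel.π (incl K m') = 0 := by
  ext j
  by_cases hj : m ≤ j
  · exact (isZero_quot K m' (h.trans hj)).eq_of_tgt _ _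
  · exact (isZero_stupidGE K m (by omega)).eq_of_src _ _

/-- The transition map. -/
noncomputable def trans {m m' : ℤ} (h : m' ≤ m) : stupidGE K m ⟶ stupidGE K m' :=
  (stupidSeq_shortExact K m').exact.lift (incl K m) (incl_comp_π K h)

lemma trans_incl {m m' : ℤ} (h : m' ≤ m) : trans K h ≫ incl K m' = incl K m :=
  (stupidSeq_shortExact K m').exact.lift_f (incl K m) (incl_comp_π K h)

/-- The sequence of stupid truncations. -/
noncomputable abbrev seq : ℕ ⥤ CochainComplex A ℤ :=
  Functor.ofSequence (X := fun n : ℕ => stupidGE K (-(n : ℤ)))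
    (fun n => trans K (by omega))

/-- The cocone given by the inclusions. -/
noncomputable def cocone : Cocone (seq K) :=
  ⟨K, NatTrans.ofSequence (fun n => incl K (-(n : ℤ))) fun n => by
    simp only [Functor.ofSequence_map_homOfLE_succ, Functor.const_obj_map, Category.comp_id]
    exact (trans_incl K _).trans (Category.comp_id _).symm⟩

lemma isIso_cocone_f (n : ℕ) (j : ℤ) (hj : -(n : ℤ) ≤ j) : IsIso (((cocone K).ι.app n).f j) :=
  isIso_inclF K _ hj

/-- `K` is the colimit of its stupid truncations. -/
noncomputable def isColimitCocone : IsColimit (cocone K) :=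
  HomologicalComplex.isColimitOfEval _ _ fun j => by
    have h : (seq K ⋙ HomologicalComplex.eval A _ j).IsEventuallyConstantFrom j.natAbs := by
      intro n φ
      have := leOfHom φ
      have e := congrArg (fun f => f.f j) ((cocone K).w φ)
      dsimp at e
      have := isIso_cocone_f K n j (by omega)
      have := isIso_cocone_f K j.natAbs j (by omega)
      have : IsIso (((seq K).map φ).f j ≫ ((cocone K).ι.app n).f j) := by
        rw [e]; infer_instance
      exact @IsIso.of_isIso_comp_right _ _ _ _ _ _ (((cocone K).ι.app n).f j)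
        (isIso_cocone_f K n j (by omega)) this
    have : IsIso (((HomologicalComplex.eval A (ComplexShape.up ℤ) j).mapCocone (cocone K)).ι.app
        j.natAbs) := isIso_cocone_f K _ j (by omega)
    exact h.isColimitOfIsIso _

variable [HasColimitsOfShape ℕ A] [HasExactColimitsOfShape ℕ A]
  [HasColimitsOfShape (Discrete ℕ) A]

theorem exists_triangle : ∃ T : Triangle (HomotopyCategory A (ComplexShape.up ℤ)),
    T ∈ distTriang _ ∧
      T.obj₁ = (HomotopyCategory.quotient A _).obj (∐ fun n : ℕ => stupidGE K (-(n : ℤ))) ∧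
      T.obj₂ = (HomotopyCategory.quotient A _).obj (∐ fun n : ℕ => stupidGE K (-(n : ℤ))) ∧
      T.obj₃ = (HomotopyCategory.quotient A _).obj K := by
  obtain ⟨w, hS⟩ := SeqColim.shortExact_coproduct_colimit (seq K)
  let e : colimit (seq K) ≅ K :=
    (colimit.isColimit (seq K)).coconePointUniqueUpToIso (isColimitCocone K)
  let p : (∐ (seq K).obj) ⟶ K := Sigma.desc fun n => (cocone K).ι.app n
  have hp : Sigma.desc (fun n => colimit.ι (seq K) n) ≫ e.hom = p := Sigma.hom_ext _ _ fun n => by
    simp only [p, Sigma.ι_desc, Sigma.ι_desc_assoc]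
    exact IsColimit.comp_coconePointUniqueUpToIso_hom _ _ _
  let S := ShortComplex.mk (𝟙 _ - SeqColim.sh (seq K)) p (by rw [← hp, reassoc_of% w, zero_comp])
  have hS' : S.ShortExact :=
    ShortComplex.shortExact_of_iso (ShortComplex.isoMk (S₁ := ShortComplex.mk _ _ w) (S₂ := S)
      (Iso.refl _) (Iso.refl _) e
      ((Category.id_comp _).trans (Category.comp_id _).symm)
      ((Category.id_comp _).trans hp.symm)) hS
  let σ : ∀ j, (S.map (HomologicalComplex.eval A (ComplexShape.up ℤ) j)).Splitting := fun j => by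
    let i := @asIso _ _ _ _ _ (isIso_inclF K (-(j.natAbs : ℤ)) (show -(j.natAbs : ℤ) ≤ j by omega))
    have hSj := hS'.map_of_exact (HomologicalComplex.eval A (ComplexShape.up ℤ) j)
    refine ShortComplex.Splitting.ofExactOfSection _ hSj.exact
      (i.inv ≫ (Sigma.ι (seq K).obj j.natAbs).f j) ?_ hSj.mono_f
    change (_ ≫ _) ≫ p.f j = _
    exact (Category.assoc _ _ _).trans ((congrArg (i.inv ≫ ·)
      ((HomologicalComplex.comp_f _ _ _).symm.trans (congrArg (fun f => f.f j)
        (Sigma.ι_desc (fun n => (cocone K).ι.app n) j.natAbs)))).trans i.inv_hom_id)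
  exact ⟨CochainComplex.trianglehOfDegreewiseSplit S σ,
    (HomotopyCategory.distinguished_iff_iso_trianglehOfDegreewiseSplit _).2 ⟨S, σ, ⟨Iso.refl _⟩⟩,
    rfl, rfl, rfl⟩

end Stupid

variable [IsGrothendieckAbelian.{v} A] [HasDerivedCategory.{w} A]
  [(DerivedCategory.Qh (C := A)).IsLeftAdjoint]
  (F : A ⥤ AddCommGrpCat.{v}) [F.Additive] [PreservesFiniteLimits F]
  [HasDerivedCategory.{w'} AddCommGrpCat.{v}]

/-- The functor to be derived. -/
noncomputable abbrev G : HomotopyCategory A (ComplexShape.up ℤ) ⥤ DerivedCategory AddCommGrpCat.{v} :=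
  F.mapHomotopyCategory (ComplexShape.up ℤ) ⋙ DerivedCategory.Qh

variable [(G F).HasRightDerivedFunctor (HomotopyCategory.quasiIso A (ComplexShape.up ℤ))]

/-- The unit. -/
noncomputable abbrev η : G F ⟶ DerivedCategory.Qh ⋙
    (G F).totalRightDerived DerivedCategory.Qh (HomotopyCategory.quasiIso A (ComplexShape.up ℤ)) :=
  (G F).totalRightDerivedUnit DerivedCategory.Qh _

/-- Two out of three. -/
theorem isIso_η₃ (T : Triangle (HomotopyCategory A (ComplexShape.up ℤ))) (hT : T ∈ distTriang _)
    (h₁ : IsIso ((η F).app T.obj₁)) (h₂ : IsIso ((η F).app T.obj₂)) :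
    IsIso ((η F).app T.obj₃) := by
  rw [isIso_totalRightDerivedUnit_app_iff] at h₁ h₂ ⊢
  letI : (resFunctor A).CommShift ℤ := (resAdj A).rightAdjointCommShift ℤ
  haveI : (resAdj A).CommShift ℤ := (resAdj A).commShift_of_leftAdjoint ℤ
  haveI : (resFunctor A).IsTriangulated := (resAdj A).isTriangulated_rightAdjoint
  let φ : T ⟶ (DerivedCategory.Qh ⋙ resFunctor A).mapTriangle.obj T :=
    { hom₁ := (resAdj A).unit.app _
      hom₂ := (resAdj A).unit.app _
      hom₃ := (resAdj A).unit.app _
      comm₁ := (resAdj A).unit.naturality T.mor₁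
      comm₂ := (resAdj A).unit.naturality T.mor₂
      comm₃ := by
        have h := (resAdj A).unit.naturality T.mor₃
        have h' := NatTrans.shift_app_comm (resAdj A).unit (1 : ℤ) T.obj₁
        simp only [Functor.id_obj, Functor.id_map, Functor.comp_obj, Functor.comp_map,
          Functor.commShiftIso_id_hom_app, Category.id_comp] at h h'
        change T.mor₃ ≫ ((resAdj A).unit.app T.obj₁)⟦(1 : ℤ)⟧' = (resAdj A).unit.app T.obj₃ ≫
          (DerivedCategory.Qh ⋙ resFunctor A).map T.mor₃ ≫
            ((DerivedCategory.Qh ⋙ resFunctor A).commShiftIso (1 : ℤ)).hom.app T.obj₁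
        rw [h', Functor.comp_map, reassoc_of% h] }
  exact isIso₃_of_isIso₁₂ ((G F).mapTriangle.map φ) ((G F).map_distinguished _ hT)
    ((G F).map_distinguished _ ((DerivedCategory.Qh ⋙ resFunctor A).map_distinguished _ hT)) h₁ h₂

variable [EnoughInjectives A]

/-- Bounded below complexes of acyclic objects compute `RF`. -/
theorem isIso_η_of_GE (K : CochainComplex A ℤ) (a : ℤ) [K.IsStrictlyGE a]
    (hK : ∀ k, Acyc F (K.X k)) :
    IsIso ((η F).app ((HomotopyCategory.quotient A _).obj K)) := by
  obtain ⟨L, i, hi, hL, _⟩ := CochainComplex.Plus.modelCategoryQuillen.exists_quasiIso_injective K a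
  have := CochainComplex.isKInjective_of_injective L a
  have hN := CochainComplex.isStrictlyGE_mappingCone i a a (a - 1)
  have hacyc := (quasiIso_iff_acyclic_mappingCone i).1 inferInstance
  have hT : QuasiIso ((F.mapHomologicalComplex (.up ℤ)).map i) := by
    refine (quasiIso_iff_acyclic_mappingCone _).2 fun k => ?_
    refine HomologicalComplex.ExactAt.of_iso ?_ (CochainComplex.mappingCone.mapHomologicalComplexIso i F)
    exact exactAt_map_of_acyclic F _ (a - 1) hacyc (fun j => acyc_of_iso F
      (HomologicalComplex.homotopyCofiber.XIsoBiprod i j (j + 1) rfl).symm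
      (acyc_biprod F (hK (j + 1)) (have := hL j; acyc_injective F (L.X j)))) k
  have hG : IsIso ((G F).map ((HomotopyCategory.quotient A _).map i)) :=
    (DerivedCategory.isIso_Qh_map_iff _).2
      ((HomotopyCategory.quotient_map_mem_quasiIso_iff ((F.mapHomologicalComplex (.up ℤ)).map i)).2 hT)
  have hQ : IsIso (DerivedCategory.Qh.map ((HomotopyCategory.quotient A _).map i)) :=
    (DerivedCategory.isIso_Qh_map_iff _).2 ((HomotopyCategory.quotient_map_mem_quasiIso_iff i).2 hi)
  have hL' := isIso_totalRightDerivedUnit_app_of_isKInjective (G F) L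
  have e := (η F).naturality ((HomotopyCategory.quotient A _).map i)
  have : IsIso ((η F).app ((HomotopyCategory.quotient A _).obj K) ≫
      (DerivedCategory.Qh ⋙ (G F).totalRightDerived DerivedCategory.Qh
        (HomotopyCategory.quasiIso A (ComplexShape.up ℤ))).map ((HomotopyCategory.quotient A _).map i)) := by
    rw [← e]
    exact IsIso.comp_isIso' hG hL'
  haveI hQ' := hQ
  exact @IsIso.of_isIso_comp_right _ _ _ _ _ _ _ (Functor.map_isIso ((G F).totalRightDerived DerivedCategory.Qh
    (HomotopyCategory.quasiIso A (ComplexShape.up ℤ)))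
      (DerivedCategory.Qh.map ((HomotopyCategory.quotient A _).map i))) this

variable [PreservesColimitsOfShape (Discrete ℕ) F]
  [(DerivedCategory.Qh (C := AddCommGrpCat.{v})).IsLeftAdjoint]
  [HasColimitsOfShape (Discrete ℕ) A]
  [PreservesColimitsOfShape (Discrete ℕ) ((G F).totalRightDerived DerivedCategory.Qh
    (HomotopyCategory.quasiIso A (ComplexShape.up ℤ)))]

omit [EnoughInjectives A] in
/-- The unit at a countable sum. -/
theorem isIso_η_coproduct (K : ℕ → CochainComplex A ℤ)
    (h : ∀ n, IsIso ((η F).app ((HomotopyCategory.quotient A _).obj (K n)))) :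
    IsIso ((η F).app ((HomotopyCategory.quotient A _).obj (∐ K))) := by
  have : PreservesColimitsOfShape (Discrete ℕ) (F.mapHomologicalComplex (ComplexShape.up ℤ)) :=
    HomologicalComplex.preservesColimitsOfShape_of_eval _ fun i =>
      inferInstanceAs (PreservesColimitsOfShape (Discrete ℕ)
        (HomologicalComplex.eval A (ComplexShape.up ℤ) i ⋙ F))
  let q := HomotopyCategory.quotient A (ComplexShape.up ℤ)
  let q' := HomotopyCategory.quotient AddCommGrpCat.{v} (ComplexShape.up ℤ)
  let FC := F.mapHomologicalComplex (ComplexShape.up ℤ)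
  let h₀ : IsColimit (Cofan.mk (q'.obj (FC.obj (∐ K))) fun n => q'.map (FC.map (Sigma.ι K n))) :=
    (HProd.isColimitCofan fun n => FC.obj (K n)).ofIsoColimit
      (Cofan.ext (q'.mapIso (PreservesCoproduct.iso FC K).symm) fun n => by
        simp only [cofan_mk_inj, Functor.mapIso_hom, ← Functor.map_comp, Iso.symm_hom]
        congr 1
        simp [PreservesCoproduct.inv_hom, q']
        rw [← Functor.map_comp, ι_comp_sigmaComparison])
  let hG : IsColimit (Cofan.mk ((G F).obj (q.obj (∐ K))) fun n => (G F).map (q.map (Sigma.ι K n))) :=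
    isColimitCofanMkObjOfIsColimit DerivedCategory.Qh _ _ h₀
  let hR : IsColimit (Cofan.mk ((DerivedCategory.Qh ⋙ (G F).totalRightDerived DerivedCategory.Qh
      (HomotopyCategory.quasiIso A (ComplexShape.up ℤ))).obj (q.obj (∐ K))) fun n =>
      (DerivedCategory.Qh ⋙ (G F).totalRightDerived DerivedCategory.Qh
      (HomotopyCategory.quasiIso A (ComplexShape.up ℤ))).map (q.map (Sigma.ι K n))) :=
    isColimitCofanMkObjOfIsColimit _ _ _ (HProd.isColimitCofan K)
  refine ⟨Cofan.IsColimit.desc hR fun n => (h n).1.choose ≫ (G F).map (q.map (Sigma.ι K n)),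
    Cofan.IsColimit.hom_ext hG _ _ fun n => ?_, Cofan.IsColimit.hom_ext hR _ _ fun n => ?_⟩
  · change (G F).map (q.map (Sigma.ι K n)) ≫ _ = (G F).map (q.map (Sigma.ι K n)) ≫ 𝟙 _
    rw [← Category.assoc, (η F).naturality, Category.assoc]
    erw [Cofan.IsColimit.fac hR]
    rw [← Category.assoc, (h n).1.choose_spec.1, Category.comp_id]
    exact Category.id_comp _
  · change (DerivedCategory.Qh ⋙ _).map (q.map (Sigma.ι K n)) ≫ _ = _ ≫ 𝟙 _
    rw [Category.comp_id, ← Category.assoc]
    erw [Cofan.IsColimit.fac hR]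
    rw [Category.assoc, (η F).naturality, ← Category.assoc, (h n).1.choose_spec.2]
    exact Category.id_comp _

/-- Complexes of acyclic objects compute `RF`. -/
theorem isIso_η (K : CochainComplex A ℤ) (hK : ∀ k, Acyc F (K.X k)) :
    IsIso ((η F).app ((HomotopyCategory.quotient A _).obj K)) := by
  have := KInjSmall.hasExactColimitsNat (A := A)
  obtain ⟨T, hT, e₁, e₂, e₃⟩ := exists_triangle K
  have hsum := isIso_η_coproduct F (fun n : ℕ => stupidGE K (-(n : ℤ))) fun n =>
    isIso_η_of_GE F _ (-(n : ℤ)) fun k => by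
      by_cases hk : -(n : ℤ) ≤ k
      · have := isIso_inclF K _ hk
        exact acyc_of_iso F (asIso (inclF K _ k)).symm (hK k)
      · exact acyc_of_isZero F (isZero_stupidGE K _ (by omega))
  rw [← e₁] at hsum
  have h2 : IsIso ((η F).app T.obj₂) := by rw [e₂, ← e₁]; exact hsum
  rw [← e₃]
  exact isIso_η₃ F T hT hsum h2

end Groth.Agent.Lib.DerCat.RFAcycColim
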