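import Mathlib.Algebra.Homology.DerivedCategory.RightDerivedFunctorPlus
import Mathlib.Algebra.Homology.DerivedCategory.HomologySequence
import Mathlib.Algebra.Homology.DerivedCategory.ShortExact

/-!
# The bounded below right derived functor sends triangles to triangles
-/

universe w w' v v' u u'

open CategoryTheory CategoryTheory.Limits CategoryTheory.Pretriangulated

namespace Groth.Agent.Lib.DerCat.RFPlus

variable {C : Type u} [Category.{v} C] [Abelian C] [HasDerivedCategory.{w} C]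

/-- The comparison `K⁺(Inj C) ⥤ D⁺(C)`. -/
noncomputable abbrev E :
    HomotopyCategory.Plus (InjectiveObject C) ⥤ DerivedCategory.Plus C :=
  (InjectiveObject.ι C).mapHomotopyCategoryPlus ⋙ DerivedCategory.Plus.Qh

lemma E_map_bijective (X Y : HomotopyCategory.Plus (InjectiveObject C)) :
    Function.Bijective ((E (C := C)).map : (X ⟶ Y) → _) := by
  have h : CochainComplex.IsKInjective
      ((InjectiveObject.ι C).mapHomotopyCategoryPlus.obj Y).obj.as := by
    obtain ⟨K, rfl⟩ := HomotopyCategory.Plus.quotient_obj_surjective Y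
    exact inferInstanceAs (CochainComplex.IsKInjective
      (((InjectiveObject.ι C).mapHomologicalComplex (.up ℤ)).obj K.obj))
  exact (DerivedCategory.Plus.Qh_map_bijective_of_isKInjective _ _ h).comp
    ⟨(InjectiveObject.ι C).mapHomotopyCategoryPlus.map_injective,
      (InjectiveObject.ι C).mapHomotopyCategoryPlus.map_surjective⟩

variable [EnoughInjectives C] {D : Type u'} [Category.{v'} D] [Abelian D]
  [HasDerivedCategory.{w'} D] (F : C ⥤ D) [F.Additive]

/-- `RF` on `D⁺`, seen in `D(D)`. -/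
noncomputable abbrev RF : DerivedCategory.Plus C ⥤ DerivedCategory D :=
  F.rightDerivedFunctorPlus ⋙ DerivedCategory.Plus.ι

/-- The functor computing `RF` on injective complexes. -/
noncomputable abbrev RFinj :
    HomotopyCategory.Plus (InjectiveObject C) ⥤ DerivedCategory D :=
  (InjectiveObject.ι C).mapHomotopyCategoryPlus ⋙ F.mapHomotopyCategoryPlus ⋙
    DerivedCategory.Plus.Qh ⋙ DerivedCategory.Plus.ι

/-- The unit as an isomorphism on injective complexes. -/
noncomputable def compIso : RFinj F ≅ E ⋙ RF F :=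
  NatIso.ofComponents
    (fun X => DerivedCategory.Plus.ι.mapIso
      (asIso (F.rightDerivedFunctorPlusUnit.app
        ((InjectiveObject.ι C).mapHomotopyCategoryPlus.obj X))))
    (fun {X Y} f => by
      have := DerivedCategory.Plus.ι.congr_map (F.rightDerivedFunctorPlusUnit.naturality
        ((InjectiveObject.ι C).mapHomotopyCategoryPlus.map f))
      simpa using this)

/-- The right derived functor sends distinguished triangles to distinguished triangles, up to the
connecting morphism. -/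
theorem exists_distTriang (T : Triangle (DerivedCategory.Plus C)) (hT : T ∈ distTriang _) :
    ∃ c, Triangle.mk ((RF F).map T.mor₁) ((RF F).map T.mor₂) c ∈
      distTriang (DerivedCategory D) := by
  let e₁ := (E (C := C)).objObjPreimageIso T.obj₁
  let e₂ := (E (C := C)).objObjPreimageIso T.obj₂
  obtain ⟨f, hf⟩ := (E_map_bijective _ _).2 (e₁.hom ≫ T.mor₁ ≫ e₂.inv)
  obtain ⟨Z, g, h, hT₀⟩ := distinguished_cocone_triangle f
  let T₀ := Triangle.mk f g h
  let T₁ := (E (C := C)).mapTriangle.obj T₀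
  have hT₁ : T₁ ∈ distTriang _ := (E (C := C)).map_distinguished _ hT₀
  have hsq : T.mor₁ ≫ e₂.inv = e₁.inv ≫ T₁.mor₁ := by
    change T.mor₁ ≫ e₂.inv = e₁.inv ≫ E.map f
    rw [hf, Iso.inv_hom_id_assoc]
  let φ := isoTriangleOfIso₁₂ T T₁ hT hT₁ e₁.symm e₂.symm hsq
  let a₁ := (RF F).mapIso (Triangle.π₁.mapIso φ) ≪≫ ((compIso F).app T₀.obj₁).symm
  let a₂ := (RF F).mapIso (Triangle.π₂.mapIso φ) ≪≫ ((compIso F).app T₀.obj₂).symm
  let a₃ := (RF F).mapIso (Triangle.π₃.mapIso φ) ≪≫ ((compIso F).app T₀.obj₃).symm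
  let T₂ := (RFinj F).mapTriangle.obj T₀
  have hT₂ : T₂ ∈ distTriang _ := (RFinj F).map_distinguished _ hT₀
  refine ⟨a₃.hom ≫ T₂.mor₃ ≫ a₁.inv⟦(1 : ℤ)⟧',
    isomorphic_distinguished _ hT₂ _ (Triangle.isoMk _ _ a₁ a₂ a₃ ?_ ?_ ?_)⟩
  · change (RF F).map T.mor₁ ≫ (RF F).map φ.hom.hom₂ ≫ (compIso F).inv.app _ =
      ((RF F).map φ.hom.hom₁ ≫ (compIso F).inv.app _) ≫ (RFinj F).map f
    rw [← Functor.map_comp_assoc, φ.hom.comm₁, Functor.map_comp_assoc, Category.assoc]
    exact congrArg ((RF F).map φ.hom.hom₁ ≫ ·) ((compIso F).inv.naturality f)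
  · change (RF F).map T.mor₂ ≫ (RF F).map φ.hom.hom₃ ≫ (compIso F).inv.app _ =
      ((RF F).map φ.hom.hom₂ ≫ (compIso F).inv.app _) ≫ (RFinj F).map g
    rw [← Functor.map_comp_assoc, φ.hom.comm₂, Functor.map_comp_assoc, Category.assoc]
    exact congrArg ((RF F).map φ.hom.hom₂ ≫ ·) ((compIso F).inv.naturality g)
  · change (a₃.hom ≫ T₂.mor₃ ≫ a₁.inv⟦(1 : ℤ)⟧') ≫ a₁.hom⟦(1 : ℤ)⟧' = a₃.hom ≫ T₂.mor₃
    rw [Category.assoc, Category.assoc, ← Functor.map_comp]
    erw [a₁.inv_hom_id, CategoryTheory.Functor.map_id, Category.comp_id]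
    rfl

omit [EnoughInjectives C] in
/-- The triangle in `D⁺` of a short exact sequence of bounded below complexes. -/
theorem exists_distTriang_of_shortExact {X₁ X₂ X₃ : CochainComplex.Plus C} (f : X₁ ⟶ X₂)
    (g : X₂ ⟶ X₃) (w : f.hom ≫ g.hom = 0) (hS : (ShortComplex.mk _ _ w).ShortExact) :
    ∃ c, Triangle.mk (DerivedCategory.Plus.Q.map f) (DerivedCategory.Plus.Q.map g) c ∈
      distTriang (DerivedCategory.Plus C) := by
  obtain ⟨Z, g₀, h₀, hT⟩ := distinguished_cocone_triangle (DerivedCategory.Plus.Q.map f)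
  let b := fun X : CochainComplex.Plus C =>
    (DerivedCategory.quotientCompQhIso C).app X.obj
  let T := (DerivedCategory.Plus.ι (C := C)).mapTriangle.obj
    (Triangle.mk (DerivedCategory.Plus.Q.map f) g₀ h₀)
  have hT' : T ∈ distTriang _ := (DerivedCategory.Plus.ι (C := C)).map_distinguished _ hT
  let T' := DerivedCategory.triangleOfSES hS
  have hsq : T.mor₁ ≫ (b X₂).hom = (b X₁).hom ≫ T'.mor₁ :=
    (DerivedCategory.quotientCompQhIso C).hom.naturality f.hom
  let φ := isoTriangleOfIso₁₂ T T' hT' (DerivedCategory.triangleOfSES_distinguished hS)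
    (b X₁) (b X₂) hsq
  let e : Z ≅ DerivedCategory.Plus.Q.obj X₃ :=
    DerivedCategory.Plus.ι.preimageIso (Triangle.π₃.mapIso φ ≪≫ (b X₃).symm)
  have he : g₀ ≫ e.hom = DerivedCategory.Plus.Q.map g := by
    apply DerivedCategory.Plus.ι.map_injective
    rw [Functor.map_comp]
    simp only [e, Functor.preimageIso_hom, Functor.map_preimage]
    have h₂ := φ.hom.comm₂
    change T.mor₂ ≫ φ.hom.hom₃ ≫ (b X₃).inv = _
    rw [← Category.assoc, h₂]
    change ((b X₂).hom ≫ DerivedCategory.Q.map g.hom) ≫ (b X₃).inv = _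
    rw [Iso.comp_inv_eq]
    exact ((DerivedCategory.quotientCompQhIso C).hom.naturality g.hom).symm
  refine ⟨e.inv ≫ h₀, isomorphic_distinguished _ hT _
    (Triangle.isoMk _ _ (Iso.refl _) (Iso.refl _) e.symm ?_ ?_ ?_)⟩
  · exact (Category.comp_id _).trans (Category.id_comp _).symm
  · change DerivedCategory.Plus.Q.map g ≫ e.inv = 𝟙 _ ≫ g₀
    rw [← he, Category.assoc, e.hom_inv_id, Category.comp_id]
    exact (Category.id_comp _).symm
  · change (e.inv ≫ h₀) ≫ (𝟙 _)⟦(1 : ℤ)⟧' = e.inv ≫ h₀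
    rw [CategoryTheory.Functor.map_id, Category.comp_id]

end Groth.Agent.Lib.DerCat.RFPlus
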