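import Groth.Agent.Lib.DerCat.FinDim
import Mathlib.CategoryTheory.Shift.Localization
import Mathlib.CategoryTheory.Triangulated.HomologicalFunctor
import Mathlib.Algebra.Homology.DerivedCategory.SingleTriangle

/-!
# The triangulated right derived functor of a functor of finite cohomological dimension
-/

universe w w' v v' u u'

open CategoryTheory CategoryTheory.Limits CategoryTheory.Pretriangulated

namespace Groth.Agent.Lib.DerCat.RFh

open Termwise RFObj RFAcyclic

variable {A : Type u} [Category.{v} A] [Abelian A] [EnoughInjectives A] [HasDerivedCategory.{w} A]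
  {B : Type u'} [Category.{v'} B] [Abelian B] [HasDerivedCategory.{w'} B]
  (F : A ⥤ B) [F.Additive]

instance isTriangulated_acyc : (termwise (Acyc F)).IsTriangulated :=
  isTriangulated_termwise (FinDim.acyc_isAdditiveClass F)

variable [PreservesFiniteLimits F] (N : ℕ) (hN : ∀ X : A, IsZero ((F.rightDerived N).obj X))

/-- The inclusion followed by localization. -/
noncomputable abbrev L₁ : (termwise (Acyc F)).FullSubcategory ⥤ DerivedCategory A :=
  (termwise (Acyc F)).ι ⋙ DerivedCategory.Qh

/-- The morphisms to invert. -/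
noncomputable abbrev W₁ : MorphismProperty (termwise (Acyc F)).FullSubcategory :=
  (HomotopyCategory.quasiIso A (.up ℤ)).inverseImage (termwise (Acyc F)).ι

instance compatible_W₁ : (W₁ F).IsCompatibleWithShift ℤ := by
  rw [W₁, HomotopyCategory.quasiIso_eq_trW_subcategoryAcyclic,
    ← ResolDer.trW_inverseImage_eq]
  infer_instance

/-- `RF`, built from resolutions. -/
noncomputable def RF : DerivedCategory A ⥤ DerivedCategory B :=
  haveI := FinDim.isLocalization_right (F := F) N hN
  ResolDer.derived DerivedCategory.Qh _ (termwise (Acyc F))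
    (F.mapHomotopyCategory (.up ℤ) ⋙ DerivedCategory.Qh) (FinDim.inverts_right N hN)

/-- `RF` on complexes with acyclic terms. -/
noncomputable def RFIso : L₁ F ⋙ RF F N hN ≅
    (termwise (Acyc F)).ι ⋙ F.mapHomotopyCategory (.up ℤ) ⋙ DerivedCategory.Qh :=
  haveI := FinDim.isLocalization_right (F := F) N hN
  ResolDer.derivedIso DerivedCategory.Qh _ (termwise (Acyc F))
    (F.mapHomotopyCategory (.up ℤ) ⋙ DerivedCategory.Qh) (FinDim.inverts_right N hN)

noncomputable instance lifting : Localization.Lifting (L₁ F) (W₁ F)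
    ((termwise (Acyc F)).ι ⋙ F.mapHomotopyCategory (.up ℤ) ⋙ DerivedCategory.Qh) (RF F N hN) :=
  ⟨RFIso F N hN⟩

noncomputable instance commShift : (RF F N hN).CommShift ℤ :=
  haveI := FinDim.isLocalization_right (F := F) N hN
  Functor.commShiftOfLocalization (L₁ F) (W₁ F) ℤ
    ((termwise (Acyc F)).ι ⋙ F.mapHomotopyCategory (.up ℤ) ⋙ DerivedCategory.Qh) (RF F N hN)

instance commShift_RFIso : NatTrans.CommShift (RFIso F N hN).hom ℤ :=
  haveI := FinDim.isLocalization_right (F := F) N hN
  inferInstanceAs (NatTrans.CommShift (Localization.Lifting.iso (L₁ F) (W₁ F)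
    ((termwise (Acyc F)).ι ⋙ F.mapHomotopyCategory (.up ℤ) ⋙ DerivedCategory.Qh) (RF F N hN)).hom ℤ)

instance isTriangulated : (RF F N hN).IsTriangulated := by
  have := FinDim.isLocalization_right (F := F) N hN
  let W' := ((HomotopyCategory.subcategoryAcyclic A).inverseImage (termwise (Acyc F)).ι).trW
  have hW : W₁ F = W' := by
    simp only [W₁, W', HomotopyCategory.quasiIso_eq_trW_subcategoryAcyclic,
      ResolDer.trW_inverseImage_eq]
  have : (L₁ F).IsLocalization W' := hW ▸ (this : (L₁ F).IsLocalization (W₁ F))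
  have : (L₁ F).mapArrow.EssSurj := Localization.essSurj_mapArrow _ W'
  exact Functor.isTriangulated_of_precomp_iso (RFIso F N hN)

/-- On a complex with acyclic terms `RF` is `F`. -/
noncomputable def RFobjIso (K : CochainComplex A ℤ) (hK : ∀ n, Acyc F (K.X n)) :
    (RF F N hN).obj (DerivedCategory.Q.obj K) ≅
      DerivedCategory.Q.obj ((F.mapHomologicalComplex (.up ℤ)).obj K) :=
  (RF F N hN).mapIso ((DerivedCategory.quotientCompQhIso A).symm.app K) ≪≫
    (RFIso F N hN).app ⟨(HomotopyCategory.quotient A _).obj K, hK⟩ ≪≫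
    (DerivedCategory.quotientCompQhIso B).app ((F.mapHomologicalComplex (.up ℤ)).obj K)

lemma RFobjIso_naturality {K L : CochainComplex A ℤ} (f : K ⟶ L) (hK : ∀ n, Acyc F (K.X n))
    (hL : ∀ n, Acyc F (L.X n)) :
    (RF F N hN).map (DerivedCategory.Q.map f) ≫ (RFobjIso F N hN L hL).hom =
      (RFobjIso F N hN K hK).hom ≫
        DerivedCategory.Q.map ((F.mapHomologicalComplex (.up ℤ)).map f) := by
  have h₁ := congrArg (RF F N hN).map ((DerivedCategory.quotientCompQhIso A).inv.naturality f)
  let g : (⟨(HomotopyCategory.quotient A _).obj K, hK⟩ : (termwise (Acyc F)).FullSubcategory) ⟶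
      ⟨(HomotopyCategory.quotient A _).obj L, hL⟩ :=
    ObjectProperty.homMk ((HomotopyCategory.quotient A _).map f)
  have h₂ := (RFIso F N hN).hom.naturality g
  have h₃ := (DerivedCategory.quotientCompQhIso B).hom.naturality
    ((F.mapHomologicalComplex (.up ℤ)).map f)
  simp only [Functor.map_comp] at h₁
  simp only [RFobjIso, Iso.trans_hom, Functor.mapIso_hom, Iso.app_hom, Iso.symm_hom,
    Category.assoc]
  dsimp at h₁ h₂ h₃ ⊢
  rw [reassoc_of% h₁]
  erw [reassoc_of% h₂]
  exact congrArg _ (congrArg _ h₃)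

end Groth.Agent.Lib.DerCat.RFh
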