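import Mathlib.CategoryTheory.Triangulated.LocalizingSubcategory
import Mathlib.CategoryTheory.Functor.Derived.RightDerived
import Mathlib.CategoryTheory.Functor.Derived.LeftDerived
import Mathlib.CategoryTheory.Localization.CalculusOfFractions

/-!
# Derived functors from resolutions in a subcategory
-/

universe v₁ v₂ v₃ u₁ u₂ u₃

open CategoryTheory CategoryTheory.Limits

namespace Groth.Agent.Lib.DerCat.ResolDer

section General

variable {C : Type u₁} [Category.{v₁} C] {D : Type u₂} [Category.{v₂} D]
  {H : Type u₃} [Category.{v₃} H] (L : C ⥤ D) (W : MorphismProperty C) [L.IsLocalization W]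
  (P : ObjectProperty C) [(P.ι ⋙ L).IsLocalization (W.inverseImage P.ι)]
  (F : C ⥤ H) (hF : (W.inverseImage P.ι).IsInvertedBy (P.ι ⋙ F))

/-- The derived functor. -/
noncomputable def derived : D ⥤ H := Localization.lift (P.ι ⋙ F) hF (P.ι ⋙ L)

/-- The comparison on the subcategory. -/
noncomputable def derivedIso : (P.ι ⋙ L) ⋙ derived L W P F hF ≅ P.ι ⋙ F :=
  Localization.fac _ _ _

section Right

variable (res : ∀ X : C, ∃ (R : C) (s : X ⟶ R), P R ∧ W s) [W.HasLeftCalculusOfFractions]

/-- A chosen resolution. -/
noncomputable abbrev rObj (X : C) : P.FullSubcategory :=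
  ⟨(res X).choose, (res X).choose_spec.choose_spec.1⟩

/-- The map to a chosen resolution. -/
noncomputable abbrev rMap (X : C) : X ⟶ (rObj W P res X).obj := (res X).choose_spec.choose

lemma rMap_mem (X : C) : W (rMap W P res X) := (res X).choose_spec.choose_spec.2

/-- The value of the unit. -/
noncomputable def unitApp (X : C) : F.obj X ⟶ (derived L W P F hF).obj (L.obj X) :=
  F.map (rMap W P res X) ≫ (derivedIso L W P F hF).inv.app (rObj W P res X) ≫
    (derived L W P F hF).map (Localization.isoOfHom L W _ (rMap_mem W P res X)).inv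

/-- The unit. -/
noncomputable def unit : F ⟶ L ⋙ derived L W P F hF where
  app := unitApp L W P F hF res
  naturality X Y f := by
    let s := rMap W P res X
    let t := rMap W P res Y
    obtain ⟨φ, hφ⟩ := (MorphismProperty.RightFraction.mk s (rMap_mem W P res X) (f ≫ t)).exists_leftFraction
    replace hφ : f ≫ t ≫ φ.s = s ≫ φ.f := by simpa using hφ
    obtain ⟨R, w, hR, hw⟩ := res φ.Y'
    let g : rObj W P res X ⟶ ⟨R, hR⟩ := ObjectProperty.homMk (φ.f ≫ w)
    let u : rObj W P res Y ⟶ ⟨R, hR⟩ := ObjectProperty.homMk (φ.s ≫ w)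
    have hu : W u.hom := W.comp_mem _ _ φ.hs hw
    let G := derived L W P F hF
    let ε := (derivedIso L W P F hF).inv
    have key : f ≫ t ≫ u.hom = s ≫ g.hom := by
      simp only [u, g, ObjectProperty.homMk_hom]
      exact (by simpa only [Category.assoc] using congrArg (· ≫ w) hφ)
    have hL : L.map g.hom ≫ (Localization.isoOfHom L W _ hu).inv ≫
        (Localization.isoOfHom L W _ (rMap_mem W P res Y)).inv =
        (Localization.isoOfHom L W _ (rMap_mem W P res X)).inv ≫ L.map f := by
      rw [Iso.eq_inv_comp, Localization.isoOfHom_hom, ← Category.assoc, ← L.map_comp, ← key,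
        L.map_comp, L.map_comp, Category.assoc, Category.assoc]
      simp [t]
    let b : ∀ Z : P.FullSubcategory, F.obj Z.obj ⟶ G.obj (L.obj Z.obj) := fun Z => ε.app Z
    have hg : F.map g.hom ≫ b ⟨R, hR⟩ = b (rObj W P res X) ≫ G.map (L.map g.hom) := ε.naturality g
    have hu' : F.map u.hom ≫ b ⟨R, hR⟩ = b (rObj W P res Y) ≫ G.map (L.map u.hom) := ε.naturality u
    have hu'' : b (rObj W P res Y) =
        F.map u.hom ≫ b ⟨R, hR⟩ ≫ G.map (Localization.isoOfHom L W _ hu).inv := by
      rw [reassoc_of% hu', ← G.map_comp, Localization.isoOfHom_hom_inv_id]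
      erw [CategoryTheory.Functor.map_id, Category.comp_id]
    change F.map f ≫ F.map t ≫ b (rObj W P res Y) ≫
        G.map (Localization.isoOfHom L W _ (rMap_mem W P res Y)).inv =
      (F.map s ≫ b (rObj W P res X) ≫
        G.map (Localization.isoOfHom L W _ (rMap_mem W P res X)).inv) ≫ G.map (L.map f)
    rw [hu'']
    simp only [Category.assoc, ← Functor.map_comp]
    rw [← hL, ← F.map_comp_assoc, ← F.map_comp_assoc]
    erw [Category.assoc, key]
    rw [F.map_comp_assoc, reassoc_of% hg, ← G.map_comp]

/-- On the subcategory the unit is the comparison. -/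
lemma unit_app_of_mem (X : P.FullSubcategory) :
    (unit L W P F hF res).app X.obj = (derivedIso L W P F hF).inv.app X := by
  let s : X ⟶ rObj W P res X.obj := ObjectProperty.homMk (rMap W P res X.obj)
  have h : F.map (rMap W P res X.obj) ≫ (derivedIso L W P F hF).inv.app (rObj W P res X.obj) =
      (derivedIso L W P F hF).inv.app X ≫
        (derived L W P F hF).map (L.map (rMap W P res X.obj)) :=
    (derivedIso L W P F hF).inv.naturality s
  change unitApp L W P F hF res X.obj = _
  rw [unitApp, ← Category.assoc, h, Category.assoc, ← Functor.map_comp,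
    Localization.isoOfHom_hom_inv_id]
  simp

instance isIso_unit_app (X : P.FullSubcategory) : IsIso ((unit L W P F hF res).app X.obj) := by
  rw [unit_app_of_mem]
  infer_instance

/-- The functor built from resolutions is the right derived functor. -/
theorem isRightDerived_unit :
    (derived L W P F hF).IsRightDerivedFunctor (unit L W P F hF res) W := by
  let G := derived L W P F hF
  let α := unit L W P F hF res
  refine ⟨⟨⟨Limits.IsInitial.ofUniqueHom (fun E => StructuredArrow.homMk
    (Localization.liftNatTrans (P.ι ⋙ L) (W.inverseImage P.ι) ((P.ι ⋙ L) ⋙ G)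
      ((P.ι ⋙ L) ⋙ E.right) G E.right
      ((derivedIso L W P F hF).hom ≫ Functor.whiskerLeft P.ι E.hom)) ?_) (fun E m => ?_)⟩⟩⟩
  · ext X
    let R := rObj W P res X
    let s := rMap W P res X
    have h1 := (Localization.liftNatTrans (P.ι ⋙ L) (W.inverseImage P.ι) ((P.ι ⋙ L) ⋙ G)
      ((P.ι ⋙ L) ⋙ E.right) G E.right
      ((derivedIso L W P F hF).hom ≫ Functor.whiskerLeft P.ι E.hom)).naturality
        (Localization.isoOfHom L W _ (rMap_mem W P res X)).inv
    have h2 := Localization.liftNatTrans_app (P.ι ⋙ L) (W.inverseImage P.ι) ((P.ι ⋙ L) ⋙ G)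
      ((P.ι ⋙ L) ⋙ E.right) G E.right
      ((derivedIso L W P F hF).hom ≫ Functor.whiskerLeft P.ι E.hom) R
    have h3 := E.hom.naturality s
    change unitApp L W P F hF res X ≫ _ = E.hom.app X
    dsimp [unitApp, R, s, G] at h1 h2 h3 ⊢
    simp only [Category.assoc] at h1 ⊢
    erw [h1, h2]
    simp only [Category.assoc, Category.id_comp, Category.comp_id, Iso.inv_hom_id_app_assoc]
    erw [reassoc_of% h3]
    simp [← Functor.map_comp]
  · refine StructuredArrow.ext _ _ (Localization.natTrans_ext (P.ι ⋙ L) (W.inverseImage P.ι)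
      fun X => ?_)
    have hw := congrArg (fun z => z.app X.obj) (StructuredArrow.w m)
    change α.app X.obj ≫ m.right.app (L.obj X.obj) = E.hom.app X.obj at hw
    change m.right.app (L.obj X.obj) = (Localization.liftNatTrans (P.ι ⋙ L) (W.inverseImage P.ι)
      ((P.ι ⋙ L) ⋙ G) ((P.ι ⋙ L) ⋙ E.right) G E.right
      ((derivedIso L W P F hF).hom ≫ Functor.whiskerLeft P.ι E.hom)).app ((P.ι ⋙ L).obj X)
    have : IsIso (α.app X.obj) := isIso_unit_app L W P F hF res X
    refine (cancel_epi (α.app X.obj)).1 (hw.trans ?_)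
    erw [Localization.liftNatTrans_app]
    rw [show α.app X.obj = (derivedIso L W P F hF).inv.app X from unit_app_of_mem L W P F hF res X]
    simp [Localization.Lifting.iso]

include L hF res in
theorem hasRightDerivedFunctor :
    F.HasRightDerivedFunctor W :=
  have := isRightDerived_unit L W P F hF res
  Functor.HasRightDerivedFunctor.mk' (derived L W P F hF) (unit L W P F hF res)

include hF res in
/-- Any right derived functor has invertible unit on the subcategory. -/
theorem isIso_app {RF : D ⥤ H} (β : F ⟶ L ⋙ RF) [RF.IsRightDerivedFunctor β W]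
    (X : P.FullSubcategory) : IsIso (β.app X.obj) := by
  let G := derived L W P F hF
  let α := unit L W P F hF res
  have := isRightDerived_unit L W P F hF res
  let e := G.rightDerivedUnique RF α β W
  have h := G.rightDerived_fac_app α W RF β X.obj
  rw [← h]
  have : IsIso (G.rightDerivedDesc α W RF β) :=
    (G.isRightDerivedFunctor_iff_isIso_rightDerivedDesc α W RF β).1 inferInstance
  infer_instance

end Right

section Left

variable (res : ∀ X : C, ∃ (R : C) (s : R ⟶ X), P R ∧ W s) [W.HasRightCalculusOfFractions]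

/-- A chosen resolution. -/
noncomputable abbrev lObj (X : C) : P.FullSubcategory :=
  ⟨(res X).choose, (res X).choose_spec.choose_spec.1⟩

/-- The map from a chosen resolution. -/
noncomputable abbrev lMap (X : C) : (lObj W P res X).obj ⟶ X := (res X).choose_spec.choose

lemma lMap_mem (X : C) : W (lMap W P res X) := (res X).choose_spec.choose_spec.2

/-- The value of the counit. -/
noncomputable def counitApp (X : C) : (derived L W P F hF).obj (L.obj X) ⟶ F.obj X :=
  (derived L W P F hF).map (Localization.isoOfHom L W _ (lMap_mem W P res X)).inv ≫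
    (derivedIso L W P F hF).hom.app (lObj W P res X) ≫ F.map (lMap W P res X)

/-- The counit. -/
noncomputable def counit : L ⋙ derived L W P F hF ⟶ F where
  app := counitApp L W P F hF res
  naturality X Y f := by
    let s := lMap W P res X
    let t := lMap W P res Y
    obtain ⟨φ, hφ⟩ := (MorphismProperty.LeftFraction.mk (s ≫ f) t (lMap_mem W P res Y)).exists_rightFraction
    replace hφ : φ.s ≫ s ≫ f = φ.f ≫ t := by simpa using hφ
    obtain ⟨R, w, hR, hw⟩ := res φ.X'
    let g : (⟨R, hR⟩ : P.FullSubcategory) ⟶ lObj W P res Y := ObjectProperty.homMk (w ≫ φ.f)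
    let u : (⟨R, hR⟩ : P.FullSubcategory) ⟶ lObj W P res X := ObjectProperty.homMk (w ≫ φ.s)
    have hu : W u.hom := W.comp_mem _ _ hw φ.hs
    let G := derived L W P F hF
    let ε := (derivedIso L W P F hF).hom
    have key : u.hom ≫ s ≫ f = g.hom ≫ t := by
      simp only [u, g, ObjectProperty.homMk_hom]
      exact (by simpa only [Category.assoc] using congrArg (w ≫ ·) hφ)
    have hL : (Localization.isoOfHom L W _ (lMap_mem W P res X)).inv ≫
        (Localization.isoOfHom L W _ hu).inv ≫ L.map g.hom =
        L.map f ≫ (Localization.isoOfHom L W _ (lMap_mem W P res Y)).inv := by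
      rw [Iso.inv_comp_eq, Iso.inv_comp_eq, Localization.isoOfHom_hom, Localization.isoOfHom_hom,
        ← Category.assoc (f := L.map s), ← L.map_comp, ← Category.assoc, ← L.map_comp, key,
        L.map_comp, Category.assoc, Localization.isoOfHom_hom_inv_id]
      exact (Category.comp_id _).symm
    let b : ∀ Z : P.FullSubcategory, G.obj (L.obj Z.obj) ⟶ F.obj Z.obj := fun Z => ε.app Z
    have hg : G.map (L.map g.hom) ≫ b (lObj W P res Y) = b ⟨R, hR⟩ ≫ F.map g.hom := ε.naturality g
    have hu' : G.map (L.map u.hom) ≫ b (lObj W P res X) = b ⟨R, hR⟩ ≫ F.map u.hom := ε.naturality u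
    have hu'' : b (lObj W P res X) =
        G.map (Localization.isoOfHom L W _ hu).inv ≫ b ⟨R, hR⟩ ≫ F.map u.hom := by
      rw [← hu', ← Category.assoc, ← G.map_comp, Localization.isoOfHom_inv_hom_id]
      erw [CategoryTheory.Functor.map_id, Category.id_comp]
    change G.map (L.map f) ≫ G.map (Localization.isoOfHom L W _ (lMap_mem W P res Y)).inv ≫
        b (lObj W P res Y) ≫ F.map t =
      (G.map (Localization.isoOfHom L W _ (lMap_mem W P res X)).inv ≫
        b (lObj W P res X) ≫ F.map s) ≫ F.map f
    rw [hu'', ← Functor.map_comp_assoc, ← hL, Functor.map_comp, Functor.map_comp]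
    simp only [Category.assoc]
    rw [reassoc_of% hg, ← F.map_comp, ← key]
    simp only [F.map_comp]

/-- On the subcategory the counit is the comparison. -/
lemma counit_app_of_mem (X : P.FullSubcategory) :
    (counit L W P F hF res).app X.obj = (derivedIso L W P F hF).hom.app X := by
  let s : lObj W P res X.obj ⟶ X := ObjectProperty.homMk (lMap W P res X.obj)
  have h : (derived L W P F hF).map (L.map (lMap W P res X.obj)) ≫ (derivedIso L W P F hF).hom.app X =
      (derivedIso L W P F hF).hom.app (lObj W P res X.obj) ≫ F.map (lMap W P res X.obj) :=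
    (derivedIso L W P F hF).hom.naturality s
  change counitApp L W P F hF res X.obj = _
  rw [counitApp, ← h, ← Category.assoc, ← Functor.map_comp, Localization.isoOfHom_inv_hom_id]
  simp

instance isIso_counit_app (X : P.FullSubcategory) :
    IsIso ((counit L W P F hF res).app X.obj) := by
  rw [counit_app_of_mem]
  infer_instance

/-- The functor built from resolutions is the left derived functor. -/
theorem isLeftDerived_counit :
    (derived L W P F hF).IsLeftDerivedFunctor (counit L W P F hF res) W := by
  let G := derived L W P F hF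
  let α := counit L W P F hF res
  refine ⟨⟨⟨Limits.IsTerminal.ofUniqueHom (fun E => CostructuredArrow.homMk
    (Localization.liftNatTrans (P.ι ⋙ L) (W.inverseImage P.ι) ((P.ι ⋙ L) ⋙ E.left)
      ((P.ι ⋙ L) ⋙ G) E.left G
      (Functor.whiskerLeft P.ι E.hom ≫ (derivedIso L W P F hF).inv)) ?_) (fun E m => ?_)⟩⟩⟩
  · ext X
    let R := lObj W P res X
    let s := lMap W P res X
    let i := Localization.isoOfHom L W _ (lMap_mem W P res X)
    let τ := Localization.liftNatTrans (P.ι ⋙ L) (W.inverseImage P.ι) ((P.ι ⋙ L) ⋙ E.left)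
      ((P.ι ⋙ L) ⋙ G) E.left G
      (Functor.whiskerLeft P.ι E.hom ≫ (derivedIso L W P F hF).inv)
    have h2 : τ.app (L.obj R.obj) = E.hom.app R.obj ≫ (derivedIso L W P F hF).inv.app R := by
      change τ.app ((P.ι ⋙ L).obj R) = _
      erw [Localization.liftNatTrans_app]
      simp [Localization.Lifting.iso]
    change τ.app (L.obj X) ≫ counitApp L W P F hF res X = E.hom.app X
    have h3 : E.left.map (L.map s) ≫ E.hom.app X = E.hom.app R.obj ≫ F.map s := E.hom.naturality s
    have h1 : τ.app (L.obj X) ≫ G.map i.inv = E.left.map i.inv ≫ τ.app (L.obj R.obj) :=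
      (τ.naturality i.inv).symm
    rw [counitApp, ← Category.assoc]
    erw [h1]
    rw [h2, Category.assoc, Category.assoc]
    erw [Iso.inv_hom_id_app_assoc]
    rw [← h3, ← Category.assoc, ← Functor.map_comp]
    simp [i, s]
  · refine CostructuredArrow.ext _ _ (Localization.natTrans_ext (P.ι ⋙ L) (W.inverseImage P.ι)
      fun X => ?_)
    have hw := congrArg (fun z => z.app X.obj) (CostructuredArrow.w m)
    change m.left.app (L.obj X.obj) ≫ α.app X.obj = E.hom.app X.obj at hw
    change m.left.app (L.obj X.obj) = (Localization.liftNatTrans (P.ι ⋙ L) (W.inverseImage P.ι)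
      ((P.ι ⋙ L) ⋙ E.left) ((P.ι ⋙ L) ⋙ G) E.left G
      (Functor.whiskerLeft P.ι E.hom ≫ (derivedIso L W P F hF).inv)).app ((P.ι ⋙ L).obj X)
    have : IsIso (α.app X.obj) := isIso_counit_app L W P F hF res X
    refine (cancel_mono (α.app X.obj)).1 (hw.trans ?_)
    erw [Localization.liftNatTrans_app]
    rw [show α.app X.obj = (derivedIso L W P F hF).hom.app X from counit_app_of_mem L W P F hF res X]
    simp [Localization.Lifting.iso]

include L hF res in
theorem hasLeftDerivedFunctor : F.HasLeftDerivedFunctor W :=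
  have := isLeftDerived_counit L W P F hF res
  Functor.HasLeftDerivedFunctor.mk' (derived L W P F hF) (counit L W P F hF res)

include hF res in
/-- Any left derived functor has invertible counit on the subcategory. -/
theorem isIso_left_app {LF : D ⥤ H} (β : L ⋙ LF ⟶ F) [LF.IsLeftDerivedFunctor β W]
    (X : P.FullSubcategory) : IsIso (β.app X.obj) := by
  let G := derived L W P F hF
  let α := counit L W P F hF res
  have := isLeftDerived_counit L W P F hF res
  have h := G.leftDerived_fac_app α W LF β X.obj
  rw [← h]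
  have : IsIso (G.leftDerivedLift α W LF β) :=
    (G.isLeftDerivedFunctor_iff_isIso_leftDerivedLift α W LF β).1 inferInstance
  infer_instance

end Left

end General

section Triangulated

open Pretriangulated

variable {C : Type u₁} [Category.{v₁} C] [HasZeroObject C] [HasShift C ℤ] [Preadditive C]
  [∀ n : ℤ, (shiftFunctor C n).Additive] [Pretriangulated C] [IsTriangulated C]
  {D : Type u₂} [Category.{v₂} D] (L : C ⥤ D) (A B : ObjectProperty C) [A.IsTriangulated]
  [B.IsTriangulated] [B.IsClosedUnderIsomorphisms] [L.IsLocalization B.trW]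

omit [IsTriangulated C] [B.IsTriangulated] in
lemma trW_inverseImage_eq : (B.inverseImage A.ι).trW = B.trW.inverseImage A.ι := by
  ext X Y f
  rw [ObjectProperty.trW_inverseImage_ι_iff]
  refine ⟨fun h => ObjectProperty.trW_monotone inf_le_right _ h, fun h => ?_⟩
  change B.trW f.hom at h
  rw [ObjectProperty.trW_iff] at h ⊢
  obtain ⟨Z, a, b, hT, hZ⟩ := h
  obtain ⟨Z', hZ', c, d, hT'⟩ := A.distinguished_cocone_triangle f.hom X.property Y.property
  exact ⟨Z', c, d, hT', hZ', B.prop_of_iso (Triangle.π₃.mapIso (isoTriangleOfIso₁₂ _ _ hT hT'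
    (Iso.refl _) (Iso.refl _) ((Category.comp_id _).trans (Category.id_comp _).symm))) hZ⟩

/-- With resolutions on the other side, the subcategory localizes to the whole localization. -/
theorem isLocalization_of_leftResolutions
    (res : ∀ X : C, ∃ (R : C) (s : R ⟶ X), A R ∧ B.trW s) :
    (A.ι ⋙ L).IsLocalization (B.trW.inverseImage A.ι) := by
  have hW := trW_inverseImage_eq A B
  have : A.IsVerdierLeftLocalizing B := (A.isVerdierLeftLocalizing_iff B).2 fun X Y s hY hs => by
    obtain ⟨R, t, hR, ht⟩ := res X
    refine ⟨R, t ≫ s, t, hR, ?_, rfl⟩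
    have h' : B.trW.inverseImage A.ι
        (ObjectProperty.homMk (t ≫ s) : (⟨R, hR⟩ : A.FullSubcategory) ⟶ ⟨Y, hY⟩) :=
      B.trW.comp_mem _ _ ht hs
    rw [← hW, ObjectProperty.trW_inverseImage_ι_iff] at h'
    exact h'
  have : (A.ι ⋙ L).EssSurj := ⟨fun Y => by
    have := Localization.essSurj L B.trW
    obtain ⟨R, s, hR, hs⟩ := res (L.objPreimage Y)
    exact ⟨⟨R, hR⟩, ⟨(Localization.isoOfHom L B.trW s hs) ≪≫ L.objObjPreimageIso Y⟩⟩⟩
  rw [← hW]
  exact (A.triangulatedLocalizerMorphism B).isLocalization_of_isLocalizedFullyFaithful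
    (L₂ := L) (F := 𝟭 D) (Functor.rightUnitor _).symm

/-- With resolutions, the subcategory localizes to the whole localization. -/
theorem isLocalization_of_resolutions (res : ∀ X : C, ∃ (R : C) (s : X ⟶ R), A R ∧ B.trW s) :
    (A.ι ⋙ L).IsLocalization (B.trW.inverseImage A.ι) := by
  have hW := trW_inverseImage_eq A B
  have : A.IsVerdierRightLocalizing B := (A.isVerdierRightLocalizing_iff B).2 fun X Y s hX hs => by
    obtain ⟨R, t, hR, ht⟩ := res Y
    refine ⟨R, s ≫ t, t, hR, ?_, rfl⟩
    have h' : B.trW.inverseImage A.ι (ObjectProperty.homMk (s ≫ t) : (⟨X, hX⟩ : A.FullSubcategory) ⟶ ⟨R, hR⟩) :=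
      B.trW.comp_mem _ _ hs ht
    rw [← hW, ObjectProperty.trW_inverseImage_ι_iff] at h'
    exact h'
  have : (A.ι ⋙ L).EssSurj := ⟨fun Y => by
    have := Localization.essSurj L B.trW
    obtain ⟨R, s, hR, hs⟩ := res (L.objPreimage Y)
    exact ⟨⟨R, hR⟩, ⟨(Localization.isoOfHom L B.trW s hs).symm ≪≫ L.objObjPreimageIso Y⟩⟩⟩
  rw [← hW]
  exact (A.triangulatedLocalizerMorphism B).isLocalization_of_isLocalizedFullyFaithful
    (L₂ := L) (F := 𝟭 D) (Functor.rightUnitor _).symm

end Triangulated

end Groth.Agent.Lib.DerCat.ResolDer
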