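import Groth.Agent.Lib.DerCat.HProd
import Groth.Agent.Lib.DerCat.KInjExists
import Groth.Agent.Lib.DerivedOX.RightDerived
import Groth.Prelude.Def_DCoh2
import Mathlib.Algebra.Homology.DerivedCategory.Fractions
import Mathlib.Algebra.Homology.Refinements

/-!
# Derived limits and right derived functors, if countable products are exact in the target
-/

universe w w' v v' u u'

open CategoryTheory CategoryTheory.Limits CategoryTheory.Pretriangulated

namespace Groth.Agent.Lib.DerCat.RlimRF

section Exact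

variable {B : Type u'} [Category.{v'} B] [Abelian B]
  [HasLimitsOfShape (Discrete ℕ) B] [(lim : (Discrete ℕ ⥤ B) ⥤ B).PreservesEpimorphisms]

/-- Countably many epimorphisms onto an object have a common refinement. -/
lemma exists_common_refinement {T : B} {T' : ℕ → B} (π : ∀ n, T' n ⟶ T) (hπ : ∀ n, Epi (π n)) :
    ∃ (U : B) (ρ : U ⟶ T) (σ : ∀ n, U ⟶ T' n), Epi ρ ∧ ∀ n, σ n ≫ π n = ρ := by
  let τ : Discrete.functor T' ⟶ Discrete.functor (fun _ : ℕ => T) :=
    Discrete.natTrans fun j => π j.as
  have : ∀ j, Epi (τ.app j) := fun j => hπ j.as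
  have : Epi τ := NatTrans.epi_of_epi_app τ
  have he : Epi (Limits.Pi.map π) := by
    change Epi (lim.map τ)
    infer_instance
  let diag : T ⟶ ∏ᶜ (fun _ : ℕ => T) := Pi.lift fun _ => 𝟙 T
  refine ⟨pullback diag (Limits.Pi.map π), pullback.fst _ _,
    fun n => pullback.snd _ _ ≫ Pi.π T' n, inferInstance, fun n => ?_⟩
  have := pullback.condition (f := diag) (g := Limits.Pi.map π) =≫ Pi.π (fun _ : ℕ => T) n
  simpa [diag] using this.symm

/-- A product of quasi-isomorphisms is a quasi-isomorphism. -/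
theorem quasiIso_piMap {K L : ℕ → CochainComplex B ℤ} (s : ∀ n, K n ⟶ L n)
    (hs : ∀ n, QuasiIso (s n)) : QuasiIso (Limits.Pi.map s) := by
  have hπ : ∀ n m, (Limits.Pi.map s).f m ≫ (Pi.π L n).f m = (Pi.π K n).f m ≫ (s n).f m :=
    fun n m => by rw [← HomologicalComplex.comp_f, Pi.map_π, HomologicalComplex.comp_f]
  refine ⟨fun m => ?_⟩
  rw [quasiIsoAt_iff_isIso_homologyMap]
  have hm : Mono (HomologicalComplex.homologyMap (Limits.Pi.map s) m) := by
    rw [HomologicalComplex.mono_homologyMap_iff_up_to_refinements _ (m - 1) m (m + 1) (by simp)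
      (by simp)]
    intro T x hx y hy
    have hd : ∀ n, ∃ (U : B) (π : U ⟶ T) (_ : Epi π) (z : U ⟶ (K n).X (m - 1)),
        π ≫ x ≫ (Pi.π K n).f m = z ≫ (K n).d (m - 1) m := fun n =>
      (HomologicalComplex.mono_homologyMap_iff_up_to_refinements (s n) (m - 1) m (m + 1)
        (by simp) (by simp)).1 inferInstance (x ≫ (Pi.π K n).f m)
        (by rw [Category.assoc, (Pi.π K n).comm, reassoc_of% hx, zero_comp])
        (y ≫ (Pi.π L n).f (m - 1))
        (by rw [Category.assoc, ← hπ, reassoc_of% hy, Category.assoc, (Pi.π L n).comm])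
    choose U π hπ' z hz using hd
    obtain ⟨T', ρ, σ, hρ, hσ⟩ := exists_common_refinement π hπ'
    refine ⟨T', ρ, hρ, HProd.liftX K fun n => σ n ≫ z n, HProd.hom_ext_f' K fun n => ?_⟩
    rw [Category.assoc, Category.assoc, ← (Pi.π K n).comm, ← Category.assoc (HProd.liftX K _),
      HProd.liftX_π, Category.assoc, ← hz, ← Category.assoc (σ n), hσ]
  have he : Epi (HomologicalComplex.homologyMap (Limits.Pi.map s) m) := by
    rw [HomologicalComplex.epi_homologyMap_iff_up_to_refinements _ (m - 1) m (m + 1) (by simp)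
      (by simp)]
    intro T y hy
    have hd : ∀ n, ∃ (U : B) (π : U ⟶ T) (_ : Epi π) (x : U ⟶ (K n).X m)
        (_ : x ≫ (K n).d m (m + 1) = 0) (z : U ⟶ (L n).X (m - 1)),
        π ≫ y ≫ (Pi.π L n).f m = x ≫ (s n).f m + z ≫ (L n).d (m - 1) m := fun n =>
      (HomologicalComplex.epi_homologyMap_iff_up_to_refinements (s n) (m - 1) m (m + 1)
        (by simp) (by simp)).1 inferInstance (y ≫ (Pi.π L n).f m)
        (by rw [Category.assoc, (Pi.π L n).comm, reassoc_of% hy, zero_comp])
    choose U π hπ' x hx z hz using hd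
    obtain ⟨T', ρ, σ, hρ, hσ⟩ := exists_common_refinement π hπ'
    refine ⟨T', ρ, hρ, HProd.liftX K fun n => σ n ≫ x n, HProd.hom_ext_f' K fun n => ?_,
      HProd.liftX L fun n => σ n ≫ z n, HProd.hom_ext_f' L fun n => ?_⟩
    · rw [Category.assoc, ← (Pi.π K n).comm, ← Category.assoc (HProd.liftX K _), HProd.liftX_π,
        Category.assoc, hx, comp_zero, zero_comp]
    · rw [Preadditive.add_comp, Category.assoc, Category.assoc, Category.assoc, hπ,
        ← (Pi.π L n).comm, ← Category.assoc (HProd.liftX K _), ← Category.assoc (HProd.liftX L _),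
        HProd.liftX_π, HProd.liftX_π, Category.assoc, Category.assoc, ← Preadditive.comp_add,
        ← hz, ← Category.assoc (σ n), hσ]
  exact isIso_of_mono_of_epi _

variable [HasDerivedCategory.{w'} B]

/-- Products of complexes are products in the derived category. -/
theorem bijective_lift (X : CochainComplex B ℤ) (Y : ℕ → CochainComplex B ℤ) :
    Function.Bijective fun (f : DerivedCategory.Q.obj X ⟶ DerivedCategory.Q.obj (∏ᶜ Y)) n =>
      f ≫ DerivedCategory.Q.map (Pi.π Y n) := by
  refine ⟨fun f f' h => ?_, fun f => ?_⟩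
  · rw [← sub_eq_zero]
    have h0 : ∀ n, (f - f') ≫ DerivedCategory.Q.map (Pi.π Y n) = 0 := fun n => by
      rw [Preadditive.sub_comp, sub_eq_zero]
      exact congrFun h n
    generalize f - f' = g at h0 ⊢
    obtain ⟨X', t, ht, g, rfl⟩ := DerivedCategory.right_fac g
    suffices DerivedCategory.Q.map g = 0 by rw [this, comp_zero]
    have hd : ∀ n, ∃ (Y' : CochainComplex B ℤ) (r : Y n ⟶ Y') (_ : QuasiIso r),
        Nonempty (Homotopy (g ≫ Pi.π Y n ≫ r) 0) := fun n => by
      have e : DerivedCategory.Q.map (g ≫ Pi.π Y n) = 0 := by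
        rw [DerivedCategory.Q.map_comp, ← cancel_epi (inv (DerivedCategory.Q.map t)), comp_zero]
        simpa using h0 n
      have e' : DerivedCategory.Qh.map
          ((HomotopyCategory.quotient B (ComplexShape.up ℤ)).map (g ≫ Pi.π Y n)) =
          DerivedCategory.Qh.map 0 := by
        rw [Functor.map_zero]
        exact e
      obtain ⟨Z, r, hr, hr'⟩ := (MorphismProperty.map_eq_iff_postcomp DerivedCategory.Qh
        (HomotopyCategory.quasiIso B (ComplexShape.up ℤ)) _ _).1 e'
      obtain ⟨Z, rfl⟩ := HomotopyCategory.quotient_obj_surjective Z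
      obtain ⟨r, rfl⟩ := (HomotopyCategory.quotient _ _).map_surjective r
      rw [HomotopyCategory.quotient_map_mem_quasiIso_iff,
        HomologicalComplex.mem_quasiIso_iff] at hr
      refine ⟨Z, r, hr, ⟨HomotopyCategory.homotopyOfEq _ _ ?_⟩⟩
      rw [zero_comp, ← Functor.map_comp, Category.assoc] at hr'
      rw [hr', Functor.map_zero]
    choose Y' r hr hh using hd
    have hq := quasiIso_piMap r hr
    have h2 : Homotopy (g ≫ Limits.Pi.map r) 0 := HProd.homotopyLift Y' _ _ fun n =>
      (Homotopy.ofEq (by simp)).trans ((hh n).some.trans (Homotopy.ofEq zero_comp.symm))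
    have e1 : DerivedCategory.Q.map (g ≫ Limits.Pi.map r) = 0 := by
      change DerivedCategory.Qh.map ((HomotopyCategory.quotient B _).map (g ≫ Limits.Pi.map r)) = 0
      rw [HomotopyCategory.eq_of_homotopy _ _ h2, Functor.map_zero, Functor.map_zero]
    have : IsIso (DerivedCategory.Q.map (Limits.Pi.map r)) :=
      (DerivedCategory.isIso_Q_map_iff_quasiIso _ _).2 hq
    rw [DerivedCategory.Q.map_comp] at e1
    rwa [← cancel_mono (DerivedCategory.Q.map (Limits.Pi.map r)), zero_comp]
  · choose Y' g r hr hf using fun n => DerivedCategory.left_fac (f n)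
    have hq := quasiIso_piMap r fun n => (DerivedCategory.isIso_Q_map_iff_quasiIso _ _).1 (hr n)
    have : IsIso (DerivedCategory.Q.map (Limits.Pi.map r)) :=
      (DerivedCategory.isIso_Q_map_iff_quasiIso _ _).2 hq
    refine ⟨DerivedCategory.Q.map (Pi.lift g) ≫ inv (DerivedCategory.Q.map (Limits.Pi.map r)),
      funext fun n => ?_⟩
    have := hr n
    simp only [hf n, Category.assoc, IsIso.inv_comp_eq]
    rw [← cancel_mono (DerivedCategory.Q.map (r n))]
    simp only [Category.assoc]
    rw [IsIso.inv_hom_id, Category.comp_id, ← DerivedCategory.Q.map_comp, ← Pi.map_π,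
      DerivedCategory.Q.map_comp, IsIso.inv_hom_id_assoc, ← DerivedCategory.Q.map_comp,
      Pi.lift_π]

/-- The fan of a product of complexes is a limit in the derived category. -/
noncomputable def isLimitFanQ (Y : ℕ → CochainComplex B ℤ) : IsLimit
    (Fan.mk (DerivedCategory.Q.obj (∏ᶜ Y)) fun n => DerivedCategory.Q.map (Pi.π Y n)) :=
  Fan.IsLimit.mk _
    (fun s => (DerivedCategory.Q.objObjPreimageIso s.pt).inv ≫
      Function.surjInv (bijective_lift _ Y).2
        (fun n => (DerivedCategory.Q.objObjPreimageIso s.pt).hom ≫ s.proj n))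
    (fun s n => by
      rw [fan_mk_proj, Category.assoc]
      erw [congrFun (Function.surjInv_eq (bijective_lift _ Y).2
        (fun n => (DerivedCategory.Q.objObjPreimageIso s.pt).hom ≫ s.proj n)) n]
      simp)
    (fun s m hm => by
      rw [← cancel_epi (DerivedCategory.Q.objObjPreimageIso s.pt).hom, Iso.hom_inv_id_assoc]
      apply (bijective_lift _ Y).1
      refine Eq.trans ?_ (Function.surjInv_eq (bijective_lift _ Y).2 _).symm
      funext n
      simp [← hm n])

end Exact

section Derived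

variable {A : Type u} [Category.{v} A] [Abelian A] [HasDerivedCategory.{w} A]
  {B : Type u'} [Category.{v'} B] [Abelian B] [HasDerivedCategory.{w'} B]
  [HasLimitsOfShape (Discrete ℕ) A]
  [HasLimitsOfShape (Discrete ℕ) B] [(lim : (Discrete ℕ ⥤ B) ⥤ B).PreservesEpimorphisms]
  (F : A ⥤ B) [F.Additive] [PreservesLimitsOfShape (Discrete ℕ) F]

theorem preservesLimitsOfShape_mapHomotopy_Qh :
    PreservesLimitsOfShape (Discrete ℕ)
      (F.mapHomotopyCategory (ComplexShape.up ℤ) ⋙ DerivedCategory.Qh) := by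
  have hC : PreservesLimitsOfShape (Discrete ℕ) (F.mapHomologicalComplex (ComplexShape.up ℤ)) :=
    HomologicalComplex.preservesLimitsOfShape_of_eval _ fun i =>
      inferInstanceAs (PreservesLimitsOfShape (Discrete ℕ)
        (HomologicalComplex.eval A (ComplexShape.up ℤ) i ⋙ F))
  suffices key : ∀ K : ℕ → CochainComplex A ℤ, PreservesLimit
      (Discrete.functor fun n => (HomotopyCategory.quotient A (ComplexShape.up ℤ)).obj (K n))
      (F.mapHomotopyCategory (ComplexShape.up ℤ) ⋙ DerivedCategory.Qh) from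
    ⟨fun {G} => have := key fun n => (G.obj ⟨n⟩).as
      preservesLimit_of_iso_diagram (K₁ := Discrete.functor fun n =>
        (HomotopyCategory.quotient A (ComplexShape.up ℤ)).obj (G.obj ⟨n⟩).as) _
        (Discrete.natIso fun j => Iso.refl _)⟩
  intro K
  refine preservesLimit_of_preserves_limit_cone (HProd.isLimitFan K)
    ((isLimitMapConeFanMkEquiv _ _ _).symm ?_)
  let K' : ℕ → CochainComplex B ℤ := fun n =>
    (F.mapHomologicalComplex (ComplexShape.up ℤ)).obj (K n)
  let e : DerivedCategory.Q.obj ((F.mapHomologicalComplex (ComplexShape.up ℤ)).obj (∏ᶜ K)) ≅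
      DerivedCategory.Q.obj (∏ᶜ K') :=
    DerivedCategory.Q.mapIso (PreservesProduct.iso _ K)
  refine (isLimitFanQ K').ofIsoLimit (Fan.ext e.symm fun n => ?_)
  change DerivedCategory.Q.map (Pi.π K' n) = DerivedCategory.Q.map (PreservesProduct.iso _ K).inv ≫
    DerivedCategory.Q.map ((F.mapHomologicalComplex (ComplexShape.up ℤ)).map (Pi.π K n))
  rw [← Functor.map_comp]
  congr 1
  rw [Iso.eq_inv_comp, PreservesProduct.iso_hom, piComparison_comp_π]

open Groth.Agent.Lib.DerivedOX.RightDerived

variable [(DerivedCategory.Qh (C := A)).IsLeftAdjoint]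
  [(F.mapHomotopyCategory (ComplexShape.up ℤ) ⋙ DerivedCategory.Qh).HasRightDerivedFunctor
      (HomotopyCategory.quasiIso A (ComplexShape.up ℤ))]

/-- The right derived functor. -/
noncomputable abbrev RF : DerivedCategory A ⥤ DerivedCategory B :=
  (F.mapHomotopyCategory (ComplexShape.up ℤ) ⋙ DerivedCategory.Qh).totalRightDerived
    DerivedCategory.Qh (HomotopyCategory.quasiIso A (ComplexShape.up ℤ))

theorem isRlim_RF (K : ℕ → DerivedCategory A) (t : ∀ n, K (n + 1) ⟶ K n) (L : DerivedCategory A)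
    [HasProduct K] [HasProduct fun n => (RF F).obj (K n)] (hL : DCoh.IsRlim K t L) :
    DCoh.IsRlim (fun n => (RF F).obj (K n)) (fun n => (RF F).map (t n)) ((RF F).obj L) := by
  obtain ⟨a, c, hT⟩ := hL
  let i := totalRightDerivedIso (F.mapHomotopyCategory (ComplexShape.up ℤ) ⋙ DerivedCategory.Qh)
  letI : (resFunctor A).CommShift ℤ := (resAdj A).rightAdjointCommShift ℤ
  haveI : (resAdj A).CommShift ℤ := (resAdj A).commShift_of_leftAdjoint ℤ
  haveI : (resFunctor A).IsTriangulated := (resAdj A).isTriangulated_rightAdjoint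
  letI : (RF F).CommShift ℤ := Functor.CommShift.ofIso i ℤ
  haveI : (RF F).IsTriangulated :=
    haveI : NatTrans.CommShift i.hom ℤ := Functor.CommShift.ofIso_compatibility i ℤ
    Functor.isTriangulated_of_iso i
  haveI : PreservesLimitsOfShape (Discrete ℕ) (RF F) := by
    haveI := preservesLimitsOfShape_mapHomotopy_Qh F
    haveI : (resFunctor A).IsRightAdjoint := ⟨_, ⟨resAdj A⟩⟩
    exact preservesLimitsOfShape_of_natIso i
  let R := RF F
  let e : R.obj (∏ᶜ K) ≅ ∏ᶜ fun n => R.obj (K n) := PreservesProduct.iso R K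
  refine ⟨R.map a ≫ e.hom, e.inv ≫ R.map c ≫ (R.commShiftIso (1 : ℤ)).hom.app L,
    isomorphic_distinguished _ (R.map_distinguished _ hT) _ ?_⟩
  refine Triangle.isoMk _ _ (Iso.refl _) e.symm e.symm ?_ ?_ ?_
  · change (R.map a ≫ e.hom) ≫ e.inv = 𝟙 (R.obj L) ≫ R.map a
    simp
  · change Pi.lift _ ≫ e.inv = e.inv ≫ R.map _
    refine (Iso.comp_inv_eq e).2 (Pi.hom_ext _ _ fun n => ?_)
    have hπ : ∀ m, (PreservesProduct.iso R K).inv ≫ R.map (Pi.π K m) =
        Pi.π (fun m => R.obj (K m)) m := fun m => by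
      rw [Iso.inv_comp_eq, PreservesProduct.iso_hom, piComparison_comp_π]
    simp [e, R, Functor.map_sub, hπ, reassoc_of% hπ]
  · change (e.inv ≫ R.map c ≫ (R.commShiftIso (1 : ℤ)).hom.app L) ≫ (𝟙 (R.obj L))⟦(1 : ℤ)⟧' = _
    simp
    rfl

end Derived

end Groth.Agent.Lib.DerCat.RlimRF
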