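import Groth.Agent.Lib.DerCat.DerAdj
import Mathlib.CategoryTheory.Abelian.SerreClass.Localization
import Mathlib.CategoryTheory.Localization.Composition
import Mathlib.CategoryTheory.Localization.Adjunction
import Mathlib.CategoryTheory.Adjunction.Additive
import Mathlib.Algebra.Homology.DerivedCategory.Fractions
import Mathlib.Algebra.Homology.DerivedCategory.TStructure

/-!
# The derived category of a Serre quotient with a section
-/

universe w w' v v' u u'

open CategoryTheory CategoryTheory.Limits CategoryTheory.Pretriangulated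

namespace Groth.Agent.Lib.DerCat.SerreQuot

variable {A : Type u} [Category.{v} A] [Abelian A] [HasDerivedCategory.{w} A]

/-- An object of the derived category with vanishing cohomology is zero. -/
lemma isZero_iff_homology (X : DerivedCategory A) :
    IsZero X ↔ ∀ n : ℤ, IsZero ((DerivedCategory.homologyFunctor A n).obj X) := by
  refine ⟨fun h n => Functor.map_isZero _ h, fun h => ?_⟩
  have : X.IsLE (-1) := (X.isLE_iff _).2 fun i _ => h i
  have : X.IsGE 0 := (X.isGE_iff _).2 fun i _ => h i
  exact DerivedCategory.TStructure.t.isZero X (-1) 0 (by norm_num)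

variable (P : ObjectProperty A) [P.IsSerreClass]
  {Q : Type u'} [Category.{v'} Q] [Abelian Q] [HasDerivedCategory.{w'} Q]
  (L : A ⥤ Q) [L.IsLocalization P.isoModSerre] [L.Additive] [PreservesFiniteLimits L]
  [PreservesFiniteColimits L]

lemma isZero_map_iff (X : DerivedCategory A) :
    IsZero (L.mapDerivedCategory.obj X) ↔
      ∀ n : ℤ, P ((DerivedCategory.homologyFunctor A n).obj X) := by
  rw [isZero_iff_homology]
  refine forall_congr' fun n => ?_
  let K := DerivedCategory.Q.objPreimage X
  let e : DerivedCategory.Q.obj K ≅ X := DerivedCategory.Q.objObjPreimageIso X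
  rw [← Iso.isZero_iff ((DerivedCategory.homologyFunctor Q n).mapIso
      ((L.mapDerivedCategory).mapIso e)),
    ← P.prop_iff_of_iso ((DerivedCategory.homologyFunctor A n).mapIso e)]
  refine (Iso.isZero_iff ((DerivedCategory.homologyFunctor Q n).mapIso
      (L.mapDerivedCategoryFactors.app K) ≪≫
        (DerivedCategory.homologyFunctorFactors Q n).app _)).trans ?_
  refine Iff.trans ?_ (P.prop_iff_of_iso ((DerivedCategory.homologyFunctorFactors A n).app K)).symm
  refine Iff.trans ?_ (ObjectProperty.SerreClassLocalization.isZero_obj_iff L P _)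
  exact Iso.isZero_iff ((K.sc n).mapHomologyIso L)

lemma trW_iff_isIso {X Y : DerivedCategory A} (f : X ⟶ Y) :
    ObjectProperty.trW (fun X : DerivedCategory A =>
      ∀ n : ℤ, P ((DerivedCategory.homologyFunctor A n).obj X)) f ↔
      IsIso (L.mapDerivedCategory.map f) := by
  constructor
  · rintro ⟨Z, g, h, hT, hZ⟩
    exact (Triangle.isZero₃_iff_isIso₁ _ (L.mapDerivedCategory.map_distinguished _ hT)).1
      ((isZero_map_iff P L Z).2 hZ)
  · intro hf
    obtain ⟨Z, g, h, hT⟩ := distinguished_cocone_triangle f
    exact ⟨Z, g, h, hT, (isZero_map_iff P L Z).1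
      ((Triangle.isZero₃_iff_isIso₁ _ (L.mapDerivedCategory.map_distinguished _ hT)).2 hf)⟩

theorem isLocalization_of_section (u : Q ⥤ A) (adj : u ⊣ L) [IsIso adj.unit] :
    L.mapDerivedCategory.IsLocalization
      (ObjectProperty.trW (fun X : DerivedCategory A =>
        ∀ n : ℤ, P ((DerivedCategory.homologyFunctor A n).obj X))) := by
  have : u.Additive := adj.left_adjoint_additive
  let c := ComplexShape.up ℤ
  let adjC := DerAdj.adjC adj c
  have : IsIso adjC.unit := by
    have : ∀ K, IsIso (adjC.unit.app K) := fun K => by
      have : ∀ n, IsIso ((adjC.unit.app K).f n) := fun n =>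
        inferInstanceAs (IsIso (adj.unit.app (K.X n)))
      exact HomologicalComplex.Hom.isIso_of_components _
    exact NatIso.isIso_of_isIso_app _
  have : (u.mapHomologicalComplex c).Full := adjC.fullyFaithfulLOfIsIsoUnit.full
  have : (u.mapHomologicalComplex c).Faithful := adjC.fullyFaithfulLOfIsIsoUnit.faithful
  have := adjC.isLocalization'
  let W : MorphismProperty (CochainComplex A ℤ) :=
    (HomologicalComplex.quasiIso Q c).inverseImage (L.mapHomologicalComplex c)
  have h1 : ((L.mapHomologicalComplex c) ⋙ DerivedCategory.Q).IsLocalization W := by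
    refine Functor.IsLocalization.comp (L.mapHomologicalComplex c) DerivedCategory.Q
      ((MorphismProperty.isomorphisms _).inverseImage (L.mapHomologicalComplex c))
      (HomologicalComplex.quasiIso Q c) W
      (fun K K' f hf => Localization.inverts DerivedCategory.Q (HomologicalComplex.quasiIso Q c) _ hf)
      ?_ ?_
    · intro K K' f (hf : IsIso _)
      exact (HomologicalComplex.mem_quasiIso_iff _).2 inferInstance
    · intro K K' f hf
      have e : Arrow.mk ((L.mapHomologicalComplex c).map ((u.mapHomologicalComplex c).map f)) ≅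
          Arrow.mk f :=
        Arrow.isoMk (asIso (adjC.unit.app K)).symm (asIso (adjC.unit.app K')).symm (by
          dsimp
          rw [IsIso.inv_comp_eq, ← Category.assoc, IsIso.eq_comp_inv]
          exact adjC.unit.naturality f)
      exact ⟨_, _, (u.mapHomologicalComplex c).map f,
        ((HomologicalComplex.quasiIso Q c).arrow_mk_iso_iff e).2 hf, ⟨e⟩⟩
  have h2 : (DerivedCategory.Q ⋙ L.mapDerivedCategory).IsLocalization W :=
    Functor.IsLocalization.of_iso W L.mapDerivedCategoryFactors.symm
  refine Functor.IsLocalization.of_comp DerivedCategory.Q L.mapDerivedCategory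
    (HomologicalComplex.quasiIso A c) _ W ?_ ?_
  · intro K K' f hf
    rw [HomologicalComplex.mem_quasiIso_iff] at hf
    exact (HomologicalComplex.mem_quasiIso_iff _).2 inferInstance
  · ext X Y f
    refine (trW_iff_isIso P L f).trans ?_
    have key : ∀ {K K' : CochainComplex A ℤ} (g : K ⟶ K'),
        IsIso (L.mapDerivedCategory.map (DerivedCategory.Q.map g)) ↔ W g := fun g =>
      (NatIso.isIso_map_iff L.mapDerivedCategoryFactors g).trans
        ((DerivedCategory.isIso_Q_map_iff_quasiIso Q _).trans
          (HomologicalComplex.mem_quasiIso_iff _).symm)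
    constructor
    · intro hf
      let eX := DerivedCategory.Q.objObjPreimageIso X
      let eY := DerivedCategory.Q.objObjPreimageIso Y
      obtain ⟨K, s, hs, g, hg⟩ := DerivedCategory.right_fac (eX.hom ≫ f ≫ eY.inv)
      have e : Arrow.mk (DerivedCategory.Q.map g) ≅ Arrow.mk f :=
        Arrow.isoMk (asIso (DerivedCategory.Q.map s) ≪≫ eX) eY (by
          dsimp
          rw [← cancel_mono eY.inv]
          simp [hg])
      refine ⟨_, _, g, (key g).1 ?_, ⟨e⟩⟩
      exact ((MorphismProperty.isomorphisms _).arrow_mk_iso_iff
        (L.mapDerivedCategory.mapArrow.mapIso e)).2 hf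
    · rintro ⟨K, K', g, hg, ⟨e⟩⟩
      exact ((MorphismProperty.isomorphisms _).arrow_mk_iso_iff
        (L.mapDerivedCategory.mapArrow.mapIso e)).1 ((key g).2 hg)

end Groth.Agent.Lib.DerCat.SerreQuot
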