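import Groth.Agent.Lib.SiteKFlat.RelResInt
import Groth.Agent.Lib.DerCat.SubRes

/-!
# Special systems of resolutions of the truncations of a complex
-/

universe v u

open CategoryTheory CategoryTheory.Limits HomologicalComplex ZeroObject

namespace Groth.Agent.Lib.DerCat.SpecialSystem

open Groth.Agent.Lib.SiteKFlat Groth.Agent.Lib.DerCat.SubRes

variable {A : Type u} [Category.{v} A] [Abelian A]

lemma isZero_zero_X (i : ℤ) : IsZero ((0 : CochainComplex A ℤ).X i) :=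
  (HomologicalComplex.eval _ _ i).map_isZero (isZero_zero _)

/-- Cokernel of the inclusion of a summand. -/
noncomputable def cokernelInlIso {X Y Z : A} (f : X ⟶ Z) (e : Z ≅ X ⊞ Y)
    (he : f ≫ e.hom = biprod.inl) : cokernel f ≅ Y where
  hom := cokernel.desc f (e.hom ≫ biprod.snd) (by rw [reassoc_of% he, biprod.inl_snd])
  inv := biprod.inr ≫ e.inv ≫ cokernel.π f
  hom_inv_id := by
    have h : biprod.inl ≫ e.inv ≫ cokernel.π f = 0 := by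
      rw [← he, Category.assoc, Iso.hom_inv_id_assoc, cokernel.condition]
    rw [← cancel_epi (cokernel.π f), cokernel.π_desc_assoc, Category.comp_id, Category.assoc]
    rw [← cancel_epi e.inv, Iso.inv_hom_id_assoc]
    apply biprod.hom_ext' <;> simp [h]
  inv_hom_id := by simp

section Left

variable (P : ObjectProperty A) [P.IsClosedUnderIsomorphisms]

/-- Special direct systems of left resolutions of the canonical truncations. -/
theorem exists_left_system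
    (hP0 : ∃ Z : A, IsZero Z ∧ P Z) (hPsum : ∀ X Y : A, P X → P Y → P (X ⊞ Y))
    (hP : ∀ X : A, ∃ (Y : A) (π : Y ⟶ X), P Y ∧ Epi π) (K : CochainComplex A ℤ) :
    ∃ (Q : ℕ → CochainComplex A ℤ) (ι : ∀ n, Q n ⟶ Q (n + 1))
      (π : ∀ n : ℕ, Q n ⟶ K.truncLE (n : ℤ)),
      (∀ n, QuasiIso (π n) ∧ ∀ i, Epi ((π n).f i)) ∧
      (∀ n, ∃ b : ℤ, (Q n).IsStrictlyLE b) ∧ (∀ n i, P ((Q n).X i)) ∧
      (∀ n i, (∃ r : (Q (n + 1)).X i ⟶ (Q n).X i, (ι n).f i ≫ r = 𝟙 _) ∧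
        P (cokernel ((ι n).f i))) ∧
      (∀ n : ℕ, π n ≫ K.ιTruncLE (n : ℤ) =
        ι n ≫ π (n + 1) ≫ K.ιTruncLE ((n + 1 : ℕ) : ℤ)) := by
  obtain ⟨Z₀, hZ₀, hPZ₀⟩ := hP0
  have hzero : ∀ Z, IsZero Z → P Z := fun Z hZ => P.prop_of_iso (hZ₀.iso hZ) hPZ₀
  let St := fun n : ℕ => Σ' (N : CochainComplex A ℤ) (p : N ⟶ K.truncLE (n : ℤ)),
    N.IsStrictlyLE (n : ℤ) ∧ QuasiIso p ∧ (∀ i, Epi (p.f i)) ∧ ∀ i, P (N.X i)
  have : (0 : CochainComplex A ℤ).IsStrictlyLE ((0 : ℕ) : ℤ) :=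
    (CochainComplex.isStrictlyLE_iff _ _).2 fun i _ => isZero_zero_X i
  obtain ⟨N₀, i₀, c₀, h₀, -, hq₀, he₀, hf₀⟩ := RelResInt.exists_rel P hzero hP ((0 : ℕ) : ℤ)
    (0 : (0 : CochainComplex A ℤ) ⟶ K.truncLE ((0 : ℕ) : ℤ))
  have hP₀ : ∀ i, P (N₀.X i) := fun i => by
    obtain ⟨F, hF, e, -⟩ := hf₀ i
    exact P.prop_of_iso e.symm (hPsum _ _ (hzero _ (isZero_zero_X i)) hF)
  have step : ∀ (n : ℕ) (s : St n), ∃ (t : St (n + 1)) (i : s.1 ⟶ t.1),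
      s.2.1 ≫ K.ιTruncLE (n : ℤ) = i ≫ t.2.1 ≫ K.ιTruncLE ((n + 1 : ℕ) : ℤ) ∧
      ∀ j, (∃ r : t.1.X j ⟶ s.1.X j, i.f j ≫ r = 𝟙 _) ∧ P (cokernel (i.f j)) := by
    rintro n ⟨N, p, hN, hp, he, hPN⟩
    haveI := hN
    haveI : N.IsStrictlyLE ((n + 1 : ℕ) : ℤ) := N.isStrictlyLE_of_le (n : ℤ) _ (by omega)
    obtain ⟨N', i, c, h₁, h₂, h₃, h₄, h₅⟩ := RelResInt.exists_rel P hzero hP ((n + 1 : ℕ) : ℤ)
      (inv (N.ιTruncLE ((n + 1 : ℕ) : ℤ)) ≫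
        CochainComplex.truncLEMap (p ≫ K.ιTruncLE (n : ℤ)) ((n + 1 : ℕ) : ℤ))
    refine ⟨⟨N', c, h₁, h₃, h₄, fun j => ?_⟩, i, ?_, fun j => ?_⟩
    · obtain ⟨F, hF, e, -⟩ := h₅ j
      exact P.prop_of_iso e.symm (hPsum _ _ (hPN j) hF)
    · dsimp only
      rw [reassoc_of% h₂, CochainComplex.ιTruncLE_naturality, IsIso.inv_hom_id_assoc]
    · obtain ⟨F, hF, e, he'⟩ := h₅ j
      exact ⟨⟨e.hom ≫ biprod.fst, by rw [reassoc_of% he', biprod.inl_fst]⟩,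
        P.prop_of_iso (cokernelInlIso _ e he').symm hF⟩
  choose t i hi hF using step
  let s : ∀ n, St n := fun n => Nat.rec (motive := St) ⟨N₀, c₀, h₀, hq₀, he₀, hP₀⟩ t n
  exact ⟨fun n => (s n).1, fun n => i n (s n), fun n => (s n).2.1,
    fun n => ⟨(s n).2.2.2.1, (s n).2.2.2.2.1⟩, fun n => ⟨_, (s n).2.2.1⟩,
    fun n => (s n).2.2.2.2.2, fun n => hF n (s n), fun n => hi n (s n)⟩

end Left

section Right

variable (I : ObjectProperty A) [I.IsClosedUnderIsomorphisms]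

lemma prop_of_split {X Y : A} (hIprod : ∀ X Y : A, I X → I Y → I (X ⊞ Y)) (p : Y ⟶ X) (s : X ⟶ Y)
    (hs : s ≫ p = 𝟙 X) (hX : I X) (hk : I (kernel p)) : I Y := by
  refine I.prop_of_iso (Iso.symm ?_) (hIprod _ _ hX hk)
  exact
    { hom := biprod.lift p (kernel.lift p (𝟙 _ - p ≫ s) (by simp [hs]))
      inv := biprod.desc s (kernel.ι p)
      hom_inv_id := by simp [biprod.lift_desc]
      inv_hom_id := by
        apply biprod.hom_ext' <;> apply biprod.hom_ext <;> simp [hs]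
        all_goals rw [← cancel_mono (kernel.ι p)]; simp [reassoc_of% hs] }

include I in
/-- The dual relative resolution. -/
theorem exists_rel_right (hzero : ∀ Z, IsZero Z → I Z)
    (hI : ∀ X : A, ∃ (Y : A) (ι : X ⟶ Y), I Y ∧ Mono ι) (a : ℤ) {P G : CochainComplex A ℤ}
    [P.IsStrictlyGE a] [G.IsStrictlyGE a] (f : G ⟶ P) :
    ∃ (N : CochainComplex A ℤ) (c : G ⟶ N) (p : N ⟶ P), N.IsStrictlyGE a ∧ c ≫ p = f ∧
      QuasiIso c ∧ (∀ j, Mono (c.f j)) ∧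
      ∀ j, (∃ s : P.X j ⟶ N.X j, s ≫ p.f j = 𝟙 _) ∧ I (kernel (p.f j)) := by
  let E := CochainComplex.opEquivalence A
  have hle : ∀ (M : CochainComplex A ℤ) [M.IsStrictlyGE a],
      (E.functor.obj (Opposite.op M)).IsStrictlyLE (-a) := fun M _ =>
    (CochainComplex.isStrictlyLE_iff _ _).2 fun i hi =>
      (M.isZero_of_isStrictlyGE a (-i) (by lia)).op
  have := hle P
  have := hle G
  obtain ⟨N, i, c, hN, hic, hq, he, hf⟩ := RelResInt.exists_rel (fun X : Aᵒᵖ => I X.unop)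
    (fun Z hZ => hzero _ hZ.unop)
    (fun X => by
      obtain ⟨Y, π, hY, hπ⟩ := hI X.unop
      exact ⟨Opposite.op Y, π.op, hY, inferInstance⟩) (-a) (E.functor.map f.op)
  let ε := E.counitIso.app N
  obtain ⟨p, hp⟩ : ∃ p : (E.inverse.obj N).unop ⟶ P, E.functor.map p.op = i ≫ ε.inv :=
    ⟨(E.functor.preimage (i ≫ ε.inv)).unop, E.functor.map_preimage (i ≫ ε.inv)⟩
  obtain ⟨d, hd⟩ : ∃ d : G ⟶ (E.inverse.obj N).unop, E.functor.map d.op = ε.hom ≫ c :=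
    ⟨(E.functor.preimage (ε.hom ≫ c)).unop, E.functor.map_preimage (ε.hom ≫ c)⟩
  refine ⟨(E.inverse.obj N).unop, d, p, (CochainComplex.isStrictlyGE_iff _ _).2 fun j hj => ?_,
    ?_, ?_, fun j => ?_, fun j => ?_⟩
  · exact (CochainComplex.isZero_of_isStrictlyLE N (-a) (-j) (by lia)).unop
  · apply Quiver.Hom.op_inj
    apply E.functor.map_injective
    rw [op_comp, E.functor.map_comp, hp, hd, Category.assoc, Iso.inv_hom_id_assoc, hic]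
  · rw [← quasiIso_Φ_iff]
    change QuasiIso (E.functor.map d.op)
    rw [hd]
    infer_instance
  · obtain ⟨m, rfl⟩ : ∃ m, j = -m := ⟨-j, (neg_neg j).symm⟩
    have h1 : (E.functor.map d.op).f m = ε.hom.f m ≫ c.f m := by rw [hd]; rfl
    have := he m
    have : IsIso (ε.hom.f m) :=
      inferInstanceAs (IsIso ((HomologicalComplex.eval _ _ m).map ε.hom))
    have h2 : Epi ((E.functor.map d.op).f m) := by rw [h1]; exact epi_comp _ _
    have h3 : Epi (d.f (-m)).op := h2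
    exact unop_mono_of_epi (d.f (-m)).op
  · obtain ⟨m, rfl⟩ : ∃ m, j = -m := ⟨-j, (neg_neg j).symm⟩
    obtain ⟨F, hF, e, he'⟩ := hf m
    have h1 : (E.functor.map p.op).f m = i.f m ≫ ε.inv.f m := by rw [hp]; rfl
    let e' : (E.functor.obj (Opposite.op (E.inverse.obj N).unop)).X m ≅
        (E.functor.obj (Opposite.op P)).X m ⊞ F :=
      (HomologicalComplex.eval _ _ m).mapIso ε ≪≫ e
    have he'' : (E.functor.map p.op).f m ≫ e'.hom = biprod.inl := by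
      rw [h1, Category.assoc]
      change i.f m ≫ ε.inv.f m ≫ ε.hom.f m ≫ e.hom = _
      have hz : ε.inv.f m ≫ ε.hom.f m = 𝟙 (N.X m) := by
        rw [← HomologicalComplex.comp_f, Iso.inv_hom_id]
        rfl
      rw [reassoc_of% hz, he']
    refine ⟨⟨(e'.hom ≫ biprod.fst).unop, ?_⟩, ?_⟩
    · refine Quiver.Hom.op_inj ?_
      change (E.functor.map p.op).f m ≫ e'.hom ≫ biprod.fst = 𝟙 _
      rw [reassoc_of% he'', biprod.inl_fst]
    · have k : cokernel (p.f (-m)).op ≅ F := cokernelInlIso _ e' he''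
      exact I.prop_of_iso (k.unop ≪≫ cokernelOpUnop (p.f (-m))) hF

/-- Special inverse systems of right resolutions of the canonical truncations. -/
theorem exists_right_system
    (hI0 : ∃ Z : A, IsZero Z ∧ I Z) (hIprod : ∀ X Y : A, I X → I Y → I (X ⊞ Y))
    (hI : ∀ X : A, ∃ (Y : A) (ι : X ⟶ Y), I Y ∧ Mono ι) (K : CochainComplex A ℤ) :
    ∃ (Q : ℕ → CochainComplex A ℤ) (p : ∀ n, Q (n + 1) ⟶ Q n)
      (π : ∀ n : ℕ, K.truncGE (-(n : ℤ)) ⟶ Q n),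
      (∀ n, QuasiIso (π n) ∧ ∀ i, Mono ((π n).f i)) ∧
      (∀ n, ∃ a : ℤ, (Q n).IsStrictlyGE a) ∧ (∀ n i, I ((Q n).X i)) ∧
      (∀ n i, (∃ s : (Q n).X i ⟶ (Q (n + 1)).X i, s ≫ (p n).f i = 𝟙 _) ∧
        I (kernel ((p n).f i))) ∧
      (∀ n : ℕ, K.πTruncGE (-((n + 1 : ℕ) : ℤ)) ≫ π (n + 1) ≫ p n =
        K.πTruncGE (-(n : ℤ)) ≫ π n) := by
  obtain ⟨Z₀, hZ₀, hIZ₀⟩ := hI0
  have hzero : ∀ Z, IsZero Z → I Z := fun Z hZ => I.prop_of_iso (hZ₀.iso hZ) hIZ₀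
  let St := fun n : ℕ => Σ' (N : CochainComplex A ℤ) (c : K.truncGE (-(n : ℤ)) ⟶ N),
    N.IsStrictlyGE (-(n : ℤ)) ∧ QuasiIso c ∧ (∀ i, Mono (c.f i)) ∧ ∀ i, I (N.X i)
  have : (0 : CochainComplex A ℤ).IsStrictlyGE (-((0 : ℕ) : ℤ)) :=
    (CochainComplex.isStrictlyGE_iff _ _).2 fun i _ => isZero_zero_X i
  obtain ⟨N₀, c₀, p₀, h₀, -, hq₀, he₀, hf₀⟩ := exists_rel_right I hzero hI (-((0 : ℕ) : ℤ))
    (0 : K.truncGE (-((0 : ℕ) : ℤ)) ⟶ (0 : CochainComplex A ℤ))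
  have hI₀ : ∀ i, I (N₀.X i) := fun i => by
    obtain ⟨⟨s, hs⟩, hk⟩ := hf₀ i
    exact prop_of_split I hIprod _ s hs (hzero _ (isZero_zero_X i)) hk
  have step : ∀ (n : ℕ) (s : St n), ∃ (t : St (n + 1)) (p : t.1 ⟶ s.1),
      K.πTruncGE (-((n + 1 : ℕ) : ℤ)) ≫ t.2.1 ≫ p = K.πTruncGE (-(n : ℤ)) ≫ s.2.1 ∧
      ∀ j, (∃ σ : s.1.X j ⟶ t.1.X j, σ ≫ p.f j = 𝟙 _) ∧ I (kernel (p.f j)) := by
    rintro n ⟨N, c, hN, hc, he, hIN⟩
    haveI := hN
    haveI : N.IsStrictlyGE (-((n + 1 : ℕ) : ℤ)) := N.isStrictlyGE_of_ge _ (-(n : ℤ)) (by omega)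
    obtain ⟨N', d, p, h₁, h₂, h₃, h₄, h₅⟩ := exists_rel_right I hzero hI (-((n + 1 : ℕ) : ℤ))
      (CochainComplex.truncGEMap (K.πTruncGE (-(n : ℤ)) ≫ c) (-((n + 1 : ℕ) : ℤ)) ≫
        inv (N.πTruncGE (-((n + 1 : ℕ) : ℤ))))
    refine ⟨⟨N', d, h₁, h₃, h₄, fun j => ?_⟩, p, ?_, h₅⟩
    · obtain ⟨⟨s, hs⟩, hk⟩ := h₅ j
      exact prop_of_split I hIprod _ s hs (hIN j) hk
    · dsimp only
      rw [h₂, CochainComplex.πTruncGE_naturality_assoc, IsIso.hom_inv_id, Category.comp_id]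
  choose t p hp hF using step
  let s : ∀ n, St n := fun n => Nat.rec (motive := St) ⟨N₀, c₀, h₀, hq₀, he₀, hI₀⟩ t n
  exact ⟨fun n => (s n).1, fun n => p n (s n), fun n => (s n).2.1,
    fun n => ⟨(s n).2.2.2.1, (s n).2.2.2.2.1⟩, fun n => ⟨_, (s n).2.2.1⟩,
    fun n => (s n).2.2.2.2.2, fun n => hF n (s n), fun n => hp n (s n)⟩

end Right

end Groth.Agent.Lib.DerCat.SpecialSystem
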