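import Groth.Agent.Lib.DerCat.TStruct
import Mathlib.CategoryTheory.Preadditive.AdditiveFunctor
import Mathlib.Data.Int.Interval
import Mathlib.CategoryTheory.Limits.Preserves.Shapes.Biproducts

/-!
# Splitting objects of the derived category with vanishing higher extensions
-/

universe w v u

open CategoryTheory CategoryTheory.Limits CategoryTheory.Pretriangulated DerivedCategory
open DerivedCategory.TStructure

namespace Groth.Agent.Lib.DerCat.Split

set_option backward.isDefEq.respectTransparency false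

variable {A : Type u} [Category.{v} A] [Abelian A] [HasDerivedCategory.{w} A]

/-- Dévissage of a bounded object for vanishing of morphisms into its shift by one. -/
lemma hom_shift_one_eq_zero (X : DerivedCategory A) (a : ℤ) : ∀ (k : ℕ) (Z : DerivedCategory A),
    Z.IsGE a → Z.IsLE (a + k - 1) →
    (∀ j, a ≤ j → j < a + k →
      ∀ g : X ⟶ ((singleFunctor A j).obj ((homologyFunctor A j).obj Z))⟦(1 : ℤ)⟧, g = 0) →
    ∀ f : X ⟶ Z⟦(1 : ℤ)⟧, f = 0 := by
  intro k
  induction k with
  | zero =>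
    intro Z hGE hLE _ f
    have hz : IsZero Z := t.isZero Z (a + (0 : ℕ) - 1) a (by simp)
    exact ((shiftFunctor (DerivedCategory A) (1 : ℤ)).map_isZero hz).eq_of_tgt _ _
  | succ k ih =>
    intro Z hGE hLE hj f
    let b : ℤ := a + k
    let T := (t.triangleLTGE b).obj Z
    have hT : T ∈ distTriang _ := t.triangleLTGE_distinguished b Z
    have h2 : ∀ i, b - 1 < i → IsIso ((homologyFunctor A i).map T.mor₂) := fun i hi =>
      @TStruct.isIso_homologyMap_mor₂ _ _ _ _ _ hT (b - 1)
        (inferInstance : t.IsLE T.obj₁ (b - 1)) i hi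
    have h1 : ∀ i, i < b → IsIso ((homologyFunctor A i).map T.mor₁) := fun i hi =>
      @TStruct.isIso_homologyMap_mor₁ _ _ _ _ _ hT b
        (inferInstance : t.IsGE T.obj₃ b) i hi
    have hz1 : ∀ g : X ⟶ T.obj₁⟦(1 : ℤ)⟧, g = 0 := by
      refine ih T.obj₁ ?_ (t.isLE_truncLT_obj _ _ _ (by omega)) fun i hai hik g => ?_
      · refine (isGE_iff _ _).2 fun i hi => ?_
        have := h1 i (by omega)
        exact (isZero_of_isGE Z a i hi).of_iso (asIso ((homologyFunctor A i).map T.mor₁))
      · have := h1 i hik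
        let e := (shiftFunctor (DerivedCategory A) (1 : ℤ)).mapIso
          ((singleFunctor A i).mapIso (asIso ((homologyFunctor A i).map T.mor₁)))
        exact (cancel_mono e.hom).1 ((hj i hai (by omega) (g ≫ e.hom)).trans zero_comp.symm)
    have hz3 : ∀ g : X ⟶ T.obj₃⟦(1 : ℤ)⟧, g = 0 := by
      intro g
      have : DerivedCategory.IsLE T.obj₃ b := (isLE_iff _ _).2 fun i hi => by
        have := h2 i (by omega)
        exact (isZero_of_isLE Z (a + (k + 1 : ℕ) - 1) i (by omega)).of_iso
          (asIso ((homologyFunctor A i).map T.mor₂)).symm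
      have : DerivedCategory.IsGE T.obj₃ b := (inferInstance : t.IsGE ((t.truncGE b).obj Z) b)
      obtain ⟨M, ⟨e⟩⟩ := exists_iso_singleFunctor_obj_of_isGE_of_isLE T.obj₃ b
      have := h2 b (by omega)
      let e' : T.obj₃⟦(1 : ℤ)⟧ ≅ ((singleFunctor A b).obj ((homologyFunctor A b).obj Z))⟦(1 : ℤ)⟧ :=
        (shiftFunctor (DerivedCategory A) (1 : ℤ)).mapIso (e ≪≫ (singleFunctor A b).mapIso
          ((asIso ((homologyFunctor A b).map T.mor₂) ≪≫ (homologyFunctor A b).mapIso e ≪≫
            (singleFunctorCompHomologyFunctorIso A b).app M).symm))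
      exact (cancel_mono e'.hom).1 ((hj b (by omega) (by omega) (g ≫ e'.hom)).trans zero_comp.symm)
    have hT1 := Triangle.shift_distinguished T hT 1
    obtain ⟨g, hg⟩ := Triangle.coyoneda_exact₂ _ hT1 f (by
      dsimp [Triangle.shiftFunctor]
      simp [hz3 (f ≫ (shiftFunctor (DerivedCategory A) (1 : ℤ)).map T.mor₂)])
    rw [hg, hz1 g]
    simp

/-- Morphisms between shifted single objects, reduced to degree zero. -/
lemma single_hom_eq_zero (M N : A) (i j : ℤ) (p : ℕ) (hp : (p : ℤ) = i - j + 1)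
    (h : ∀ g : (singleFunctor A 0).obj M ⟶ ((singleFunctor A 0).obj N)⟦(p : ℤ)⟧, g = 0)
    (f : (singleFunctor A i).obj M ⟶ ((singleFunctor A j).obj N)⟦(1 : ℤ)⟧) : f = 0 := by
  let eM : ((singleFunctor A 0).obj M)⟦-i⟧ ≅ (singleFunctor A i).obj M :=
    ((singleFunctors A).shiftIso (-i) i 0 (by omega)).app M
  let eN : ((singleFunctor A j).obj N)⟦(1 : ℤ)⟧ ≅ (((singleFunctor A 0).obj N)⟦(p : ℤ)⟧)⟦-i⟧ :=
    (shiftFunctor (DerivedCategory A) (1 : ℤ)).mapIso
      (((singleFunctors A).shiftIso (-j) j 0 (by omega)).app N).symm ≪≫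
      ((shiftFunctorAdd' (DerivedCategory A) (-j) 1 (1 - j) (by omega)).app _).symm ≪≫
      (shiftFunctorAdd' (DerivedCategory A) (p : ℤ) (-i) (1 - j) (by omega)).app _
  obtain ⟨g, hg⟩ := (shiftFunctor (DerivedCategory A) (-i)).map_surjective (eM.hom ≫ f ≫ eN.hom)
  rw [h g, Functor.map_zero] at hg
  rw [← cancel_mono eN.hom, ← cancel_epi eM.hom, ← hg, zero_comp, comp_zero]

variable (K : DerivedCategory A) (a : ℤ) [K.IsGE a]
  (hExt : ∀ (i j : ℤ) (p : ℕ), j < i → 2 ≤ p →
    ∀ f : (singleFunctor A 0).obj ((homologyFunctor A i).obj K) ⟶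
      ((singleFunctor A 0).obj ((homologyFunctor A j).obj K))⟦(p : ℤ)⟧, f = 0)

include hExt in
lemma exists_section (i : ℤ) (hi : a ≤ i) :
    ∃ φ : (singleFunctor A i).obj ((homologyFunctor A i).obj K) ⟶ K,
      IsIso ((homologyFunctor A i).map φ) := by
  let T₀ := (t.triangleLTGE (i + 1)).obj K
  have hT₀ : T₀ ∈ distTriang _ := t.triangleLTGE_distinguished (i + 1) K
  have h₀ : ∀ j, j < i + 1 → IsIso ((homologyFunctor A j).map T₀.mor₁) := fun j hj =>
    @TStruct.isIso_homologyMap_mor₁ _ _ _ _ _ hT₀ (i + 1)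
      (inferInstance : t.IsGE T₀.obj₃ (i + 1)) j hj
  let T := (t.triangleLTGE i).obj T₀.obj₁
  have hT : T ∈ distTriang _ := t.triangleLTGE_distinguished i T₀.obj₁
  have h1 : ∀ j, j < i → IsIso ((homologyFunctor A j).map T.mor₁) := fun j hj =>
    @TStruct.isIso_homologyMap_mor₁ _ _ _ _ _ hT i (inferInstance : t.IsGE T.obj₃ i) j hj
  have h2 : ∀ j, i - 1 < j → IsIso ((homologyFunctor A j).map T.mor₂) := fun j hj =>
    @TStruct.isIso_homologyMap_mor₂ _ _ _ _ _ hT (i - 1)
      (inferInstance : t.IsLE T.obj₁ (i - 1)) j hj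
  have : DerivedCategory.IsLE T.obj₃ i := (isLE_iff _ _).2 fun j hj => by
    have := h2 j (by omega)
    exact (isZero_of_isLE ((t.truncLT (i + 1)).obj K) (i + 1 - 1) j (by omega)).of_iso
      (asIso ((homologyFunctor A j).map T.mor₂)).symm
  have : DerivedCategory.IsGE T.obj₃ i :=
    (inferInstance : t.IsGE ((t.truncGE i).obj T₀.obj₁) i)
  obtain ⟨M, ⟨e⟩⟩ := exists_iso_singleFunctor_obj_of_isGE_of_isLE T.obj₃ i
  have := h2 i (by omega)
  have := h₀ i (by omega)
  let eM : (singleFunctor A i).obj ((homologyFunctor A i).obj K) ≅ T.obj₃ :=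
    (singleFunctor A i).mapIso ((asIso ((homologyFunctor A i).map T₀.mor₁)).symm ≪≫
      asIso ((homologyFunctor A i).map T.mor₂) ≪≫ (homologyFunctor A i).mapIso e ≪≫
      (singleFunctorCompHomologyFunctorIso A i).app M) ≪≫ e.symm
  have hδ : eM.hom ≫ T.mor₃ = 0 := by
    refine hom_shift_one_eq_zero _ a (i - a).toNat T.obj₁ ?_
      (t.isLE_truncLT_obj _ _ _ (by omega)) (fun j hja hji g => ?_) _
    · refine (isGE_iff _ _).2 fun j hj => ?_
      have := h1 j (by omega)
      have := h₀ j (by omega)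
      exact ((isZero_of_isGE K a j hj).of_iso (asIso ((homologyFunctor A j).map T₀.mor₁))).of_iso
        (asIso ((homologyFunctor A j).map T.mor₁))
    · have := h1 j (by omega)
      have := h₀ j (by omega)
      let e' := (shiftFunctor (DerivedCategory A) (1 : ℤ)).mapIso ((singleFunctor A j).mapIso
        (asIso ((homologyFunctor A j).map T.mor₁) ≪≫ asIso ((homologyFunctor A j).map T₀.mor₁)))
      refine (cancel_mono e'.hom).1 ((single_hom_eq_zero _ _ i j (i - j + 1).toNat (by omega)
        (hExt i j _ (by omega) (by omega)) (g ≫ e'.hom)).trans zero_comp.symm)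
  obtain ⟨s, hs⟩ := Triangle.coyoneda_exact₃ T hT eM.hom hδ
  refine ⟨s ≫ T₀.mor₁, ?_⟩
  have hs' : IsIso ((homologyFunctor A i).map s) := by
    have : IsIso ((homologyFunctor A i).map s ≫ (homologyFunctor A i).map T.mor₂) := by
      rw [← Functor.map_comp, ← hs]; infer_instance
    exact IsIso.of_isIso_comp_right _ ((homologyFunctor A i).map T.mor₂)
  rw [Functor.map_comp]
  infer_instance

include hExt in
theorem nonempty_iso_biproduct (b : ℤ) [K.IsLE b]
    [HasBiproduct (fun i : Finset.Icc a b => (singleFunctor A (i : ℤ)).obj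
      ((homologyFunctor A (i : ℤ)).obj K))] :
    Nonempty (K ≅ ⨁ (fun i : Finset.Icc a b => (singleFunctor A (i : ℤ)).obj
      ((homologyFunctor A (i : ℤ)).obj K))) := by
  let F : Finset.Icc a b → DerivedCategory A := fun i => (singleFunctor A (i : ℤ)).obj
    ((homologyFunctor A (i : ℤ)).obj K)
  have hsec : ∀ i : Finset.Icc a b, ∃ φ : F i ⟶ K, IsIso ((homologyFunctor A (i : ℤ)).map φ) :=
    fun i => exists_section K a hExt i (Finset.mem_Icc.1 i.2).1
  choose φ hφ using hsec
  have hzero : ∀ (i : Finset.Icc a b) (n : ℤ), n ≠ i → IsZero ((homologyFunctor A n).obj (F i)) := by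
    intro i n hn
    rcases lt_or_gt_of_ne hn with h | h
    · exact isZero_of_isGE _ (i : ℤ) n h
    · exact isZero_of_isLE _ (i : ℤ) n h
  have htotal : ∀ n, (homologyFunctor A n).map (𝟙 (⨁ F)) =
      ∑ i, (homologyFunctor A n).map (biproduct.π F i) ≫
        (homologyFunctor A n).map (biproduct.ι F i) := fun n => by
    rw [← biproduct.total, Functor.map_sum]
    simp
  suffices IsIso (biproduct.desc φ) from ⟨(asIso (biproduct.desc φ)).symm⟩
  rw [DerivedCategory.isIso_iff]
  intro n
  by_cases hn : n ∈ Finset.Icc a b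
  · have hι : IsIso ((homologyFunctor A n).map (biproduct.ι F ⟨n, hn⟩)) := by
      refine ⟨⟨(homologyFunctor A n).map (biproduct.π F ⟨n, hn⟩), ?_, ?_⟩⟩
      · rw [← Functor.map_comp, biproduct.ι_π_self, CategoryTheory.Functor.map_id]
      · rw [← CategoryTheory.Functor.map_id (homologyFunctor A n), htotal n]
        symm
        refine Finset.sum_eq_single_of_mem (⟨n, hn⟩ : Finset.Icc a b) (Finset.mem_univ _) fun i _ hi => ?_
        have hne : n ≠ i := fun h => hi (Subtype.ext h.symm)
        rw [(hzero i n hne).eq_of_tgt ((homologyFunctor A n).map (biproduct.π F i)) 0, zero_comp]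
    refine IsIso.of_isIso_fac_left (f := (homologyFunctor A n).map (biproduct.ι F ⟨n, hn⟩))
      (h := (homologyFunctor A n).map (φ ⟨n, hn⟩)) (hh := hφ ⟨n, hn⟩) ?_
    rw [← Functor.map_comp, biproduct.ι_desc]
  · have hK : IsZero ((homologyFunctor A n).obj K) := by
      rw [Finset.mem_Icc, not_and_or, not_le, not_le] at hn
      rcases hn with h | h
      · exact isZero_of_isGE K a n h
      · exact isZero_of_isLE K b n h
    have hF : IsZero ((homologyFunctor A n).obj (⨁ F)) := by
      rw [IsZero.iff_id_eq_zero, ← CategoryTheory.Functor.map_id, htotal n]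
      refine Finset.sum_eq_zero fun i _ => ?_
      have hne : n ≠ i := fun h => hn (h ▸ i.2)
      rw [(hzero i n hne).eq_of_tgt ((homologyFunctor A n).map (biproduct.π F i)) 0, zero_comp]
    exact ⟨⟨0, hF.eq_of_src _ _, hK.eq_of_src _ _⟩⟩

end Groth.Agent.Lib.DerCat.Split
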