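import Groth.Agent.Lib.DerCat.ResolDer
import Groth.Agent.Lib.DerCat.RFAcyclic
import Mathlib.Algebra.Homology.HomotopyCategory.Triangulated
import Mathlib.Algebra.Homology.DerivedCategory.Basic

/-!
# Complexes with terms in a class of objects, in the homotopy category
-/

universe w w' v v' u u'

open CategoryTheory CategoryTheory.Limits CategoryTheory.Pretriangulated ZeroObject

namespace Groth.Agent.Lib.DerCat.Termwise

variable {A : Type u} [Category.{v} A] [Abelian A]

/-- A class of objects containing zero objects and stable under isomorphisms and biproducts. -/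
structure IsAdditiveClass (P : ObjectProperty A) : Prop where
  zero : ∀ X, IsZero X → P X
  iso : ∀ {X Y : A}, (X ≅ Y) → P X → P Y
  biprod : ∀ {X Y : A}, P X → P Y → P (X ⊞ Y)

/-- Complexes with terms in `P`, as objects of the homotopy category. -/
def termwise (P : ObjectProperty A) : ObjectProperty (HomotopyCategory A (ComplexShape.up ℤ)) :=
  fun X => ∀ n, P (X.as.X n)

/-- The terms of a mapping cone stay in the class. -/
lemma mappingCone_mem {P : ObjectProperty A} (hP : IsAdditiveClass P) {K L : CochainComplex A ℤ}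
    (φ : K ⟶ L) (hK : ∀ n, P (K.X n)) (hL : ∀ n, P (L.X n)) (n : ℤ) :
    P ((CochainComplex.mappingCone φ).X n) :=
  hP.iso (HomologicalComplex.homotopyCofiber.XIsoBiprod φ n (n + 1) rfl).symm
    (hP.biprod (hK (n + 1)) (hL n))

theorem isTriangulated_termwise {P : ObjectProperty A} (hP : IsAdditiveClass P) :
    (termwise P).IsTriangulated := by
  have h₀ : (termwise P).ContainsZero := ⟨(HomotopyCategory.quotient A _).obj 0,
    Functor.map_isZero _ (isZero_zero _),
    fun n => hP.zero _ (Functor.map_isZero (HomologicalComplex.eval A _ n) (isZero_zero _))⟩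
  have h₁ : (termwise P).IsStableUnderShift ℤ :=
    ⟨fun m => ⟨fun X hX n => by
      obtain ⟨K, rfl⟩ := HomotopyCategory.quotient_obj_surjective X
      change P ((((HomotopyCategory.quotient A _).obj K)⟦m⟧).as.X n)
      rw [HomotopyCategory.shift_quotient_obj]
      exact hX (n + m)⟩⟩
  have h₂ : (termwise P).IsTriangulatedClosed₃ := ⟨fun T hT h₁ h₂ => by
    obtain ⟨f : T.obj₁.as ⟶ T.obj₂.as, hf⟩ :=
      (HomotopyCategory.quotient A _).map_surjective T.mor₁
    refine ⟨_, ?_, ⟨Triangle.π₃.mapIso (isoTriangleOfIso₁₂ T _ hT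
      (HomotopyCategory.mappingCone_triangleh_distinguished f) (Iso.refl _) (Iso.refl _) ?_)⟩⟩
    · exact fun n => mappingCone_mem hP f h₁ h₂ n
    · exact (Category.comp_id _).trans (hf.symm.trans (Category.id_comp _).symm)⟩
  exact { toIsTriangulatedClosed₂ := .of_isTriangulatedClosed₃ }

variable {B : Type u'} [Category.{v'} B] [Abelian B] [HasDerivedCategory.{w'} B] (F : A ⥤ B)
  [F.Additive] {P : ObjectProperty A}

/-- A functor exact on acyclic complexes from the class inverts quasi-isomorphisms there. -/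
theorem isInvertedBy (hP : IsAdditiveClass P)
    (hF : ∀ N : CochainComplex A ℤ, (∀ n, P (N.X n)) → N.Acyclic →
      ((F.mapHomologicalComplex (.up ℤ)).obj N).Acyclic) :
    ((HomotopyCategory.quasiIso A (ComplexShape.up ℤ)).inverseImage (termwise P).ι).IsInvertedBy
      ((termwise P).ι ⋙ F.mapHomotopyCategory (.up ℤ) ⋙ DerivedCategory.Qh) := by
  intro X Y f hf
  obtain ⟨g, hg⟩ := (HomotopyCategory.quotient A _).map_surjective (X := X.obj.as) (Y := Y.obj.as) f.hom
  have hq : QuasiIso g := by
    have h : HomotopyCategory.quasiIso A _ f.hom := hf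
    rw [← hg] at h
    exact (HomotopyCategory.quotient_map_mem_quasiIso_iff g).1 h
  change IsIso (DerivedCategory.Qh.map ((F.mapHomotopyCategory _).map f.hom))
  rw [← hg, DerivedCategory.isIso_Qh_map_iff]
  refine (HomotopyCategory.quotient_map_mem_quasiIso_iff ((F.mapHomologicalComplex _).map g)).2 ?_
  refine (RFAcyclic.quasiIso_iff_acyclic_mappingCone _).2 fun k => ?_
  exact HomologicalComplex.ExactAt.of_iso
    (hF _ (fun n => mappingCone_mem hP g X.property Y.property n)
      ((RFAcyclic.quasiIso_iff_acyclic_mappingCone g).1 hq) k)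
    (CochainComplex.mappingCone.mapHomologicalComplexIso g F)

omit [HasDerivedCategory.{w'} B] in
/-- An additive functor keeping the cycle sequences short exact keeps a complex acyclic. -/
theorem exactAt_map_of_cycles (N : CochainComplex A ℤ) (hN : N.Acyclic)
    (h : ∀ i, ((RFAcyclic.cycSeq N i).map F).ShortExact) (k : ℤ) :
    ((F.mapHomologicalComplex (.up ℤ)).obj N).ExactAt k := by
  obtain ⟨i, rfl⟩ : ∃ i : ℤ, k = i + 1 := ⟨k - 1, by lia⟩
  rw [HomologicalComplex.exactAt_iff' _ i (i + 1) (i + 1 + 1) (by simp) (by simp)]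
  have hmid : (ShortComplex.mk (F.map (N.iCycles (i + 1))) (F.map (N.d (i + 1) (i + 1 + 1)))
      (by rw [← F.map_comp, HomologicalComplex.iCycles_d, F.map_zero])).Exact := by
    rw [ShortComplex.exact_iff_exact_up_to_refinements]
    intro T x hx
    have hx' : x ≫ F.map (N.toCycles (i + 1) (i + 1 + 1)) = 0 := by
      have := (h (i + 1 + 1)).mono_f
      apply this.right_cancellation
      change (x ≫ F.map (N.toCycles (i + 1) (i + 1 + 1))) ≫ F.map (N.iCycles (i + 1 + 1)) =
        0 ≫ F.map (N.iCycles (i + 1 + 1))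
      refine ((Category.assoc _ _ _).trans (congrArg (x ≫ ·) ((F.map_comp _ _).symm.trans
        (congrArg F.map (N.toCycles_i _ _))))).trans ?_
      exact hx.trans zero_comp.symm
    exact (h (i + 1)).exact.exact_up_to_refinements x hx'
  let ψ : ((F.mapHomologicalComplex (.up ℤ)).obj N).sc' i (i + 1) (i + 1 + 1) ⟶
      ShortComplex.mk (F.map (N.iCycles (i + 1))) (F.map (N.d (i + 1) (i + 1 + 1)))
        (by rw [← F.map_comp, HomologicalComplex.iCycles_d, F.map_zero]) :=
    { τ₁ := F.map (N.toCycles i (i + 1))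
      τ₂ := 𝟙 _
      τ₃ := 𝟙 _
      comm₁₂ := ((F.map_comp _ _).symm.trans (congrArg F.map (N.toCycles_i i (i + 1)))).trans
        (Category.comp_id _).symm
      comm₂₃ := (Category.id_comp _).trans (Category.comp_id _).symm }
  haveI : Epi ψ.τ₁ := (h i).epi_g
  haveI : IsIso ψ.τ₂ := inferInstanceAs (IsIso (𝟙 _))
  haveI : Mono ψ.τ₃ := inferInstanceAs (Mono (𝟙 _))
  exact (ShortComplex.exact_iff_of_epi_of_isIso_of_mono ψ).2 hmid

end Groth.Agent.Lib.DerCat.Termwise
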