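import Mathlib.Algebra.Homology.DerivedCategory.RightDerivedFunctorPlus
import Mathlib.Algebra.Homology.DerivedCategory.ExactFunctor
import Mathlib.Algebra.Homology.DerivedCategory.TStructure
import Mathlib.CategoryTheory.Abelian.Refinements
import Mathlib.Algebra.Homology.HomologySequence
import Mathlib.Algebra.Homology.Refinements

/-!
# Derived category of a thick subcategory with enough injectives of the ambient category
-/

universe w w' v v' u u'

open CategoryTheory CategoryTheory.Limits ZeroObject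

namespace Groth.Agent.Lib.DerCat.ThickEmb

variable {A' : Type u'} [Category.{v'} A'] [Abelian A'] {A : Type u} [Category.{v} A] [Abelian A]
  (ι : A' ⥤ A) [ι.Additive] [PreservesFiniteLimits ι] [PreservesFiniteColimits ι] [ι.Full]
  [ι.Faithful]

omit [PreservesFiniteColimits ι] [ι.Additive] in
lemma injective_of_injective_obj (I : A') [Injective (ι.obj I)] : Injective I where
  factors {X Y} g f _ := ⟨ι.preimage (Injective.factorThru (ι.map g) (ι.map f)),
    ι.map_injective (by simp)⟩

variable (hinj : ∀ X' : A', ∃ (Y' : A') (i : X' ⟶ Y'), Mono i ∧ Injective (ι.obj Y'))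

include hinj in
omit [PreservesFiniteColimits ι] [ι.Additive] in
lemma enoughInjectives : EnoughInjectives A' :=
  ⟨fun X => by
    obtain ⟨Y, i, _, _⟩ := hinj X
    have := injective_of_injective_obj ι Y
    exact ⟨⟨Y, inferInstance, i, inferInstance⟩⟩⟩

include hinj in
omit [PreservesFiniteLimits ι] [PreservesFiniteColimits ι] [ι.Additive] [ι.Full] [ι.Faithful] in
lemma injective_obj (I : A') [Injective I] : Injective (ι.obj I) := by
  obtain ⟨Y, i, _, _⟩ := hinj I
  let R : Retract I Y := ⟨i, Injective.factorThru (𝟙 I) i, Injective.comp_factorThru _ _⟩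
  exact (R.map ι).injective

section FullyFaithful

variable [HasDerivedCategory.{w'} A'] [HasDerivedCategory.{w} A]

include hinj in
/-- Full faithfulness on cohomologically bounded below targets. -/
theorem map_bijective (X Y : DerivedCategory A') (b : ℤ) [Y.IsGE b] :
    Function.Bijective (fun f : X ⟶ Y => ι.mapDerivedCategory.map f) := by
  have := enoughInjectives ι hinj
  let E := (InjectiveObject.ι A').mapHomotopyCategoryPlus ⋙ DerivedCategory.Plus.Qh
  let Y' : DerivedCategory.Plus A' := ⟨Y, b, inferInstance⟩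
  let W := E.objPreimage Y'
  obtain ⟨K, hK⟩ := HomotopyCategory.Plus.quotient_obj_surjective W
  obtain ⟨d, hd⟩ := K.property
  let L : CochainComplex A' ℤ := ((InjectiveObject.ι A').mapHomologicalComplex (.up ℤ)).obj K.obj
  have hLinj : ∀ n, Injective (L.X n) := fun n => (K.obj.X n).property
  have : L.IsStrictlyGE d :=
    inferInstanceAs (CochainComplex.IsStrictlyGE
      (((InjectiveObject.ι A').mapHomologicalComplex (.up ℤ)).obj K.obj) d)
  have := CochainComplex.isKInjective_of_injective L d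
  let M : CochainComplex A ℤ := (ι.mapHomologicalComplex (.up ℤ)).obj L
  have : ∀ n, Injective (M.X n) := fun n => injective_obj ι hinj (L.X n)
  have := CochainComplex.isKInjective_of_injective M d
  let eY : DerivedCategory.Qh.obj ((HomotopyCategory.quotient A' _).obj L) ≅ Y :=
    DerivedCategory.Plus.ι.mapIso (eqToIso (congrArg E.obj hK) ≪≫ E.objObjPreimageIso Y')
  have := Localization.essSurj (DerivedCategory.Qh (C := A'))
    (HomotopyCategory.quasiIso A' (.up ℤ))
  let eX := (DerivedCategory.Qh (C := A')).objObjPreimageIso X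
  let P := ι.mapDerivedCategory
  let f₀ : ((DerivedCategory.Qh (C := A')).objPreimage X ⟶
      (HomotopyCategory.quotient A' _).obj L) → (X ⟶ Y) :=
    fun f => eX.inv ≫ DerivedCategory.Qh.map f ≫ eY.hom
  have h₀ : Function.Bijective f₀ := (eX.homCongr eY).bijective.comp
    (CochainComplex.IsKInjective.Qh_map_bijective _ L)
  let α := ι.mapDerivedCategoryFactorsh
  have h : Function.Bijective (fun f => P.map (f₀ f)) := by
    have := (((α.app _).symm ≪≫ P.mapIso eX).homCongr ((α.app _).symm ≪≫ P.mapIso eY)).bijective.comp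
      ((CochainComplex.IsKInjective.Qh_map_bijective
        ((ι.mapHomotopyCategory (.up ℤ)).obj ((DerivedCategory.Qh (C := A')).objPreimage X)) M).comp
        ⟨(ι.mapHomotopyCategory (.up ℤ)).map_injective,
          (ι.mapHomotopyCategory (.up ℤ)).map_surjective (X := (DerivedCategory.Qh (C := A')).objPreimage X)
            (Y := (HomotopyCategory.quotient A' _).obj L)⟩)
    refine (congrArg Function.Bijective ?_).mpr this
    funext f
    have hn := α.inv.naturality f
    dsimp at hn
    simp only [f₀, P, Function.comp_apply, Iso.homCongr_apply, Iso.trans_inv, Iso.trans_hom,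
      Iso.symm_inv, Iso.symm_hom, Functor.mapIso_inv, Functor.mapIso_hom, Iso.app_hom,
      Iso.app_inv, Functor.map_comp, Category.assoc]
    erw [reassoc_of% hn]
    erw [α.hom_inv_id_app_assoc]
  exact (Function.Bijective.of_comp_iff _ h₀).1 h

end FullyFaithful

section Resolution

variable (hext : ∀ S : ShortComplex A, S.ShortExact → ι.essImage S.X₁ → ι.essImage S.X₃ →
  ι.essImage S.X₂)

omit [PreservesFiniteLimits ι] [ι.Faithful] in
/-- Cokernels of maps between objects of the subcategory. -/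
lemma essImage_cokernel {X Y : A} (f : X ⟶ Y) (hX : ι.essImage X) (hY : ι.essImage Y) :
    ι.essImage (cokernel f) := by
  obtain ⟨X', ⟨eX⟩⟩ := hX
  obtain ⟨Y', ⟨eY⟩⟩ := hY
  obtain ⟨g, hg⟩ := ι.map_surjective (eX.hom ≫ f ≫ eY.inv)
  exact ⟨cokernel g, ⟨PreservesCokernel.iso ι g ≪≫
    cokernel.mapIso (ι.map g) f eX eY (by rw [hg]; simp)⟩⟩

variable {K : CochainComplex A ℤ}

/-- The data in one degree. -/
structure Stage (K : CochainComplex A ℤ) (i : ℤ) where
  I : A'
  inj : Injective (ι.obj I)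
  C : A'
  q : I ⟶ C
  g : K.X i ⟶ ι.obj I
  c : K.opcycles i ⟶ ι.obj C
  hc : K.pOpcycles i ≫ c = g ≫ ι.map q
  mono : Mono (K.homologyι i ≫ c)

variable {ι}

include hext hinj in
/-- One step of the construction. -/
lemma exists_step (hK : ∀ i, ι.essImage (K.homology i)) {i j : ℤ} (hij : i + 1 = j)
    (S : Stage ι K i) :
    ∃ (T : Stage ι K j) (d : S.C ⟶ T.I),
      K.d i j ≫ T.g = S.g ≫ ι.map (S.q ≫ d) ∧
      (∃ h : (S.q ≫ d) ≫ T.q = 0, Nonempty (IsColimit (CokernelCofork.ofπ (f := S.q ≫ d) T.q h))) ∧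
      ∀ {U : A} (y : U ⟶ ι.obj S.C), y ≫ ι.map d = 0 →
        ∃ (U' : A) (π : U' ⟶ U) (_ : Epi π) (z : U' ⟶ K.homology i),
          π ≫ y = z ≫ K.homologyι i ≫ S.c := by
  have := S.mono
  let r := K.opcyclesToCycles i j
  let lift := biprod.lift S.c (-r)
  let M := cokernel lift
  let inl : ι.obj S.C ⟶ M := biprod.inl ≫ cokernel.π lift
  let inr : K.cycles j ⟶ M := biprod.inr ≫ cokernel.π lift
  have hsq : S.c ≫ inl = r ≫ inr := by
    have h := cokernel.condition lift
    simp only [lift, biprod.lift_eq, Preadditive.add_comp, Category.assoc,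
      Preadditive.neg_comp] at h
    rw [← sub_eq_add_neg, sub_eq_zero] at h
    exact h
  let δ : M ⟶ K.homology j := cokernel.desc lift (biprod.desc 0 (K.homologyπ j))
    (by simp [lift, r, biprod.lift_desc])
  have hinl : inl ≫ δ = 0 := by simp [inl, δ]
  have hinr : inr ≫ δ = K.homologyπ j := by simp [inr, δ]
  have hδ : Epi δ := epi_of_epi_fac hinr
  have hφ : (K.homologyι i ≫ S.c) ≫ inl = 0 := by
    rw [Category.assoc, hsq, ← Category.assoc]
    simp [r]
  have hker : ∀ {U : A} (y : U ⟶ ι.obj S.C), y ≫ inl = 0 →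
      ∃ (U' : A) (π : U' ⟶ U) (_ : Epi π) (z : U' ⟶ K.homology i),
        π ≫ y = z ≫ K.homologyι i ≫ S.c := fun {U} y hy => by
    obtain ⟨U₁, π₁, _, w, hw⟩ := (ShortComplex.exact_of_g_is_cokernel
      (ShortComplex.mk lift (cokernel.π lift) (cokernel.condition _))
      (cokernelIsCokernel lift)).exact_up_to_refinements (y ≫ biprod.inl)
      (by simpa [inl] using hy)
    have h1 := congrArg (· ≫ biprod.fst) hw
    have h2 := congrArg (· ≫ biprod.snd) hw
    simp [lift] at h1 h2
    obtain ⟨U₂, π₂, _, x, hx⟩ := surjective_up_to_refinements_of_epi (K.pOpcycles i) w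
    have hxd : x ≫ K.d i j = 0 := by
      rw [← K.pOpcycles_opcyclesToCycles_iCycles i j, ← reassoc_of% hx]
      change π₂ ≫ w ≫ r ≫ K.iCycles j = 0
      rw [reassoc_of% h2, zero_comp, comp_zero]
    refine ⟨U₂, π₂ ≫ π₁, inferInstance,
      K.liftCycles x j (by simp [hij]) hxd ≫ K.homologyπ i, ?_⟩
    rw [Category.assoc, h1, reassoc_of% hx]
    simp [K.homology_π_ι_assoc]
  have e₁ : (ShortComplex.mk inl δ hinl).Exact := by
    rw [ShortComplex.exact_iff_exact_up_to_refinements]
    intro U x hx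
    obtain ⟨U₁, π₁, _, v, hv⟩ := surjective_up_to_refinements_of_epi (cokernel.π lift) x
    have hv' : (v ≫ biprod.snd) ≫ K.homologyπ j = 0 := by
      have h := π₁ ≫= hx
      rw [reassoc_of% hv] at h
      simpa [δ, biprod.desc_eq] using h
    obtain ⟨U₂, π₂, _, w, hw⟩ :=
      (K.comp_homologyπ_eq_zero_iff_up_to_refinements i j (by simp [← hij]) (v ≫ biprod.snd)).1 hv'
    refine ⟨U₂, π₂ ≫ π₁, inferInstance,
      π₂ ≫ v ≫ biprod.fst + w ≫ K.pOpcycles i ≫ S.c, ?_⟩
    rw [Category.assoc, hv, Preadditive.add_comp]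
    simp only [Category.assoc]
    rw [hsq, HomologicalComplex.pOpcycles_opcyclesToCycles_assoc, ← reassoc_of% hw]
    change π₂ ≫ v ≫ cokernel.π lift = π₂ ≫ v ≫ biprod.fst ≫ biprod.inl ≫ cokernel.π lift +
      π₂ ≫ v ≫ biprod.snd ≫ biprod.inr ≫ cokernel.π lift
    simp only [← Preadditive.comp_add]
    rw [← Category.assoc biprod.fst, ← Category.assoc biprod.snd, ← Preadditive.add_comp,
      biprod.total, Category.id_comp]
  let j₁ : cokernel (K.homologyι i ≫ S.c) ⟶ M := cokernel.desc _ inl hφ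
  have hj₁ : Mono j₁ := Preadditive.mono_of_cancel_zero _ fun {U} x hx => by
    obtain ⟨U₁, π₁, _, y, hy⟩ := surjective_up_to_refinements_of_epi
      (cokernel.π (K.homologyι i ≫ S.c)) x
    have hy' : y ≫ inl = 0 := by
      rw [← cokernel.π_desc (K.homologyι i ≫ S.c) inl hφ, ← reassoc_of% hy]
      simp only [j₁] at hx
      simp [hx]
    obtain ⟨U₂, π₂, _, z, hz⟩ := hker y hy'
    rw [← cancel_epi (π₂ ≫ π₁), comp_zero, Category.assoc, hy, reassoc_of% hz]
    rw [← Category.assoc (K.homologyι i), cokernel.condition, comp_zero]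
  have hses : (ShortComplex.mk j₁ δ (by
      rw [← cancel_epi (cokernel.π (K.homologyι i ≫ S.c))]; simp [j₁, hinl])).ShortExact := by
    refine ShortComplex.ShortExact.mk' ?_ hj₁ hδ
    let φ : ShortComplex.mk inl δ hinl ⟶ ShortComplex.mk j₁ δ (by
        rw [← cancel_epi (cokernel.π (K.homologyι i ≫ S.c))]; simp [j₁, hinl]) :=
      { τ₁ := cokernel.π _, τ₂ := 𝟙 _, τ₃ := 𝟙 _ }
    have : Epi φ.τ₁ := inferInstanceAs (Epi (cokernel.π _))
    have : IsIso φ.τ₂ := inferInstanceAs (IsIso (𝟙 _))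
    have : Mono φ.τ₃ := inferInstanceAs (Mono (𝟙 _))
    exact (ShortComplex.exact_iff_of_epi_of_isIso_of_mono φ).1 e₁
  obtain ⟨M', ⟨eM⟩⟩ := hext _ hses
    (essImage_cokernel ι _ (hK i) (ι.obj_mem_essImage _)) (hK j)
  obtain ⟨Y, k, _, hY⟩ := hinj M'
  let m : M ⟶ ι.obj Y := eM.inv ≫ ι.map k
  obtain ⟨d, hd⟩ := ι.map_surjective (inl ≫ m)
  let g : K.X j ⟶ ι.obj Y := Injective.factorThru (inr ≫ m) (K.iCycles j)
  have hg : K.iCycles j ≫ g = inr ≫ m := Injective.comp_factorThru _ _
  have hcomm : K.d i j ≫ g = S.g ≫ ι.map (S.q ≫ d) := by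
    rw [← K.pOpcycles_opcyclesToCycles_iCycles i j, Category.assoc, Category.assoc, hg,
      ← reassoc_of% hsq, Functor.map_comp, hd, reassoc_of% S.hc]
  let q := cokernel.π (S.q ≫ d)
  have hgq : K.d i j ≫ g ≫ ι.map q = 0 := by
    rw [reassoc_of% hcomm, ← Functor.map_comp, cokernel.condition, Functor.map_zero, comp_zero]
  let c := K.descOpcycles (g ≫ ι.map q) i (by simp [← hij]) hgq
  have hc : K.pOpcycles j ≫ c = g ≫ ι.map q := K.p_descOpcycles _ _ _ _
  have hmono : Mono (K.homologyι j ≫ c) := Preadditive.mono_of_cancel_zero _ fun {U} x hx => by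
    obtain ⟨U₁, π₁, _, x', hx'⟩ := surjective_up_to_refinements_of_epi (K.homologyπ j) x
    have h : (x' ≫ inr ≫ m) ≫ ι.map q = 0 := by
      rw [← hg, Category.assoc, Category.assoc, ← hc, ← K.homology_π_ι_assoc, ← reassoc_of% hx',
        hx, comp_zero]
    obtain ⟨U₂, π₂, _, y, hy⟩ := ((ShortComplex.exact_of_g_is_cokernel
      (ShortComplex.mk (S.q ≫ d) q (cokernel.condition _))
      (cokernelIsCokernel _)).map ι).exact_up_to_refinements (x' ≫ inr ≫ m) h
    have hy' : (π₂ ≫ x') ≫ inr = (y ≫ ι.map S.q) ≫ inl := by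
      rw [← cancel_mono m]
      simp only [Category.assoc, ← hd] at hy ⊢
      exact hy.trans (congrArg (y ≫ ·) (ι.map_comp _ _))
    rw [← cancel_epi (π₂ ≫ π₁), comp_zero, Category.assoc, hx', ← hinr]
    rw [← Category.assoc, ← Category.assoc, hy']
    simp [hinl]
  refine ⟨⟨Y, hY, _, q, g, c, hc, hmono⟩, d, hcomm,
    ⟨cokernel.condition _, ⟨cokernelIsCokernel _⟩⟩, fun y hy => hker y ?_⟩
  rw [← cancel_mono m, zero_comp, Category.assoc, ← hd, hy]

section Global

variable (hK : ∀ i, ι.essImage (K.homology i)) [K.IsStrictlyGE 0]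

/-- The stage in degree `-1`. -/
noncomputable def zeroStage : Stage ι K (-1) where
  I := 0
  inj := ((Functor.map_isZero ι (isZero_zero _)).injective)
  C := 0
  q := 0
  g := 0
  c := 0
  hc := by simp
  mono := ⟨fun _ _ _ => IsZero.eq_of_tgt
    ((HomologicalComplex.exactAt_iff_isZero_homology _ _).1
      (ShortComplex.exact_of_isZero_X₂ _ (K.isZero_of_isStrictlyGE 0 (-1) (by lia)))) _ _⟩

/-- All stages. -/
noncomputable def st : ∀ n : ℕ, Stage ι K (n : ℤ)
  | 0 => (exists_step hinj hext hK (show (-1 : ℤ) + 1 = ((0 : ℕ) : ℤ) by simp) zeroStage).choose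
  | n + 1 => (exists_step hinj hext hK (show (n : ℤ) + 1 = ((n + 1 : ℕ) : ℤ) by simp) (st n)).choose

/-- The map between stages. -/
noncomputable def dst (n : ℕ) : (st hinj hext hK n).C ⟶ (st hinj hext hK (n + 1)).I :=
  (exists_step hinj hext hK (show (n : ℤ) + 1 = ((n + 1 : ℕ) : ℤ) by simp)
    (st hinj hext hK n)).choose_spec.choose

lemma dst_spec (n : ℕ) :
    K.d (n : ℤ) ((n + 1 : ℕ) : ℤ) ≫ (st hinj hext hK (n + 1)).g =
        (st hinj hext hK n).g ≫ ι.map ((st hinj hext hK n).q ≫ dst hinj hext hK n) ∧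
      (∃ h : ((st hinj hext hK n).q ≫ dst hinj hext hK n) ≫ (st hinj hext hK (n + 1)).q = 0,
        Nonempty (IsColimit (CokernelCofork.ofπ (f := (st hinj hext hK n).q ≫ dst hinj hext hK n)
          (st hinj hext hK (n + 1)).q h))) ∧
      ∀ {U : A} (y : U ⟶ ι.obj (st hinj hext hK n).C), y ≫ ι.map (dst hinj hext hK n) = 0 →
        ∃ (U' : A) (π : U' ⟶ U) (_ : Epi π) (z : U' ⟶ K.homology (n : ℤ)),
          π ≫ y = z ≫ K.homologyι (n : ℤ) ≫ (st hinj hext hK n).c :=
  (exists_step hinj hext hK (show (n : ℤ) + 1 = ((n + 1 : ℕ) : ℤ) by simp)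
    (st hinj hext hK n)).choose_spec.choose_spec

lemma mono_q_zero : Mono (ι.map (st hinj hext hK 0).q) := by
  obtain ⟨d, -, ⟨h, ⟨hc⟩⟩, -⟩ :=
    (exists_step hinj hext hK (show (-1 : ℤ) + 1 = ((0 : ℕ) : ℤ) by simp) zeroStage).choose_spec
  have := CokernelCofork.IsColimit.isIso_π _ hc zero_comp
  exact inferInstanceAs (Mono (ι.map (Cofork.π (CokernelCofork.ofπ _ h))))

/-- The objects of the resolution. -/
noncomputable def objR : ℤ → A'
  | Int.ofNat n => (st hinj hext hK n).I
  | Int.negSucc _ => 0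

/-- The differentials of the resolution. -/
noncomputable def dR : ∀ n : ℤ, objR hinj hext hK n ⟶ objR hinj hext hK (n + 1)
  | Int.ofNat n => (st hinj hext hK n).q ≫ dst hinj hext hK n
  | Int.negSucc _ => 0

/-- The resolution. -/
noncomputable def res : CochainComplex A' ℤ :=
  CochainComplex.of (objR hinj hext hK) (dR hinj hext hK) fun n => by
    rcases n with n | n
    · obtain ⟨h, -⟩ := (dst_spec hinj hext hK n).2.1
      change ((st hinj hext hK n).q ≫ dst hinj hext hK n) ≫
        ((st hinj hext hK (n + 1)).q ≫ dst hinj hext hK (n + 1)) = 0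
      rw [← Category.assoc, h, zero_comp]
    · exact zero_comp

lemma res_d (n : ℕ) : (res hinj hext hK).d (n : ℤ) ((n + 1 : ℕ) : ℤ) =
    (st hinj hext hK n).q ≫ dst hinj hext hK n :=
  CochainComplex.of_d (objR hinj hext hK) (dR hinj hext hK) (Int.ofNat n)

lemma isStrictlyGE_res : (res hinj hext hK).IsStrictlyGE 0 := by
  rw [CochainComplex.isStrictlyGE_iff]
  intro i hi
  rcases i with n | n
  · exact absurd hi (Int.not_lt.mpr (Int.natCast_nonneg n))
  · exact isZero_zero _

lemma injective_res (i : ℤ) : Injective (ι.obj ((res hinj hext hK).X i)) := by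
  rcases i with n | n
  · exact (st hinj hext hK n).inj
  · exact (Functor.map_isZero ι (isZero_zero _)).injective

/-- The comparison map. -/
noncomputable def resι : K ⟶ (ι.mapHomologicalComplex (.up ℤ)).obj (res hinj hext hK) where
  f
    | Int.ofNat n => (st hinj hext hK n).g
    | Int.negSucc _ => 0
  comm' i j hij := by
    obtain rfl : i + 1 = j := hij
    rcases i with n | n
    · change (st hinj hext hK n).g ≫ ι.map ((res hinj hext hK).d (n : ℤ) ((n + 1 : ℕ) : ℤ)) =
        K.d (n : ℤ) ((n + 1 : ℕ) : ℤ) ≫ (st hinj hext hK (n + 1)).g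
      rw [res_d]
      exact (dst_spec hinj hext hK n).1.symm
    · exact (K.isZero_of_isStrictlyGE 0 _ (by lia)).eq_of_src _ _

lemma d_comp_q (n : ℕ) (i : ℤ) (hi : i + 1 = (n : ℤ)) :
    ι.map ((res hinj hext hK).d i (n : ℤ)) ≫ ι.map (st hinj hext hK n).q = 0 := by
  cases n with
  | zero =>
    have := isStrictlyGE_res hinj hext hK
    exact (Functor.map_isZero ι
      ((res hinj hext hK).isZero_of_isStrictlyGE 0 i (by lia))).eq_of_src _ _
  | succ m =>
    obtain rfl : i = (m : ℤ) := by lia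
    obtain ⟨h, -⟩ := (dst_spec hinj hext hK m).2.1
    rw [res_d]
    exact (ι.map_comp _ _).symm.trans ((congrArg ι.map h).trans (ι.map_zero _ _))

lemma exists_of_comp_q (n : ℕ) {U : A} (u : U ⟶ ι.obj (st hinj hext hK n).I)
    (hu : u ≫ ι.map (st hinj hext hK n).q = 0) :
    ∃ (U' : A) (π : U' ⟶ U) (_ : Epi π) (v : U' ⟶ ι.obj ((res hinj hext hK).X ((n : ℤ) - 1))),
      π ≫ u = v ≫ ι.map ((res hinj hext hK).d ((n : ℤ) - 1) (n : ℤ)) := by
  cases n with
  | zero =>
    have := mono_q_zero hinj hext hK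
    exact ⟨U, 𝟙 _, inferInstance, 0, by rw [zero_of_comp_mono _ hu, comp_zero, zero_comp]; rfl⟩
  | succ m =>
    obtain ⟨h, ⟨hc⟩⟩ := (dst_spec hinj hext hK m).2.1
    obtain ⟨U', π, hπ, v, hv⟩ :=
      ((ShortComplex.exact_of_g_is_cokernel
        (ShortComplex.mk _ _ h) hc).map ι).exact_up_to_refinements u hu
    obtain ⟨i, hi, he⟩ : ∃ i : ℤ, i = (m : ℤ) ∧ ((m + 1 : ℕ) : ℤ) - 1 = i := ⟨_, rfl, by lia⟩
    subst hi
    rw [he]
    exact ⟨U', π, hπ, v, hv.trans (congrArg (v ≫ ι.map ·) (res_d hinj hext hK m).symm)⟩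

theorem quasiIso_resι : QuasiIso (resι hinj hext hK) := ⟨fun i => by
  have := isStrictlyGE_res hinj hext hK
  rcases i with n | n
  swap
  · rw [quasiIsoAt_iff_exactAt]
    · exact ShortComplex.exact_of_isZero_X₂ _ (Functor.map_isZero ι
        ((res hinj hext hK).isZero_of_isStrictlyGE 0 _ (by lia)))
    · exact ShortComplex.exact_of_isZero_X₂ _ (K.isZero_of_isStrictlyGE 0 _ (by lia))
  let L := (ι.mapHomologicalComplex (.up ℤ)).obj (res hinj hext hK)
  let f := resι hinj hext hK
  let i : ℤ := n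
  change QuasiIsoAt f i
  let c' : L.opcycles i ⟶ ι.obj (st hinj hext hK n).C :=
    L.descOpcycles (ι.map (st hinj hext hK n).q) (i - 1) (by simp)
      (d_comp_q hinj hext hK n (i - 1) (by simp [i]))
  have hc' : HomologicalComplex.opcyclesMap f i ≫ c' = (st hinj hext hK n).c := by
    rw [← cancel_epi (K.pOpcycles i), HomologicalComplex.p_opcyclesMap_assoc,
      HomologicalComplex.p_descOpcycles, (st hinj hext hK n).hc]
    rfl
  rw [quasiIsoAt_iff_isIso_homologyMap]
  have := (st hinj hext hK n).mono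
  have hfac : HomologicalComplex.homologyMap f i ≫ L.homologyι i ≫ c' =
      K.homologyι i ≫ (st hinj hext hK n).c := by
    rw [HomologicalComplex.homologyι_naturality_assoc, hc']
  have : Mono (HomologicalComplex.homologyMap f i ≫ L.homologyι i ≫ c') := by
    rw [hfac]; exact (st hinj hext hK n).mono
  have : Mono (HomologicalComplex.homologyMap f i) :=
    mono_of_mono _ (L.homologyι i ≫ c')
  have : Epi (HomologicalComplex.homologyMap f i) := by
    rw [epi_iff_surjective_up_to_refinements]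
    intro U γ
    obtain ⟨U₁, π₁, _, z, hz⟩ := surjective_up_to_refinements_of_epi (L.homologyπ i) γ
    have hy : (z ≫ L.iCycles i ≫ ι.map (st hinj hext hK n).q) ≫ ι.map (dst hinj hext hK n) = 0 := by
      have h : L.iCycles i ≫ L.d (n : ℤ) ((n + 1 : ℕ) : ℤ) = 0 := L.iCycles_d i _
      change L.iCycles i ≫ ι.map ((res hinj hext hK).d (n : ℤ) ((n + 1 : ℕ) : ℤ)) = 0 at h
      rw [res_d] at h
      exact (Category.assoc _ _ _).trans ((congrArg (z ≫ ·) ((Category.assoc _ _ _).trans
        ((congrArg (L.iCycles i ≫ ·) (ι.map_comp _ _).symm).trans h))).trans comp_zero)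
    obtain ⟨U₂, π₂, _, w, hw⟩ := (dst_spec hinj hext hK n).2.2 _ hy
    obtain ⟨U₃, π₃, _, w', hw'⟩ := surjective_up_to_refinements_of_epi (K.homologyπ i) w
    let u := π₃ ≫ π₂ ≫ z - w' ≫ HomologicalComplex.cyclesMap f i
    have hu : (u ≫ L.iCycles i) ≫ ι.map (st hinj hext hK n).q = 0 := by
      have h1 := π₃ ≫= hw
      rw [reassoc_of% hw', HomologicalComplex.homology_π_ι_assoc, (st hinj hext hK n).hc] at h1
      simp only [u, Preadditive.sub_comp, Category.assoc, HomologicalComplex.cyclesMap_i_assoc]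
      rw [h1, sub_eq_zero]
      erw [HomologicalComplex.cyclesMap_i_assoc]
      rfl
    obtain ⟨U₄, π₄, _, v, hv⟩ := exists_of_comp_q hinj hext hK n _ hu
    have hu' : (π₄ ≫ u) ≫ L.homologyπ i = 0 :=
      (L.comp_homologyπ_eq_zero_iff_up_to_refinements (i - 1) i (by simp) _).2
        ⟨U₄, 𝟙 _, inferInstance, v, by
          rw [Category.id_comp, ← cancel_mono (L.iCycles i)]
          refine (Category.assoc _ _ _).trans (hv.trans ?_)
          exact ((Category.assoc _ _ _).trans (congrArg (v ≫ ·) (L.toCycles_i _ _))).symm⟩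
    refine ⟨U₄, π₄ ≫ π₃ ≫ π₂ ≫ π₁, inferInstance, π₄ ≫ w' ≫ K.homologyπ i, ?_⟩
    simp only [Category.assoc, HomologicalComplex.homologyπ_naturality]
    rw [hz]
    simpa [u, sub_eq_zero] using hu'
  exact isIso_of_mono_of_epi _⟩

end Global

end Resolution

section EssImage

variable [HasDerivedCategory.{w'} A'] [HasDerivedCategory.{w} A]

include hinj in
/-- Bounded below objects with cohomology in the subcategory come from resolutions. -/
theorem exists_iso (hext : ∀ S : ShortComplex A, S.ShortExact → ι.essImage S.X₁ →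
      ι.essImage S.X₃ → ι.essImage S.X₂)
    (Z : DerivedCategory A) (a : ℤ) [Z.IsGE a]
    (hZ : ∀ i : ℤ, ι.essImage ((DerivedCategory.homologyFunctor A i).obj Z)) :
    ∃ (I : CochainComplex A' ℤ), I.IsStrictlyGE a ∧ (∀ n : ℤ, Injective (ι.obj (I.X n))) ∧
      Nonempty (ι.mapDerivedCategory.obj (DerivedCategory.Q.obj I) ≅ Z) := by
  obtain ⟨K, _, ⟨e⟩⟩ := DerivedCategory.exists_iso_Q_obj_of_isGE Z a
  let K₀ : CochainComplex A ℤ := K⟦a⟧
  have : K₀.IsStrictlyGE 0 := K.isStrictlyGE_shift a a 0 (by lia)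
  have hK : ∀ i, ι.essImage (K₀.homology i) := fun i =>
    ι.essImage.prop_of_iso
      ((DerivedCategory.homologyFunctor A (a + i)).mapIso e ≪≫
        (DerivedCategory.homologyFunctorFactors A (a + i)).app K ≪≫
          ((CochainComplex.ShiftSequence.shiftIso A a i (a + i) rfl).app K).symm) (hZ (a + i))
  let J := res hinj hext hK
  let I : CochainComplex A' ℤ := J⟦-a⟧
  have := isStrictlyGE_res hinj hext hK
  refine ⟨I, J.isStrictlyGE_shift 0 (-a) a (by lia), fun n => injective_res hinj hext hK _, ⟨?_⟩⟩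
  have := quasiIso_resι hinj hext hK
  let e₁ : ι.mapDerivedCategory.obj (DerivedCategory.Q.obj J) ≅ (DerivedCategory.Q.obj K)⟦a⟧ :=
    ι.mapDerivedCategoryFactors.app J ≪≫
      (asIso (DerivedCategory.Q.map (resι hinj hext hK))).symm ≪≫
      (DerivedCategory.Q.commShiftIso a).app K
  exact ι.mapDerivedCategory.mapIso ((DerivedCategory.Q.commShiftIso (-a)).app J) ≪≫
    (ι.mapDerivedCategory.commShiftIso (-a)).app _ ≪≫
    (shiftFunctor (DerivedCategory A) (-a)).mapIso e₁ ≪≫
    (shiftFunctorCompIsoId (DerivedCategory A) a (-a) (by lia)).app _ ≪≫ e.symm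

end EssImage

end Groth.Agent.Lib.DerCat.ThickEmb
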