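import Groth.Agent.Lib.DerCat.TStruct

/-!
# Morphisms between objects concentrated in two consecutive degrees
-/

universe w v u

open CategoryTheory CategoryTheory.Limits CategoryTheory.Pretriangulated DerivedCategory
open DerivedCategory.TStructure

namespace Groth.Agent.Lib.DerCat.TwoStep

set_option backward.isDefEq.respectTransparency false

variable {A : Type u} [Category.{v} A] [Abelian A] [HasDerivedCategory.{w} A]

local notation "H" => DerivedCategory.homologyFunctor A

lemma isIso_of_pure {X Y : DerivedCategory A} (f : X ⟶ Y) (n : ℤ) [t.IsGE X n] [t.IsLE X n]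
    [t.IsGE Y n] [t.IsLE Y n] (h : IsIso ((H n).map f)) : IsIso f := by
  have : X.IsGE n := ‹t.IsGE X n›
  have : X.IsLE n := ‹t.IsLE X n›
  have : Y.IsGE n := ‹t.IsGE Y n›
  have : Y.IsLE n := ‹t.IsLE Y n›
  rw [DerivedCategory.isIso_iff]
  intro i
  rcases lt_trichotomy i n with hi | rfl | hi
  · exact ⟨⟨0, (isZero_of_isGE X n i hi).eq_of_src _ _, (isZero_of_isGE Y n i hi).eq_of_src _ _⟩⟩
  · exact h
  · exact ⟨⟨0, (isZero_of_isLE X n i hi).eq_of_src _ _, (isZero_of_isLE Y n i hi).eq_of_src _ _⟩⟩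

variable {M M' U V : DerivedCategory A} (q : ℤ)
  [t.IsGE M (q - 1)] [t.IsLE M q] [t.IsGE M' (q - 1)] [t.IsLE M' q]
  [t.IsGE V q] [t.IsLE V q] [t.IsGE U (q - 1)] [t.IsLE U (q - 1)]

theorem existsUnique_factor (P : M ⟶ V) (hP : IsIso ((H q).map P)) (ι : U ⟶ M')
    (hι : IsIso ((H (q - 1)).map ι)) (F : M ⟶ M') (hF : ∀ i, (H i).map F = 0) :
    ∃! L : V ⟶ U, F = P ≫ L ≫ ι := by
  let T := (t.triangleLTGE q).obj M
  let T' := (t.triangleLTGE q).obj M'
  have hT : T ∈ distTriang _ := t.triangleLTGE_distinguished q M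
  have hT' : T' ∈ distTriang _ := t.triangleLTGE_distinguished q M'
  let a : (t.truncGE q).obj M ⟶ V := t.descTruncGE P q
  have ha : (t.truncGEπ q).app M ≫ a = P := t.π_descTruncGE P q
  have : IsIso a := by
    refine isIso_of_pure a q ?_
    have : IsIso ((H q).map ((t.truncGEπ q).app M)) :=
      @DerCat.TStruct.isIso_homologyMap_mor₂ _ _ _ _ _ hT (q - 1)
      (inferInstance : t.IsLE ((t.truncLT q).obj M) (q - 1)) q (by omega)
    refine IsIso.of_isIso_fac_left (f := (H q).map ((t.truncGEπ q).app M)) (h := (H q).map P)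
      (hh := hP) ?_
    rw [← Functor.map_comp, ha]
  let b : U ⟶ (t.truncLT q).obj M' := t.liftTruncLT ι (q - 1) q (by omega)
  have hb : b ≫ (t.truncLTι q).app M' = ι := t.liftTruncLT_ι ι (q - 1) q (by omega)
  have : IsIso b := by
    refine isIso_of_pure b (q - 1) ?_
    have : IsIso ((H (q - 1)).map ((t.truncLTι q).app M')) :=
      @DerCat.TStruct.isIso_homologyMap_mor₁ _ _ _ _ _ hT' q
      (inferInstance : t.IsGE ((t.truncGE q).obj M') q) (q - 1) (by omega)
    have h2 : IsIso ((H (q - 1)).map b ≫ (H (q - 1)).map ((t.truncLTι q).app M')) := by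
      rw [← Functor.map_comp, hb]; exact hι
    exact IsIso.of_isIso_comp_right _ ((H (q - 1)).map ((t.truncLTι q).app M'))
  suffices h : ∃! L₀ : (t.truncGE q).obj M ⟶ (t.truncLT q).obj M',
      F = (t.truncGEπ q).app M ≫ L₀ ≫ (t.truncLTι q).app M' by
    obtain ⟨L₀, h₁, h₂⟩ := h
    refine ⟨inv a ≫ L₀ ≫ inv b, ?_, fun L hL => ?_⟩
    · simp only [← ha, ← hb, Category.assoc, IsIso.hom_inv_id_assoc, IsIso.inv_hom_id_assoc]
      exact h₁
    · rw [← ha, ← hb] at hL
      simp only [Category.assoc] at hL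
      rw [← h₂ (a ≫ L ≫ b) (by simpa using hL)]
      simp
  have hpure : ∀ g : (t.truncGE q).obj M ⟶ (t.truncGE q).obj M', (H q).map g = 0 → g = 0 :=
    fun g hg => by
    have : DerivedCategory.IsGE ((t.truncGE q).obj M) q := (inferInstance : t.IsGE _ q)
    have : DerivedCategory.IsLE ((t.truncGE q).obj M) q := (inferInstance : t.IsLE _ q)
    have : DerivedCategory.IsGE ((t.truncGE q).obj M') q := (inferInstance : t.IsGE _ q)
    have : DerivedCategory.IsLE ((t.truncGE q).obj M') q := (inferInstance : t.IsLE _ q)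
    exact DerCat.TStruct.eq_zero_of_homologyMap_eq_zero q g hg
  obtain ⟨G, hG⟩ : ∃ G : M ⟶ (t.truncLT q).obj M', F = G ≫ (t.truncLTι q).app M' := by
    refine Triangle.coyoneda_exact₂ _ hT' F ?_
    change F ≫ (t.truncGEπ q).app M' = 0
    rw [← t.truncGEπ_naturality,
      hpure _ (DerCat.TStruct.homologyMap_truncGE_map_eq_zero F q q (fun _ => hF q)), comp_zero]
  have hG0 : (t.truncLTι q).app M ≫ G = 0 := by
    have : DerivedCategory.IsGE ((t.truncLT q).obj M) (q - 1) :=
      (inferInstance : t.IsGE _ (q - 1))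
    have : DerivedCategory.IsLE ((t.truncLT q).obj M) (q - 1) :=
      (inferInstance : t.IsLE _ (q - 1))
    have : DerivedCategory.IsGE ((t.truncLT q).obj M') (q - 1) :=
      (inferInstance : t.IsGE _ (q - 1))
    have : DerivedCategory.IsLE ((t.truncLT q).obj M') (q - 1) :=
      (inferInstance : t.IsLE _ (q - 1))
    have : IsIso ((H (q - 1)).map ((t.truncLTι q).app M')) :=
      @DerCat.TStruct.isIso_homologyMap_mor₁ _ _ _ _ _ hT' q
      (inferInstance : t.IsGE ((t.truncGE q).obj M') q) (q - 1) (by omega)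
    refine DerCat.TStruct.eq_zero_of_homologyMap_eq_zero (q - 1) _ ?_
    rw [← cancel_mono ((H (q - 1)).map ((t.truncLTι q).app M')), zero_comp, ← Functor.map_comp,
      Category.assoc, ← hG, Functor.map_comp, hF, comp_zero]
  obtain ⟨L₀, hL₀⟩ : ∃ L₀ : (t.truncGE q).obj M ⟶ (t.truncLT q).obj M',
      G = (t.truncGEπ q).app M ≫ L₀ := Triangle.yoneda_exact₂ _ hT G hG0
  refine ⟨L₀, by rw [hG, hL₀, Category.assoc], fun L hL => ?_⟩
  have h0 : (L - L₀) = 0 := by
    have e : ((t.truncGEπ q).app M ≫ (L - L₀)) ≫ (t.truncLTι q).app M' = 0 := by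
      simp only [Preadditive.comp_sub, Preadditive.sub_comp, Category.assoc]
      rw [← hL, ← reassoc_of% hL₀, ← hG, sub_self]
    obtain ⟨w, hw⟩ : ∃ w : M ⟶ ((t.truncGE q).obj M')⟦(-1 : ℤ)⟧,
        (t.truncGEπ q).app M ≫ (L - L₀) = w ≫ T'.invRotate.mor₁ :=
      Triangle.coyoneda_exact₂ _ (inv_rot_of_distTriang _ hT') _ e
    have hw0 : w = 0 := t.zero_of_isLE_of_isGE w q (q + 1) (by omega) inferInstance
      (t.isGE_shift _ q (-1) (q + 1) (by omega))
    rw [hw0] at hw
    obtain ⟨u, hu⟩ : ∃ u : ((t.truncLT q).obj M)⟦(1 : ℤ)⟧ ⟶ (t.truncLT q).obj M',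
        L - L₀ = T.mor₃ ≫ u :=
      Triangle.yoneda_exact₃ _ hT _ (hw.trans zero_comp)
    have hu0 : u = 0 := t.zero_of_isLE_of_isGE u (q - 2) (q - 1) (by omega)
      (t.isLE_shift _ (q - 1) 1 (q - 2) (by omega)) inferInstance
    rw [hu, hu0, comp_zero]
  exact sub_eq_zero.1 h0

theorem existsUnique_truncMap {K K' : DerivedCategory A} (f : K ⟶ K') (q : ℤ)
    (h₁ : (H (q - 1)).map f = 0) (h₂ : (H q).map f = 0) :
    ∃! L : (t.truncGELT q (q + 1)).obj K ⟶ (t.truncGELT (q - 1) q).obj K',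
      (t.truncGELT (q - 1) (q + 1)).map f =
        (t.natTransTruncGEOfLE (q - 1) q (sub_one_lt q).le).app ((t.truncLT (q + 1)).obj K) ≫ L ≫
          (t.truncGE (q - 1)).map ((t.natTransTruncLTOfLE q (q + 1) (lt_add_one q).le).app K') := by
  have hπ : ∀ (Y : DerivedCategory A) (n i : ℤ), n ≤ i → IsIso ((H i).map ((t.truncGEπ n).app Y)) :=
    fun Y n i hi => @DerCat.TStruct.isIso_homologyMap_mor₂ _ _ _ _ _
      (t.triangleLTGE_distinguished n Y) (n - 1)
      (inferInstance : t.IsLE ((t.truncLT n).obj Y) (n - 1)) i (by omega)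
  have hι : ∀ (Y : DerivedCategory A) (n i : ℤ), i < n → IsIso ((H i).map ((t.truncLTι n).app Y)) :=
    fun Y n i hi => @DerCat.TStruct.isIso_homologyMap_mor₁ _ _ _ _ _
      (t.triangleLTGE_distinguished n Y) n
      (inferInstance : t.IsGE ((t.truncGE n).obj Y) n) i hi
  let W := (t.truncLT (q + 1)).obj K
  let W' := (t.truncLT (q + 1)).obj K'
  have : t.IsLE W q := inferInstance
  have : t.IsLE W' q := inferInstance
  have : t.IsLE ((t.truncGE (q - 1)).obj W) q := inferInstance
  have : t.IsLE ((t.truncGE (q - 1)).obj W') q := inferInstance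
  have : t.IsLE ((t.truncGE q).obj W) q := inferInstance
  have : t.IsLE ((t.truncGE (q - 1)).obj ((t.truncLT q).obj K')) (q - 1) := inferInstance
  refine existsUnique_factor (M := (t.truncGE (q - 1)).obj W) (M' := (t.truncGE (q - 1)).obj W')
    (V := (t.truncGE q).obj W) (U := (t.truncGE (q - 1)).obj ((t.truncLT q).obj K')) q
    ((t.natTransTruncGEOfLE (q - 1) q (sub_one_lt q).le).app W) ?_
    ((t.truncGE (q - 1)).map ((t.natTransTruncLTOfLE q (q + 1) (lt_add_one q).le).app K')) ?_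
    ((t.truncGE (q - 1)).map ((t.truncLT (q + 1)).map f)) (fun i => ?_)
  · have := hπ W (q - 1) q (by omega)
    refine IsIso.of_isIso_fac_left (f := (H q).map ((t.truncGEπ (q - 1)).app W))
      (h := (H q).map ((t.truncGEπ q).app W)) (hh := hπ W q q le_rfl) ?_
    rw [← Functor.map_comp, t.π_natTransTruncGEOfLE_app]
  · let ν := (t.natTransTruncLTOfLE q (q + 1) (lt_add_one q).le).app K'
    have hν : IsIso ((H (q - 1)).map ν) := by
      have := hι K' (q + 1) (q - 1) (by omega)
      have : IsIso ((H (q - 1)).map ν ≫ (H (q - 1)).map ((t.truncLTι (q + 1)).app K')) := by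
        rw [← Functor.map_comp, t.natTransTruncLTOfLE_ι_app]
        exact hι K' q (q - 1) (by omega)
      exact IsIso.of_isIso_comp_right _ ((H (q - 1)).map ((t.truncLTι (q + 1)).app K'))
    have := hπ ((t.truncLT q).obj K') (q - 1) (q - 1) le_rfl
    have := hπ W' (q - 1) (q - 1) le_rfl
    have h : IsIso ((H (q - 1)).map ν ≫ (H (q - 1)).map ((t.truncGEπ (q - 1)).app W')) :=
      inferInstance
    refine IsIso.of_isIso_fac_left
      (f := (H (q - 1)).map ((t.truncGEπ (q - 1)).app ((t.truncLT q).obj K')))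
      (h := (H (q - 1)).map ν ≫ (H (q - 1)).map ((t.truncGEπ (q - 1)).app W')) (hh := h) ?_
    rw [← Functor.map_comp, ← Functor.map_comp]
    exact congrArg (H (q - 1)).map (t.truncGEπ_naturality (q - 1) ν)
  · refine DerCat.TStruct.homologyMap_truncGE_map_eq_zero _ _ i (fun hi => ?_)
    refine DerCat.TStruct.homologyMap_truncLT_map_eq_zero f _ i (fun hi' => ?_)
    obtain rfl | rfl : i = q - 1 ∨ i = q := by omega
    · exact h₁
    · exact h₂

end Groth.Agent.Lib.DerCat.TwoStep
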