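import Groth.Agent.Lib.DerCat.TStruct
import Mathlib.Algebra.Homology.DerivedCategory.SingleTriangle
import Mathlib.CategoryTheory.Abelian.DiagramLemmas.Four
import Mathlib.CategoryTheory.Triangulated.Functor

/-!
# Natural transformations between way-out functors
-/

universe w w' v v' u u'

open CategoryTheory CategoryTheory.Limits CategoryTheory.Pretriangulated DerivedCategory
open DerivedCategory.TStructure ComposableArrows

namespace Groth.Agent.Lib.DerCat.WayOutIso

set_option backward.isDefEq.respectTransparency false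

variable {A : Type u} [Category.{v} A] [Abelian A] [HasDerivedCategory.{w} A]
  {B : Type u'} [Category.{v'} B] [Abelian B] [HasDerivedCategory.{w'} B]

section Seq

variable {T T' : Triangle (DerivedCategory B)} (hT : T ∈ distTriang _) (hT' : T' ∈ distTriang _)
  (φ : T ⟶ T') (i j : ℤ) (hij : i + 1 = j)

lemma δ_naturality : HomologySequence.δ T i j hij ≫ (homologyFunctor B j).map φ.hom₁ =
    (homologyFunctor B i).map φ.hom₃ ≫ HomologySequence.δ T' i j hij :=
  ((homologyFunctor B 0).shiftMap_comp T.mor₃ φ.hom₁ i j (by omega)).symm.trans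
    ((congrArg (fun z => (homologyFunctor B 0).shiftMap z i j (by omega)) φ.comm₃).trans
      ((homologyFunctor B 0).shiftMap_comp' φ.hom₃ T'.mor₃ i j (by omega)))

include hT hT' hij

/-- The four lemma for monomorphisms on the first object. -/
lemma mono_hom₁ (h0 : Epi ((homologyFunctor B i).map φ.hom₂))
    (h1 : Mono ((homologyFunctor B i).map φ.hom₃)) (h3 : Mono ((homologyFunctor B j).map φ.hom₂)) :
    Mono ((homologyFunctor B j).map φ.hom₁) := by
  let R : ∀ U : Triangle (DerivedCategory B), ComposableArrows B 3 := fun U =>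
    mk₃ ((homologyFunctor B i).map U.mor₂) (HomologySequence.δ U i j hij)
      ((homologyFunctor B j).map U.mor₁)
  have hR : ∀ U ∈ distTriang (DerivedCategory B), (R U).Exact := fun U hU =>
    exact_of_δ₀ (HomologySequence.exact₃ U hU i j hij).exact_toComposableArrows
      (HomologySequence.exact₁ U hU i j hij).exact_toComposableArrows
  let ψ : R T ⟶ R T' := homMk₃ ((homologyFunctor B i).map φ.hom₂)
    ((homologyFunctor B i).map φ.hom₃) ((homologyFunctor B j).map φ.hom₁)
    ((homologyFunctor B j).map φ.hom₂)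
    (by change (homologyFunctor B i).map T.mor₂ ≫ _ = _ ≫ (homologyFunctor B i).map T'.mor₂
        rw [← Functor.map_comp, φ.comm₂, Functor.map_comp])
    (δ_naturality φ i j hij)
    (by change (homologyFunctor B j).map T.mor₁ ≫ _ = _ ≫ (homologyFunctor B j).map T'.mor₁
        rw [← Functor.map_comp, φ.comm₁, Functor.map_comp])
  exact Abelian.mono_of_epi_of_mono_of_mono ψ (hR T hT) (hR T' hT') h0 h1 h3

/-- The four lemma for epimorphisms on the first object. -/
lemma epi_hom₁ (h0 : Epi ((homologyFunctor B i).map φ.hom₃))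
    (h2 : Epi ((homologyFunctor B j).map φ.hom₂)) (h3 : Mono ((homologyFunctor B j).map φ.hom₃)) :
    Epi ((homologyFunctor B j).map φ.hom₁) := by
  let R : ∀ U : Triangle (DerivedCategory B), ComposableArrows B 3 := fun U =>
    mk₃ (HomologySequence.δ U i j hij) ((homologyFunctor B j).map U.mor₁)
      ((homologyFunctor B j).map U.mor₂)
  have hR : ∀ U ∈ distTriang (DerivedCategory B), (R U).Exact := fun U hU =>
    exact_of_δ₀ (HomologySequence.exact₁ U hU i j hij).exact_toComposableArrows
      (HomologySequence.exact₂ U hU j).exact_toComposableArrows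
  let ψ : R T ⟶ R T' := homMk₃ ((homologyFunctor B i).map φ.hom₃)
    ((homologyFunctor B j).map φ.hom₁) ((homologyFunctor B j).map φ.hom₂)
    ((homologyFunctor B j).map φ.hom₃)
    (δ_naturality φ i j hij)
    (by change (homologyFunctor B j).map T.mor₁ ≫ _ = _ ≫ (homologyFunctor B j).map T'.mor₁
        rw [← Functor.map_comp, φ.comm₁, Functor.map_comp])
    (by change (homologyFunctor B j).map T.mor₂ ≫ _ = _ ≫ (homologyFunctor B j).map T'.mor₂
        rw [← Functor.map_comp, φ.comm₂, Functor.map_comp])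
  exact Abelian.epi_of_epi_of_epi_of_mono ψ (hR T hT) (hR T' hT') h0 h2 h3

end Seq

variable (F G : DerivedCategory A ⥤ DerivedCategory B) [F.CommShift ℤ] [G.CommShift ℤ]
  (η : F ⟶ G) [NatTrans.CommShift η ℤ]

/-- The morphism of triangles given by `η`. -/
@[simps]
def ηT (T : Triangle (DerivedCategory A)) : F.mapTriangle.obj T ⟶ G.mapTriangle.obj T where
  hom₁ := η.app T.obj₁
  hom₂ := η.app T.obj₂
  hom₃ := η.app T.obj₃
  comm₁ := η.naturality _
  comm₂ := η.naturality _
  comm₃ := by
    change (F.map T.mor₃ ≫ (F.commShiftIso (1 : ℤ)).hom.app T.obj₁) ≫ _ =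
      η.app T.obj₃ ≫ G.map T.mor₃ ≫ (G.commShiftIso (1 : ℤ)).hom.app T.obj₁
    rw [Category.assoc, NatTrans.shift_app_comm η (1 : ℤ), ← Category.assoc,
      η.naturality, Category.assoc]

omit [F.CommShift ℤ] [G.CommShift ℤ] [NatTrans.CommShift η ℤ] in
lemma isIso_app_of_iso {X X' : DerivedCategory A} (e : X ≅ X') (h : IsIso (η.app X)) :
    IsIso (η.app X') :=
  (NatTrans.isIso_app_iff_of_iso η e).1 h

omit [F.CommShift ℤ] [G.CommShift ℤ] [NatTrans.CommShift η ℤ] in
lemma isIso_homology_of_map {X X' : DerivedCategory A} (f : X ⟶ X') (i : ℤ)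
    (hF : IsIso ((homologyFunctor B i).map (F.map f)))
    (hG : IsIso ((homologyFunctor B i).map (G.map f))) :
    IsIso ((homologyFunctor B i).map (η.app X)) ↔ IsIso ((homologyFunctor B i).map (η.app X')) := by
  have h : (homologyFunctor B i).map (F.map f) ≫ (homologyFunctor B i).map (η.app X') =
      (homologyFunctor B i).map (η.app X) ≫ (homologyFunctor B i).map (G.map f) := by
    rw [← Functor.map_comp, ← Functor.map_comp, η.naturality]
  rw [← isIso_comp_left_iff ((homologyFunctor B i).map (F.map f)) _, h, isIso_comp_right_iff]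

variable [F.IsTriangulated] [G.IsTriangulated]

lemma isIso_single {M : A} (h : IsIso (η.app ((singleFunctor A 0).obj M))) (n : ℤ) :
    IsIso (η.app ((singleFunctor A n).obj M)) := by
  have h' : IsIso (η.app (((singleFunctor A 0).obj M)⟦-n⟧)) := by
    rw [NatTrans.app_shift η (-n)]
    infer_instance
  exact isIso_app_of_iso F G η ((((singleFunctors A).shiftIso (-n) n 0 (by omega)).app M)) h'

variable (P : ObjectProperty A) [P.IsClosedUnderIsomorphisms]
  (hη : ∀ X : A, P X → IsIso (η.app ((singleFunctor A 0).obj X)))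

include hη

theorem isIso_of_isGE_of_isLE (a : ℤ) (hP0 : ∀ Z : A, IsZero Z → P Z) :
    ∀ (k : ℕ) (X : DerivedCategory A), X.IsGE a → X.IsLE (a + k - 1) →
      (∀ i, P ((homologyFunctor A i).obj X)) → IsIso (η.app X) := by
  intro k
  induction k with
  | zero =>
    intro X _ _ _
    have hz : IsZero X := t.isZero X (a + (0 : ℕ) - 1) a (by simp)
    exact ⟨⟨0, (F.map_isZero hz).eq_of_src _ _, (G.map_isZero hz).eq_of_src _ _⟩⟩
  | succ k ih =>
    intro X hGE hLE hX
    let b : ℤ := a + k
    let T := (t.triangleLTGE b).obj X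
    have hT : T ∈ distTriang _ := t.triangleLTGE_distinguished b X
    have h1 : IsIso (η.app T.obj₁) := by
      refine ih _ ?_ (t.isLE_truncLT_obj _ _ _ (by omega)) fun i => ?_
      · refine (isGE_iff _ _).2 fun i hi => ?_
        by_cases hib : i < b
        · have : IsIso ((homologyFunctor A i).map T.mor₁) :=
            @TStruct.isIso_homologyMap_mor₁ _ _ _ _ _ hT b
              (inferInstance : t.IsGE T.obj₃ b) i hib
          exact (isZero_of_isGE X a i hi).of_iso (asIso ((homologyFunctor A i).map T.mor₁))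
        · exact absurd (show i < b by omega) hib
      · by_cases hib : i < b
        · have : IsIso ((homologyFunctor A i).map T.mor₁) :=
            @TStruct.isIso_homologyMap_mor₁ _ _ _ _ _ hT b
              (inferInstance : t.IsGE T.obj₃ b) i hib
          exact P.prop_of_iso (asIso ((homologyFunctor A i).map T.mor₁)).symm (hX i)
        · exact hP0 _ (isZero_of_isLE ((t.truncLT b).obj X) (b - 1) i (by omega))
    have h3 : IsIso (η.app T.obj₃) := by
      have h2 : ∀ i, b - 1 < i → IsIso ((homologyFunctor A i).map T.mor₂) := fun i hi =>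
        @TStruct.isIso_homologyMap_mor₂ _ _ _ _ _ hT (b - 1)
          (inferInstance : t.IsLE T.obj₁ (b - 1)) i hi
      have : DerivedCategory.IsLE T.obj₃ b := (isLE_iff _ _).2 fun i hi => by
        have := h2 i (by omega)
        exact (isZero_of_isLE X (a + (k + 1 : ℕ) - 1) i (by omega)).of_iso
          (asIso ((homologyFunctor A i).map T.mor₂)).symm
      have : DerivedCategory.IsGE T.obj₃ b := (inferInstance : t.IsGE ((t.truncGE b).obj X) b)
      obtain ⟨M, ⟨e⟩⟩ := exists_iso_singleFunctor_obj_of_isGE_of_isLE T.obj₃ b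
      refine isIso_app_of_iso F G η e.symm (isIso_single F G η (hη _ ?_) b)
      have := h2 b (by omega)
      exact P.prop_of_iso (asIso ((homologyFunctor A b).map T.mor₂) ≪≫
        (homologyFunctor A b).mapIso e ≪≫ (singleFunctorCompHomologyFunctorIso A b).app M) (hX b)
    exact isIso₂_of_isIso₁₃ (ηT F G η T) (F.map_distinguished _ hT) (G.map_distinguished _ hT)
      h1 h3

theorem isIso_of_bounded (X : DerivedCategory A) (a b : ℤ) [X.IsGE a] [X.IsLE b]
    (hX : ∀ i, P ((homologyFunctor A i).obj X)) : IsIso (η.app X) := by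
  have hP0 : ∀ Z : A, IsZero Z → P Z := fun Z hZ =>
    P.prop_of_iso ((isZero_of_isGE X a (a - 1) (by omega)).iso hZ) (hX (a - 1))
  refine isIso_of_isGE_of_isLE F G η P hη a hP0 (b - a + 1).toNat X inferInstance ?_ hX
  exact t.isLE_of_le X b _ (by omega)

variable (hF : ∀ n₁ : ℤ, ∃ n₂ : ℤ, ∀ Y : DerivedCategory A, Y.IsGE n₂ → (F.obj Y).IsGE n₁)
  (hG : ∀ n₁ : ℤ, ∃ n₂ : ℤ, ∀ Y : DerivedCategory A, Y.IsGE n₂ → (G.obj Y).IsGE n₁)

include hF hG

theorem isIso_of_isGE (hP0 : ∀ Z : A, IsZero Z → P Z) (X : DerivedCategory A) (a : ℤ) [X.IsGE a]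
    (hX : ∀ i, P ((homologyFunctor A i).obj X)) : IsIso (η.app X) := by
  rw [DerivedCategory.isIso_iff]
  intro i
  obtain ⟨p, hp⟩ := hF (i + 2)
  obtain ⟨q, hq⟩ := hG (i + 2)
  let n := max p q
  let T := (t.triangleLTGE n).obj X
  have hT : T ∈ distTriang _ := t.triangleLTGE_distinguished n X
  have hGE : t.IsGE T.obj₃ n := inferInstance
  have h3F : (F.obj T.obj₃).IsGE (i + 2) := hp _ (t.isGE_of_ge T.obj₃ p n (le_max_left p q))
  have h3G : (G.obj T.obj₃).IsGE (i + 2) := hq _ (t.isGE_of_ge T.obj₃ q n (le_max_right p q))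
  have eF : IsIso ((homologyFunctor B i).map (F.map T.mor₁)) :=
    @TStruct.isIso_homologyMap_mor₁ _ _ _ _ _ (F.map_distinguished _ hT) (i + 2) h3F i (by omega)
  have eG : IsIso ((homologyFunctor B i).map (G.map T.mor₁)) :=
    @TStruct.isIso_homologyMap_mor₁ _ _ _ _ _ (G.map_distinguished _ hT) (i + 2) h3G i (by omega)
  refine (isIso_homology_of_map F G η T.mor₁ i eF eG).1 ?_
  have : IsIso (η.app T.obj₁) := by
    have hiso : ∀ j, j < n → IsIso ((homologyFunctor A j).map T.mor₁) := fun j hj =>
      @TStruct.isIso_homologyMap_mor₁ _ _ _ _ _ hT n hGE j hj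
    have hzero : ∀ j, n ≤ j → IsZero ((homologyFunctor A j).obj T.obj₁) := fun j hj =>
      isZero_of_isLE ((t.truncLT n).obj X) (n - 1) j (by omega)
    have : DerivedCategory.IsGE T.obj₁ a := (isGE_iff _ _).2 fun j hj => by
      by_cases h : j < n
      · have := hiso j h
        exact (isZero_of_isGE X a j hj).of_iso (asIso ((homologyFunctor A j).map T.mor₁))
      · exact hzero j (by omega)
    have : DerivedCategory.IsLE T.obj₁ (n - 1) :=
      (inferInstance : t.IsLE ((t.truncLT n).obj X) (n - 1))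
    refine isIso_of_bounded F G η P hη T.obj₁ a (n - 1) fun j => ?_
    by_cases h : j < n
    · have := hiso j h
      exact P.prop_of_iso (asIso ((homologyFunctor A j).map T.mor₁)).symm (hX j)
    · exact hP0 _ (hzero j (by omega))
  infer_instance

omit hF hG

variable (hF' : ∀ n₁ : ℤ, ∃ n₂ : ℤ, ∀ Y : DerivedCategory A, Y.IsLE n₂ → (F.obj Y).IsLE n₁)
  (hG' : ∀ n₁ : ℤ, ∃ n₂ : ℤ, ∀ Y : DerivedCategory A, Y.IsLE n₂ → (G.obj Y).IsLE n₁)

include hF' hG'

theorem isIso_of_isLE (hP0 : ∀ Z : A, IsZero Z → P Z) (X : DerivedCategory A) (b : ℤ) [X.IsLE b]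
    (hX : ∀ i, P ((homologyFunctor A i).obj X)) : IsIso (η.app X) := by
  rw [DerivedCategory.isIso_iff]
  intro i
  obtain ⟨p, hp⟩ := hF' (i - 2)
  obtain ⟨q, hq⟩ := hG' (i - 2)
  let n := min p q + 1
  let T := (t.triangleLTGE n).obj X
  have hT : T ∈ distTriang _ := t.triangleLTGE_distinguished n X
  have hLE : t.IsLE T.obj₁ (n - 1) := inferInstance
  have h1F : (F.obj T.obj₁).IsLE (i - 2) := hp _ (t.isLE_of_le T.obj₁ (n - 1) p (by omega))
  have h1G : (G.obj T.obj₁).IsLE (i - 2) := hq _ (t.isLE_of_le T.obj₁ (n - 1) q (by omega))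
  have eF : IsIso ((homologyFunctor B i).map (F.map T.mor₂)) :=
    @TStruct.isIso_homologyMap_mor₂ _ _ _ _ _ (F.map_distinguished _ hT) (i - 2) h1F i (by omega)
  have eG : IsIso ((homologyFunctor B i).map (G.map T.mor₂)) :=
    @TStruct.isIso_homologyMap_mor₂ _ _ _ _ _ (G.map_distinguished _ hT) (i - 2) h1G i (by omega)
  refine (isIso_homology_of_map F G η T.mor₂ i eF eG).2 ?_
  have : IsIso (η.app T.obj₃) := by
    have hiso : ∀ j, n - 1 < j → IsIso ((homologyFunctor A j).map T.mor₂) := fun j hj =>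
      @TStruct.isIso_homologyMap_mor₂ _ _ _ _ _ hT (n - 1) hLE j hj
    have hzero : ∀ j, j < n → IsZero ((homologyFunctor A j).obj T.obj₃) := fun j hj =>
      isZero_of_isGE ((t.truncGE n).obj X) n j hj
    have : DerivedCategory.IsLE T.obj₃ b := (isLE_iff _ _).2 fun j hj => by
      by_cases h : j < n
      · exact hzero j h
      · have := hiso j (by omega)
        exact (isZero_of_isLE X b j hj).of_iso (asIso ((homologyFunctor A j).map T.mor₂)).symm
    have : DerivedCategory.IsGE T.obj₃ n := (inferInstance : t.IsGE ((t.truncGE n).obj X) n)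
    refine isIso_of_bounded F G η P hη T.obj₃ n b fun j => ?_
    by_cases h : j < n
    · exact hP0 _ (hzero j h)
    · have := hiso j (by omega)
      exact P.prop_of_iso (asIso ((homologyFunctor A j).map T.mor₂)) (hX j)
  infer_instance

include hF hG

theorem isIso_of_wayOut (hP0 : ∀ Z : A, IsZero Z → P Z) (X : DerivedCategory A)
    (hX : ∀ i, P ((homologyFunctor A i).obj X)) : IsIso (η.app X) := by
  let T := (t.triangleLTGE 0).obj X
  have hT : T ∈ distTriang _ := t.triangleLTGE_distinguished 0 X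
  have hLE : DerivedCategory.IsLE T.obj₁ (0 - 1) :=
    (inferInstance : t.IsLE ((t.truncLT 0).obj X) (0 - 1))
  have hGE : DerivedCategory.IsGE T.obj₃ 0 := (inferInstance : t.IsGE ((t.truncGE 0).obj X) 0)
  have h1 : IsIso (η.app T.obj₁) := by
    refine isIso_of_isLE F G η P hη hF' hG' hP0 T.obj₁ (0 - 1) fun j => ?_
    by_cases h : j < 0
    · have := @TStruct.isIso_homologyMap_mor₁ _ _ _ _ _ hT 0 hGE j h
      exact P.prop_of_iso (asIso ((homologyFunctor A j).map T.mor₁)).symm (hX j)
    · exact hP0 _ (isZero_of_isLE T.obj₁ (0 - 1) j (by omega))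
  have h3 : IsIso (η.app T.obj₃) := by
    refine isIso_of_isGE F G η P hη hF hG hP0 T.obj₃ 0 fun j => ?_
    by_cases h : j < 0
    · exact hP0 _ (isZero_of_isGE T.obj₃ 0 j h)
    · have := @TStruct.isIso_homologyMap_mor₂ _ _ _ _ _ hT (0 - 1) hLE j (by omega)
      exact P.prop_of_iso (asIso ((homologyFunctor A j).map T.mor₂)) (hX j)
  exact isIso₂_of_isIso₁₃ (ηT F G η T) (F.map_distinguished _ hT) (G.map_distinguished _ hT) h1 h3

omit hη hF' hG' hF hG

omit [P.IsClosedUnderIsomorphisms] in
/-- Extending from a class of objects with enough objects. -/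
theorem isIso_single_of_cogenerating (hP : ∀ X : A, ∃ (Y : A) (i : X ⟶ Y), P Y ∧ Mono i)
    (hF : ∀ n₁ : ℤ, ∃ n₂ : ℤ, ∀ Y : DerivedCategory A, Y.IsGE n₂ → (F.obj Y).IsGE n₁)
    (hG : ∀ n₁ : ℤ, ∃ n₂ : ℤ, ∀ Y : DerivedCategory A, Y.IsGE n₂ → (G.obj Y).IsGE n₁)
    (hη : ∀ X : A, P X → IsIso (η.app ((singleFunctor A 0).obj X))) (X : A) :
    IsIso (η.app ((singleFunctor A 0).obj X)) := by
  obtain ⟨p, hp⟩ := hF 0
  obtain ⟨q, hq⟩ := hG 0
  let m := max p q
  have hlow : ∀ (H : DerivedCategory A ⥤ DerivedCategory B) [H.CommShift ℤ] (n : ℤ),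
      (∀ Y : DerivedCategory A, Y.IsGE n → (H.obj Y).IsGE 0) → n ≤ m → ∀ (M : A) (i : ℤ), i < -m →
      IsZero ((homologyFunctor B i).obj (H.obj ((singleFunctor A 0).obj M))) := by
    intro H _ n hn hnm M i hi
    let Y := ((singleFunctor A 0).obj M)⟦-m⟧
    have hYm : t.IsGE Y m := t.isGE_shift _ 0 (-m) m (by omega)
    have := hn Y (t.isGE_of_ge Y n m hnm)
    have hz : IsZero ((homologyFunctor B (i + m)).obj ((H.obj ((singleFunctor A 0).obj M))⟦-m⟧)) :=
      (isZero_of_isGE (H.obj Y) 0 (i + m) (by omega)).of_iso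
        ((homologyFunctor B (i + m)).mapIso ((H.commShiftIso (-m)).app _)).symm
    exact hz.of_iso (((homologyFunctor B 0).shiftIso (-m) (i + m) i (by omega)).app _).symm
  suffices h : ∀ (k : ℕ) (M : A),
      (∀ i : ℤ, i < -m + k → IsIso ((homologyFunctor B i).map (η.app ((singleFunctor A 0).obj M)))) by
    rw [DerivedCategory.isIso_iff]
    exact fun i => h (i + m + 1).toNat X i (by omega)
  intro k
  induction k with
  | zero =>
    intro M i hi
    exact ⟨⟨0, (hlow F p hp (le_max_left p q) M i (by omega)).eq_of_src _ _,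
      (hlow G q hq (le_max_right p q) M i (by omega)).eq_of_src _ _⟩⟩
  | succ k ih =>
    have hmono : ∀ (M : A) (i : ℤ), i < -m + (k + 1 : ℕ) →
        Mono ((homologyFunctor B i).map (η.app ((singleFunctor A 0).obj M))) := by
      intro M i hi
      obtain ⟨Y, ι, hY, hι⟩ := hP M
      have hS : (ShortComplex.mk ι (cokernel.π ι) (cokernel.condition ι)).ShortExact :=
        { exact := ShortComplex.exact_of_g_is_cokernel _ (cokernelIsCokernel ι) }
      have := hη Y hY
      have := ih (cokernel ι) (i - 1) (by omega)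
      exact mono_hom₁ (F.map_distinguished _ hS.singleTriangle_distinguished)
        (G.map_distinguished _ hS.singleTriangle_distinguished) (ηT F G η hS.singleTriangle)
        (i - 1) i (by omega) (inferInstanceAs (Epi ((homologyFunctor B (i - 1)).map (η.app ((singleFunctor A 0).obj Y)))))
        (inferInstanceAs (Mono ((homologyFunctor B (i - 1)).map (η.app ((singleFunctor A 0).obj (cokernel ι))))))
        (inferInstanceAs (Mono ((homologyFunctor B i).map (η.app ((singleFunctor A 0).obj Y)))))
    intro M i hi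
    obtain ⟨Y, ι, hY, hι⟩ := hP M
    have hS : (ShortComplex.mk ι (cokernel.π ι) (cokernel.condition ι)).ShortExact :=
      { exact := ShortComplex.exact_of_g_is_cokernel _ (cokernelIsCokernel ι) }
    have := hη Y hY
    have := ih (cokernel ι) (i - 1) (by omega)
    have := hmono M i hi
    have : Epi ((homologyFunctor B i).map (η.app ((singleFunctor A 0).obj M))) :=
      epi_hom₁ (F.map_distinguished _ hS.singleTriangle_distinguished)
        (G.map_distinguished _ hS.singleTriangle_distinguished) (ηT F G η hS.singleTriangle)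
        (i - 1) i (by omega)
        (inferInstanceAs (Epi ((homologyFunctor B (i - 1)).map (η.app ((singleFunctor A 0).obj (cokernel ι))))))
        (inferInstanceAs (Epi ((homologyFunctor B i).map (η.app ((singleFunctor A 0).obj Y)))))
        (hmono (cokernel ι) i hi)
    exact isIso_of_mono_of_epi _

end Groth.Agent.Lib.DerCat.WayOutIso
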